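import Groth.Agent.Lambda.Filtration
import Mathlib.RingTheory.Polynomial.Vieta

/-!
# Alternating sums of elementary symmetric functions and `λ_{-1}`
-/

set_option autoImplicit false

open Finset LambdaRing

namespace Groth.Agent.Lambda

universe u

theorem esymm_card {R : Type*} [CommSemiring R] (s : Multiset R) : s.esymm (Multiset.card s) = s.prod := by
  induction s using Multiset.induction_on with
  | empty => simp [Multiset.esymm]
  | cons a s ih =>
    have : Multiset.powersetCard (Multiset.card s + 1) s = 0 := Multiset.powersetCard_eq_empty _ (Nat.lt_succ_self _)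
    simp only [Multiset.esymm, Multiset.card_cons, Multiset.powersetCard_cons, Multiset.map_add,
      Multiset.map_map, Multiset.sum_add, this, Multiset.map_zero, Multiset.sum_zero, zero_add,
      Function.comp_def, Multiset.prod_cons, Multiset.sum_map_mul_left]
    rw [← Multiset.esymm, ih]

theorem sum_neg_one_pow_esymm {R : Type*} [CommRing R] (s : Multiset R) :
    ∑ i ∈ range (Multiset.card s + 1), (-1 : R) ^ i * s.esymm i = (s.map fun u => 1 - u).prod := by
  have h := Multiset.prod_X_add_C_eq_sum_esymm (s.map fun u => -u)
  have := congrArg (Polynomial.eval 1) h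
  rw [Polynomial.eval_multiset_prod, Multiset.map_map, Multiset.map_map, Polynomial.eval_finsetSum,
    Multiset.card_map] at this
  have e : Multiset.map ((Polynomial.eval 1) ∘ (fun x => Polynomial.X + Polynomial.C x) ∘ fun u => -u) s =
      Multiset.map (fun u => 1 - u) s :=
    Multiset.map_congr rfl fun u _ => by simp [sub_eq_add_neg]
  rw [← e]
  refine Eq.trans ?_ this.symm
  refine sum_congr rfl fun i _ => ?_
  simp [Multiset.esymm_neg]

variable {K : Type u} [CommRing K] [LambdaOps K] {P : PosStructure K}

theorem lamAlt_eq_gamma (hK : HasSplitting K P) {q : K} (hq : q ∈ P.pos) :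
    ∑ i ∈ range ((P.aug q).toNat + 1), (-1 : K) ^ i * LambdaOps.lam i q =
      (-1) ^ (P.aug q).toNat * gamma (P.aug q).toNat (q - ((P.aug q).toNat : K)) := by
  obtain ⟨L, f, -, hf, s, hs, hse⟩ := exists_split_pos hK hq
  refine hf.injective ?_
  have hcard := card_split hf hs hse
  simp only [map_mul, map_pow, map_neg, map_one, map_sum, map_lam_split hf hs hse]
  rw [map_gamma_split hf hs hse, hcard, sum_neg_one_pow_esymm]
  have h2 := esymm_card (s.map fun u => u - 1)
  rw [Multiset.card_map] at h2
  rw [h2]
  have hmap : (s.map fun u : L.carrier => 1 - u) = (s.map fun u => (-1) * (u - 1)) :=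
    Multiset.map_congr rfl fun u _ => by ring
  rw [hmap, Multiset.prod_map_mul, Multiset.map_const', Multiset.prod_replicate]

end Groth.Agent.Lambda
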