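import Mathlib.RingTheory.PowerSeries.Inverse
import Mathlib.RingTheory.PowerSeries.Derivative
import Mathlib.RingTheory.MvPolynomial.Symmetric.Defs
import Mathlib.Algebra.BigOperators.NatAntidiagonal
import Mathlib.Algebra.Algebra.Rat

/-!
# Logarithmic derivatives of power series with constant term `1` and Newton's identities

`psi A k` is the `k`-th power sum attached to `A` (so `psi (∏ (1 + rᵢ t)) k = ∑ rᵢ ^ k`); over a `ℚ`-algebra
`fromPsi p` is the series with constant term `1` and power sums `p`.
-/

set_option autoImplicit false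

open PowerSeries Finset

namespace Groth.Agent.Lambda

variable {R S : Type*} [CommRing R] [CommRing S]

/-- The logarithmic derivative. -/
noncomputable def logD (A : PowerSeries R) : PowerSeries R := PowerSeries.derivative R A * invOfUnit A 1

/-- The power sums of a series: `logD A = ∑ (-1)^k psi A (k+1) t^k`. -/
noncomputable def psi (A : PowerSeries R) : ℕ → R
  | 0 => 0
  | k + 1 => (-1) ^ k * coeff k (logD A)

theorem neg_one_pow_mul_self (k : ℕ) (a : R) : (-1 : R) ^ k * ((-1) ^ k * a) = a := by
  rw [← mul_assoc, ← pow_add, Even.neg_one_pow ⟨k, rfl⟩, one_mul]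

theorem logD_mul_self {A : PowerSeries R} (h : constantCoeff A = 1) :
    logD A * A = PowerSeries.derivative R A := by
  rw [logD, mul_assoc, invOfUnit_mul A 1 (by simpa using h), mul_one]

/-- Newton's identities. -/
theorem newton {A : PowerSeries R} (h : constantCoeff A = 1) (n : ℕ) :
    coeff (n + 1) A * ((n : R) + 1) =
      ∑ k ∈ range (n + 1), (-1) ^ k * psi A (k + 1) * coeff (n - k) A := by
  rw [← coeff_derivative, ← logD_mul_self h, coeff_mul, Nat.sum_antidiagonal_eq_sum_range_succ_mk]
  exact sum_congr rfl fun k _ => by rw [psi, neg_one_pow_mul_self]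

theorem psi_succ_eq {A : PowerSeries R} (h : constantCoeff A = 1) (p : ℕ → R)
    (hp : ∀ n, coeff (n + 1) A * ((n : R) + 1) =
      ∑ k ∈ range (n + 1), (-1) ^ k * p (k + 1) * coeff (n - k) A) (k : ℕ) :
    psi A (k + 1) = p (k + 1) := by
  have hL : (PowerSeries.mk fun k => (-1) ^ k * p (k + 1)) * A = PowerSeries.derivative R A := by
    ext n
    rw [coeff_derivative, hp, coeff_mul, Nat.sum_antidiagonal_eq_sum_range_succ_mk]
    simp only [coeff_mk]
  rw [psi, logD, ← hL, mul_assoc, mul_invOfUnit A 1 (by simpa using h), mul_one, coeff_mk,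
    neg_one_pow_mul_self]

theorem psi_one_eq {A : PowerSeries R} (h : constantCoeff A = 1) : psi A 1 = coeff 1 A := by
  have := newton h 0
  simpa [h] using this.symm

theorem psi_congr {A B : PowerSeries R} (hA : constantCoeff A = 1) (hB : constantCoeff B = 1) :
    ∀ n : ℕ, (∀ i ≤ n, coeff i A = coeff i B) → psi A n = psi B n
  | 0, _ => rfl
  | n + 1, h => by
    have e1 := newton hA n
    have e2 := newton hB n
    rw [sum_range_succ] at e1 e2
    have hs : ∑ k ∈ range n, (-1) ^ k * psi A (k + 1) * coeff (n - k) A =
        ∑ k ∈ range n, (-1) ^ k * psi B (k + 1) * coeff (n - k) B := by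
      refine sum_congr rfl fun k hk => ?_
      have hlt : k < n := mem_range.1 hk
      rw [h (n - k) (by omega), psi_congr hA hB (k + 1) fun i hi => h i (by omega)]
    rw [h (n + 1) le_rfl, e2, hs, add_right_inj] at e1
    simp only [Nat.sub_self, coeff_zero_eq_constantCoeff_apply, hA, hB, mul_one] at e1
    have := congrArg ((-1 : R) ^ n * ·) e1
    simp only [neg_one_pow_mul_self] at this
    exact this.symm

theorem constantCoeff_mul_one {A B : PowerSeries R} (hA : constantCoeff A = 1)
    (hB : constantCoeff B = 1) : constantCoeff (A * B) = 1 := by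
  rw [map_mul, hA, hB, one_mul]

theorem logD_mul {A B : PowerSeries R} (hA : constantCoeff A = 1) (hB : constantCoeff B = 1) :
    logD (A * B) = logD A + logD B := by
  have ha := mul_invOfUnit A 1 (by simpa using hA)
  have hb := mul_invOfUnit B 1 (by simpa using hB)
  have hab : invOfUnit (A * B) 1 = invOfUnit A 1 * invOfUnit B 1 :=
    left_inv_eq_right_inv (invOfUnit_mul (A * B) 1 (by simp [hA, hB]))
      (by rw [mul_mul_mul_comm, ha, hb, one_mul])
  rw [logD, logD, logD, hab, Derivation.leibniz, smul_eq_mul, smul_eq_mul]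
  linear_combination (PowerSeries.derivative R B * invOfUnit B 1) * ha +
    (PowerSeries.derivative R A * invOfUnit A 1) * hb

theorem psi_mul {A B : PowerSeries R} (hA : constantCoeff A = 1) (hB : constantCoeff B = 1) (k : ℕ) :
    psi (A * B) k = psi A k + psi B k := by
  cases k with
  | zero => simp [psi]
  | succ k => simp [psi, logD_mul hA hB, mul_add]

@[simp] theorem psi_one (k : ℕ) : psi (1 : PowerSeries R) k = 0 := by
  cases k with
  | zero => rfl
  | succ k => simp [psi, logD]

theorem map_invOfUnit (f : R →+* S) {A : PowerSeries R} (hA : constantCoeff A = 1) :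
    PowerSeries.map f (invOfUnit A 1) = invOfUnit (PowerSeries.map f A) 1 := by
  refine left_inv_eq_right_inv (a := PowerSeries.map f A) ?_ (mul_invOfUnit _ 1 ?_)
  · rw [← map_mul, invOfUnit_mul A 1 (by simpa using hA), map_one]
  · rw [← coeff_zero_eq_constantCoeff_apply, coeff_map, coeff_zero_eq_constantCoeff_apply, hA]
    simp

theorem psi_map (f : R →+* S) {A : PowerSeries R} (hA : constantCoeff A = 1) (k : ℕ) :
    f (psi A k) = psi (PowerSeries.map f A) k := by
  cases k with
  | zero => simp [psi]
  | succ k =>
    have hd : PowerSeries.derivative S (PowerSeries.map f A) =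
        PowerSeries.map f (PowerSeries.derivative R A) := by
      ext n; simp [coeff_derivative]
    rw [psi, psi, logD, logD, hd, ← map_invOfUnit f hA, ← map_mul, coeff_map, map_mul, map_pow, map_neg,
      map_one]

/-- The series `1 + r t`. -/
noncomputable def lin (r : R) : PowerSeries R := 1 + PowerSeries.C r * PowerSeries.X

@[simp] theorem constantCoeff_lin (r : R) : constantCoeff (lin r) = 1 := by simp [lin]

theorem coeff_lin_mul (r : R) (A : PowerSeries R) (n : ℕ) :
    coeff (n + 1) (lin r * A) = coeff (n + 1) A + r * coeff n A := by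
  simp [lin, add_mul, mul_assoc, coeff_succ_X_mul]

theorem psi_lin (r : R) (k : ℕ) : psi (lin r) (k + 1) = r ^ (k + 1) := by
  refine psi_succ_eq (constantCoeff_lin r) (fun j => r ^ j) (fun n => ?_) k
  have hc : ∀ m, coeff m (lin r) = if m = 0 then 1 else if m = 1 then r else 0 := by
    intro m
    rcases m with _ | m
    · simp
    · have := coeff_lin_mul r 1 m
      rcases m with _ | m <;> simpa using this
  rcases n with _ | n
  · simp [hc]
  · rw [sum_range_succ, sum_range_succ, sum_eq_zero]
    · simp [hc, pow_succ]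
      ring
    · intro k hk
      rw [mem_range] at hk
      simp [hc, show ¬ n + 1 - k = 0 by omega, show ¬ n + 1 - k = 1 by omega]

/-- The series `∏ (1 + rᵢ t)`. -/
noncomputable def linProd (s : Multiset R) : PowerSeries R := (s.map lin).prod

@[simp] theorem constantCoeff_linProd (s : Multiset R) : constantCoeff (linProd s) = 1 := by
  induction s using Multiset.induction_on with
  | empty => simp [linProd]
  | cons a s ih => rw [linProd, Multiset.map_cons, Multiset.prod_cons, ← linProd, map_mul, ih]; simp

theorem psi_linProd (s : Multiset R) (k : ℕ) :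
    psi (linProd s) (k + 1) = (s.map fun r => r ^ (k + 1)).sum := by
  induction s using Multiset.induction_on with
  | empty => simp [linProd]
  | cons a s ih =>
    rw [linProd, Multiset.map_cons, Multiset.prod_cons, ← linProd,
      psi_mul (constantCoeff_lin a) (constantCoeff_linProd s), psi_lin, ih, Multiset.map_cons,
      Multiset.sum_cons]

theorem coeff_linProd (s : Multiset R) (n : ℕ) : coeff n (linProd s) = s.esymm n := by
  induction s using Multiset.induction_on generalizing n with
  | empty =>
    rcases n with _ | n <;> simp [linProd, Multiset.esymm, Multiset.powersetCard_zero_right]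
  | cons a s ih =>
    rcases n with _ | n
    · simp [Multiset.esymm]
    · rw [linProd, Multiset.map_cons, Multiset.prod_cons, ← linProd, coeff_lin_mul, ih, ih]
      simp [Multiset.esymm, Multiset.powersetCard_cons, Multiset.sum_map_mul_left]

section rat

variable {K L : Type*} [CommRing K] [Algebra ℚ K] [CommRing L] [Algebra ℚ L]

theorem rat_succ_mul (n : ℕ) (a : K) :
    algebraMap ℚ K (1 / ((n : ℚ) + 1)) * (a * ((n : K) + 1)) = a := by
  have h1 : ((n : K) + 1) = algebraMap ℚ K ((n : ℚ) + 1) := by simp
  rw [mul_left_comm, h1, ← map_mul, one_div, inv_mul_cancel₀ (by positivity), map_one, mul_one]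

/-- The coefficients of the series with given power sums. -/
noncomputable def fc (p : ℕ → K) : ℕ → K
  | 0 => 1
  | n + 1 => algebraMap ℚ K (1 / ((n : ℚ) + 1)) *
      ∑ k : Fin (n + 1), (-1) ^ (k : ℕ) * p ((k : ℕ) + 1) * fc p (n - k)
  decreasing_by omega

/-- The series with constant term `1` and power sums `p`. -/
noncomputable def fromPsi (p : ℕ → K) : PowerSeries K := PowerSeries.mk (fc p)

theorem fc_zero (p : ℕ → K) : fc p 0 = 1 := by rw [fc]

theorem fc_succ (p : ℕ → K) (n : ℕ) : fc p (n + 1) = algebraMap ℚ K (1 / ((n : ℚ) + 1)) *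
    ∑ k ∈ range (n + 1), (-1) ^ k * p (k + 1) * fc p (n - k) := by
  rw [fc, Fin.sum_univ_eq_sum_range (fun k => (-1) ^ k * p (k + 1) * fc p (n - k))]

@[simp] theorem constantCoeff_fromPsi (p : ℕ → K) : constantCoeff (fromPsi p) = 1 := by
  rw [← coeff_zero_eq_constantCoeff_apply, fromPsi, coeff_mk, fc_zero]

theorem fromPsi_unique {A : PowerSeries K} (hA : constantCoeff A = 1) (p : ℕ → K) :
    ∀ n, (∀ i < n, psi A (i + 1) = p (i + 1)) → coeff n A = fc p n
  | 0, _ => by rw [fc_zero, coeff_zero_eq_constantCoeff_apply, hA]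
  | n + 1, h => by
    rw [fc_succ, ← rat_succ_mul n (coeff (n + 1) A), newton hA]
    refine congrArg _ (sum_congr rfl fun k hk => ?_)
    rw [mem_range] at hk
    rw [h k hk, fromPsi_unique hA p (n - k) fun i hi => h i (by omega)]

theorem psi_fromPsi (p : ℕ → K) (k : ℕ) : psi (fromPsi p) (k + 1) = p (k + 1) := by
  refine psi_succ_eq (constantCoeff_fromPsi p) p (fun n => ?_) k
  simp only [fromPsi, coeff_mk]
  conv_lhs => rw [fc_succ, mul_comm (algebraMap ℚ K _), mul_assoc]
  have := rat_succ_mul (K := K) n 1
  rw [one_mul] at this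
  rw [this, mul_one]

theorem ext_psi {A B : PowerSeries K} (hA : constantCoeff A = 1) (hB : constantCoeff B = 1)
    (h : ∀ k, psi A (k + 1) = psi B (k + 1)) : A = B := by
  ext n
  rw [fromPsi_unique hA (psi B) n fun i _ => h i, fromPsi_unique hB (psi B) n fun i _ => rfl]

theorem fromPsi_psi {A : PowerSeries K} (hA : constantCoeff A = 1) : fromPsi (psi A) = A :=
  ext_psi (constantCoeff_fromPsi _) hA fun k => psi_fromPsi _ k

theorem fromPsi_add (p q : ℕ → K) : fromPsi (p + q) = fromPsi p * fromPsi q :=
  ext_psi (constantCoeff_fromPsi _)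
    (constantCoeff_mul_one (constantCoeff_fromPsi p) (constantCoeff_fromPsi q)) fun k => by
      rw [psi_fromPsi, psi_mul (constantCoeff_fromPsi p) (constantCoeff_fromPsi q), psi_fromPsi,
        psi_fromPsi, Pi.add_apply]

theorem fc_congr (p q : ℕ → K) (n : ℕ) (h : ∀ i < n, p (i + 1) = q (i + 1)) : fc p n = fc q n := by
  have := fromPsi_unique (constantCoeff_fromPsi p) q n fun i hi => by rw [psi_fromPsi, h i hi]
  rwa [fromPsi, coeff_mk] at this

theorem map_fc (f : K →+* L) (p : ℕ → K) : ∀ n, f (fc p n) = fc (fun i => f (p i)) n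
  | 0 => by simp [fc_zero]
  | n + 1 => by
    rw [fc_succ, fc_succ, map_mul, map_sum, RingHom.map_rat_algebraMap]
    refine congrArg _ (sum_congr rfl fun k _ => ?_)
    rw [map_mul, map_mul, map_pow, map_neg, map_one, map_fc f p (n - k)]

theorem map_fromPsi (f : K →+* L) (p : ℕ → K) :
    PowerSeries.map f (fromPsi p) = fromPsi (fun i => f (p i)) := by
  ext n; simp [fromPsi, map_fc]

end rat

end Groth.Agent.Lambda
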