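import Groth.Prelude.Def_LambdaSp
import Groth.Agent.Lambda.Series
import Mathlib.RingTheory.MvPolynomial.Symmetric.FundamentalTheorem

/-!
# The universal polynomials `P_n` and `Q_{i,j}` of λ-rings as Newton series
-/

set_option autoImplicit false

open Finset

namespace Groth.Agent.Lambda

section ser

variable {S T : Type*} [CommRing S] [CommRing T] {N : ℕ}

/-- The series `1 + ∑_{k < N} a_k t^(k+1)`. -/
noncomputable def ser (a : Fin N → S) : PowerSeries S :=
  PowerSeries.mk fun m => match m with
    | 0 => 1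
    | m + 1 => if h : m < N then a ⟨m, h⟩ else 0

@[simp] theorem constantCoeff_ser (a : Fin N → S) : PowerSeries.constantCoeff (ser a) = 1 := by
  rw [← PowerSeries.coeff_zero_eq_constantCoeff_apply, ser, PowerSeries.coeff_mk]

theorem coeff_ser (a : Fin N → S) {m : ℕ} (h : m < N) : PowerSeries.coeff (m + 1) (ser a) = a ⟨m, h⟩ := by
  simp [ser, h]

theorem coeff_ser_of_le (a : Fin N → S) {m : ℕ} (h : N ≤ m) : PowerSeries.coeff (m + 1) (ser a) = 0 := by
  simp [ser, show ¬ m < N by omega]

theorem map_ser (f : S →+* T) (a : Fin N → S) :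
    PowerSeries.map f (ser a) = ser (fun i => f (a i)) := by
  ext m
  rcases m with _ | m
  · simp
  · rw [PowerSeries.coeff_map]
    by_cases h : m < N
    · rw [coeff_ser a h, coeff_ser _ h]
    · rw [coeff_ser_of_le a (by omega), coeff_ser_of_le _ (by omega), map_zero]

theorem map_psi_ser (f : S →+* T) (a : Fin N → S) (k : ℕ) :
    f (psi (ser a) k) = psi (ser fun i => f (a i)) k := by
  rw [psi_map f (constantCoeff_ser a), map_ser]

/-- A series `A` agrees up to degree `N` with `ser` of its coefficients. -/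
theorem psi_ser_eq {A : PowerSeries S} (hA : PowerSeries.constantCoeff A = 1) {a : Fin N → S}
    (ha : ∀ i : Fin N, a i = PowerSeries.coeff ((i : ℕ) + 1) A) {k : ℕ} (hk : k ≤ N) :
    psi (ser a) k = psi A k := by
  refine psi_congr (constantCoeff_ser a) hA k fun i hi => ?_
  rcases i with _ | i
  · simp [hA]
  · rw [coeff_ser a (show i < N by omega), ha]

theorem psi_ser_castLE {M : ℕ} (h : M ≤ N) (a : Fin N → S) {k : ℕ} (hk : k ≤ M) :
    psi (ser fun i => a (Fin.castLE h i)) k = psi (ser a) k :=
  psi_ser_eq (constantCoeff_ser a) (fun i => (coeff_ser a (lt_of_lt_of_le i.2 h)).symm) hk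

end ser

section newton

variable {S T : Type*} [CommRing S] [Algebra ℚ S] [CommRing T] [Algebra ℚ T] {N : ℕ}

/-- The value of `P_m` on `a, b` (`ℚ`-coefficients, by Newton's identities). -/
noncomputable def cmul (a b : Fin N → S) (m : ℕ) : S :=
  fc (fun k => psi (ser a) k * psi (ser b) k) m

/-- The value of `Q_{i,j}` on `a` (`ℚ`-coefficients, by Newton's identities). -/
noncomputable def ccomp (a : Fin N → S) (i j : ℕ) : S :=
  fc (fun k => fc (fun m => psi (ser a) (m * k)) i) j

theorem map_cmul (f : S →+* T) (a b : Fin N → S) (m : ℕ) :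
    f (cmul a b m) = cmul (fun i => f (a i)) (fun i => f (b i)) m := by
  simp only [cmul, map_fc, map_mul, map_psi_ser]

theorem map_ccomp (f : S →+* T) (a : Fin N → S) (i j : ℕ) :
    f (ccomp a i j) = ccomp (fun l => f (a l)) i j := by
  simp only [ccomp, map_fc, map_psi_ser]

theorem cmul_castLE {M : ℕ} (h : M ≤ N) (a b : Fin N → S) {m : ℕ} (hm : m ≤ M) :
    cmul (fun i => a (Fin.castLE h i)) (fun i => b (Fin.castLE h i)) m = cmul a b m :=
  fc_congr _ _ m fun i hi => by rw [psi_ser_castLE h a (by omega), psi_ser_castLE h b (by omega)]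

theorem ccomp_castLE {M : ℕ} (h : M ≤ N) (a : Fin N → S) {i j : ℕ} (hm : i * j ≤ M) :
    ccomp (fun l => a (Fin.castLE h l)) i j = ccomp a i j :=
  fc_congr _ _ j fun k hk => fc_congr _ _ i fun m hm' =>
    psi_ser_castLE h a ((Nat.mul_le_mul hm' hk).trans hm)

end newton

section variables'

open MvPolynomial

variable {R : Type*} [CommRing R] (N : ℕ)

theorem ser_esymm {S : Type*} [CommRing S] [Algebra R S] (t : Fin N → S) :
    ser (fun k : Fin N => aeval t (esymm (Fin N) R ((k : ℕ) + 1))) = linProd (univ.val.map t) := by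
  ext m
  rw [coeff_linProd]
  rcases m with _ | m
  · simp [Multiset.esymm]
  · by_cases h : m < N
    · rw [coeff_ser _ h, aeval_esymm_eq_multiset_esymm]
    · rw [coeff_ser_of_le _ (by omega), Multiset.esymm, Multiset.powersetCard_eq_empty _ (by simp; omega)]
      simp

theorem ser_rename_esymm {σ : Type*} (f : Fin N → σ) :
    ser (fun k : Fin N => rename f (esymm (Fin N) R ((k : ℕ) + 1))) =
      linProd (univ.val.map fun a => (X (f a) : MvPolynomial σ R)) := by
  have h : (rename f : MvPolynomial (Fin N) R →ₐ[R] MvPolynomial σ R) = aeval fun a => X (f a) :=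
    algHom_ext fun i => by simp
  rw [h, ser_esymm]

/-- Substituting elementary symmetric functions of two families of variables. -/
noncomputable def subst2 (R : Type*) [CommRing R] (N : ℕ) :
    MvPolynomial (Fin N ⊕ Fin N) R →ₐ[R] MvPolynomial (Fin N ⊕ Fin N) R :=
  aeval (Sum.elim (fun k : Fin N => rename Sum.inl (esymm (Fin N) R ((k : ℕ) + 1)))
      (fun k : Fin N => rename Sum.inr (esymm (Fin N) R ((k : ℕ) + 1))))

/-- Substituting elementary symmetric functions. -/
noncomputable def subst1 (R : Type*) [CommRing R] (N : ℕ) :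
    MvPolynomial (Fin N) R →ₐ[R] MvPolynomial (Fin N) R :=
  aeval fun k : Fin N => esymm (Fin N) R ((k : ℕ) + 1)

theorem subst1_eq (R : Type*) [CommRing R] (N : ℕ) (p : MvPolynomial (Fin N) R) :
    subst1 R N p = (esymmAlgHom (Fin N) R N p : MvPolynomial (Fin N) R) :=
  (esymmAlgHom_apply p).symm

theorem subst1_injective (R : Type*) [CommRing R] (N : ℕ) : Function.Injective (subst1 R N) := by
  intro p q h
  rw [subst1_eq, subst1_eq] at h
  exact esymmAlgHom_injective R (le_of_eq (Fintype.card_fin N).symm) (Subtype.val_injective h)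

theorem sumAlgEquiv_subst2 (p : MvPolynomial (Fin N ⊕ Fin N) R) :
    sumAlgEquiv R (Fin N) (Fin N) (subst2 R N p) =
      subst1 (MvPolynomial (Fin N) R) N
        (MvPolynomial.map (subst1 R N).toRingHom (sumAlgEquiv R (Fin N) (Fin N) p)) := by
  have key : ((sumAlgEquiv R (Fin N) (Fin N)).toRingEquiv.toRingHom).comp (subst2 R N).toRingHom =
      ((subst1 (MvPolynomial (Fin N) R) N).toRingHom.comp (MvPolynomial.map (subst1 R N).toRingHom)).comp
        (sumAlgEquiv R (Fin N) (Fin N)).toRingEquiv.toRingHom := by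
    refine MvPolynomial.ringHom_ext (fun r => ?_) fun i => ?_
    · simp [subst1, subst2]
    · cases i with
      | inl i =>
        have : sumAlgEquiv R (Fin N) (Fin N) (rename Sum.inl (esymm (Fin N) R ((i : ℕ) + 1))) =
            esymm (Fin N) (MvPolynomial (Fin N) R) ((i : ℕ) + 1) :=
          (AlgHom.congr_fun (sumAlgEquiv_comp_rename_inl (R := R) (S₁ := Fin N) (S₂ := Fin N))
            (esymm (Fin N) R ((i : ℕ) + 1))).trans (map_esymm (σ := Fin N) _ _ _)
        simp [subst1, subst2, this]
      | inr i =>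
        have : sumAlgEquiv R (Fin N) (Fin N) (rename Sum.inr (esymm (Fin N) R ((i : ℕ) + 1))) =
            MvPolynomial.C (esymm (Fin N) R ((i : ℕ) + 1)) :=
          AlgHom.congr_fun (sumAlgEquiv_comp_rename_inr (R := R) (S₁ := Fin N) (S₂ := Fin N))
            (esymm (Fin N) R ((i : ℕ) + 1))
        simp [subst1, subst2, this]
  exact RingHom.congr_fun key p

theorem subst2_injective (R : Type*) [CommRing R] (N : ℕ) : Function.Injective (subst2 R N) := by
  intro p q h
  have := congrArg (sumAlgEquiv R (Fin N) (Fin N)) h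
  rw [sumAlgEquiv_subst2, sumAlgEquiv_subst2] at this
  exact (sumAlgEquiv R (Fin N) (Fin N)).injective
    (MvPolynomial.map_injective _ (subst1_injective R N) (subst1_injective _ N this))

end variables'

section master

open MvPolynomial

/-- `ℤ → ℚ` on polynomials. -/
noncomputable abbrev toQ (σ : Type*) : MvPolynomial σ ℤ →+* MvPolynomial σ ℚ :=
  MvPolynomial.map (algebraMap ℤ ℚ)

theorem toQ_injective (σ : Type*) : Function.Injective (toQ σ) :=
  MvPolynomial.map_injective _ Int.cast_injective

theorem toQ_mulGen (n : ℕ) :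
    toQ _ (LambdaRing.mulGen n n) = ((univ : Finset (Fin n × Fin n)).val.map
      fun ab => (X (Sum.inl ab.1) * X (Sum.inr ab.2) : MvPolynomial (Fin n ⊕ Fin n) ℚ)).esymm n := by
  simp [LambdaRing.mulGen, Multiset.esymm, Multiset.powersetCard_map, Multiset.map_map, map_multiset_sum,
    map_multiset_prod, toQ]

theorem toQ_compGen (n i j : ℕ) :
    toQ _ (LambdaRing.compGen n i j) = (((univ : Finset (Fin n)).powersetCard i).val.map
      fun s => (∏ a ∈ s, X a : MvPolynomial (Fin n) ℚ)).esymm j := by
  simp [LambdaRing.compGen, Multiset.esymm, Multiset.powersetCard_map, Multiset.map_map, map_multiset_sum,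
    map_multiset_prod, toQ, map_prod, Function.comp_def]

theorem toQ_eq_cmul {n : ℕ} {P : MvPolynomial (Fin n ⊕ Fin n) ℤ} (hP : LambdaRing.IsMulPoly n P) :
    toQ _ P = cmul (fun i => X (Sum.inl i)) (fun i => X (Sum.inr i)) n := by
  refine subst2_injective ℚ n ?_
  have h1 : subst2 ℚ n (toQ _ P) = toQ _ (LambdaRing.mulGen n n) := by
    rw [← hP.1]
    refine RingHom.congr_fun (f := (subst2 ℚ n).toRingHom.comp (toQ _))
      (g := (toQ _).comp (aeval _).toRingHom) ?_ P
    refine MvPolynomial.ringHom_ext (fun r => ?_) fun i => ?_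
    · simp [subst2, toQ]
    · cases i <;> simp [subst2, toQ, map_rename, map_esymm]
  rw [h1, toQ_mulGen]
  symm
  rw [← AlgHom.coe_toRingHom, map_cmul]
  simp only [AlgHom.coe_toRingHom, subst2, aeval_X, Sum.elim_inl, Sum.elim_inr, ser_rename_esymm, cmul]
  rw [← coeff_linProd]
  symm
  refine fromPsi_unique (constantCoeff_linProd _) _ n fun m _ => ?_
  simp only [psi_linProd, Multiset.map_map, Function.comp_def, ← Finset.sum_eq_multiset_sum,
    ← Finset.univ_product_univ, Finset.sum_product, mul_pow, Finset.sum_mul_sum]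

theorem toQ_eq_ccomp {i j : ℕ} {Q : MvPolynomial (Fin (i * j)) ℤ} (hQ : LambdaRing.IsCompPoly i j Q) :
    toQ _ Q = ccomp (fun l => X l) i j := by
  refine subst1_injective ℚ (i * j) ?_
  have h1 : subst1 ℚ (i * j) (toQ _ Q) = toQ _ (LambdaRing.compGen (i * j) i j) := by
    rw [← hQ.1]
    refine RingHom.congr_fun (f := (subst1 ℚ (i * j)).toRingHom.comp (toQ _))
      (g := (toQ _).comp (aeval _).toRingHom) ?_ Q
    refine MvPolynomial.ringHom_ext (fun r => ?_) fun i => ?_
    · simp [subst1, toQ]
    · simp [subst1, toQ, map_esymm]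
  rw [h1, toQ_compGen, ← coeff_linProd, ← AlgHom.coe_toRingHom, map_ccomp]
  simp only [AlgHom.coe_toRingHom, subst1, aeval_X]
  refine fromPsi_unique (constantCoeff_linProd _) _ j fun k _ => ?_
  rw [psi_linProd, Multiset.map_map]
  have hser : ser (fun l : Fin (i * j) => esymm (Fin (i * j)) ℚ ((l : ℕ) + 1)) =
      linProd (univ.val.map (X : Fin (i * j) → MvPolynomial (Fin (i * j)) ℚ)) := by
    rw [← ser_esymm (R := ℚ)]
    simp [MvPolynomial.aeval_X_left_apply]
  rw [hser]
  have inner : fc (fun m => psi (linProd (univ.val.map (X : Fin (i * j) → MvPolynomial (Fin (i * j)) ℚ)))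
        (m * (k + 1))) i =
      (univ.val.map fun a : Fin (i * j) => (X a : MvPolynomial (Fin (i * j)) ℚ) ^ (k + 1)).esymm i := by
    rw [← coeff_linProd]
    symm
    refine fromPsi_unique (constantCoeff_linProd _) _ i fun m _ => ?_
    have e : (m + 1) * (k + 1) = (m * (k + 1) + k) + 1 := by ring
    rw [psi_linProd, e, psi_linProd, ← e]
    simp [Multiset.map_map, Function.comp_def, ← pow_mul, mul_comm]
  rw [inner, Finset.esymm_map_val]
  simp [Function.comp_def, Finset.prod_pow, ← Finset.sum_eq_multiset_sum]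

variable {S : Type*} [CommRing S] [Algebra ℚ S] {N : ℕ}

theorem aeval_mulPoly {n : ℕ} {P : MvPolynomial (Fin n ⊕ Fin n) ℤ} (hP : LambdaRing.IsMulPoly n P)
    (h : n ≤ N) (a b : Fin N → S) :
    aeval (Sum.elim (fun i => a (Fin.castLE h i)) (fun i => b (Fin.castLE h i))) P = cmul a b n := by
  rw [← aeval_map_algebraMap ℚ, show MvPolynomial.map (algebraMap ℤ ℚ) P = toQ _ P from rfl,
    toQ_eq_cmul hP, ← AlgHom.coe_toRingHom, map_cmul]
  simp only [AlgHom.coe_toRingHom, aeval_X, Sum.elim_inl, Sum.elim_inr]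
  exact cmul_castLE h a b le_rfl

theorem aeval_compPoly {i j : ℕ} {Q : MvPolynomial (Fin (i * j)) ℤ} (hQ : LambdaRing.IsCompPoly i j Q)
    (h : i * j ≤ N) (a : Fin N → S) :
    aeval (fun l => a (Fin.castLE h l)) Q = ccomp a i j := by
  rw [← aeval_map_algebraMap ℚ, show MvPolynomial.map (algebraMap ℤ ℚ) Q = toQ _ Q from rfl,
    toQ_eq_ccomp hQ, ← AlgHom.coe_toRingHom, map_ccomp]
  simp only [AlgHom.coe_toRingHom, aeval_X]
  exact ccomp_castLE h a le_rfl

end master

end Groth.Agent.Lambda
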