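import Groth.Agent.Lambda.Gamma
import Groth.Agent.Lambda.Universal
import Mathlib.Algebra.Polynomial.Eval.Defs

/-!
# `γ_t` on series and the transformation of power sums
-/

set_option autoImplicit false

open Finset LambdaRing

namespace Groth.Agent.Lambda

universe u

section inversion

variable {M : Type*} [CommRing M]

/-- The linear functional `X^i ↦ a i`. -/
noncomputable def polyFun (a : ℕ → M) : Polynomial M →ₗ[M] M :=
  Polynomial.lsum fun i => LinearMap.mulRight M (a i)

theorem polyFun_X_pow (a : ℕ → M) (i : ℕ) : polyFun a (Polynomial.X ^ i) = a i := by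
  rw [Polynomial.X_pow_eq_monomial, polyFun, Polynomial.lsum_apply, Polynomial.sum_monomial_index]
  · simp
  · simp

theorem polyFun_add_pow (a : ℕ → M) (c : M) (k : ℕ) :
    polyFun a ((Polynomial.X + Polynomial.C c) ^ k) =
      ∑ i ∈ range (k + 1), c ^ (k - i) * (k.choose i : M) * a i := by
  rw [add_pow, map_sum]
  refine sum_congr rfl fun i _ => ?_
  have : Polynomial.X ^ i * Polynomial.C c ^ (k - i) * (k.choose i : Polynomial M) =
      (c ^ (k - i) * (k.choose i : M)) • Polynomial.X ^ i := by
    rw [Polynomial.smul_eq_C_mul, map_mul, map_pow, Polynomial.C_eq_natCast]; ring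
  rw [this, map_smul, polyFun_X_pow, smul_eq_mul]

/-- Binomial inversion. -/
theorem binom_inv (a : ℕ → M) (b : ℕ) :
    ∑ k ∈ range (b + 1), (b.choose k : M) *
      (∑ l ∈ range (k + 1), (-1 : M) ^ (k - l) * (k.choose l : M) * a l) = a b := by
  have h : (Polynomial.X : Polynomial M) ^ b = ((Polynomial.X + Polynomial.C (-1)) + 1) ^ b := by
    rw [map_neg, map_one]; ring
  conv_rhs => rw [← polyFun_X_pow a b, h, add_pow, map_sum]
  refine sum_congr rfl fun k _ => ?_
  rw [one_pow, mul_one, ← polyFun_add_pow, mul_comm _ (b.choose k : Polynomial M), ← Polynomial.C_eq_natCast,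
    ← Polynomial.smul_eq_C_mul, map_smul, smul_eq_mul]

/-- Binomial inversion, the other direction. -/
theorem binom_inv' (a : ℕ → M) (b : ℕ) :
    ∑ k ∈ range (b + 1), (-1 : M) ^ (b - k) * (b.choose k : M) *
      (∑ l ∈ range (k + 1), (k.choose l : M) * a l) = a b := by
  have h : (Polynomial.X : Polynomial M) ^ b = ((Polynomial.X + Polynomial.C 1) + Polynomial.C (-1)) ^ b := by
    rw [map_one, map_neg, map_one]; ring
  conv_rhs => rw [← polyFun_X_pow a b, h, add_pow, map_sum]
  refine sum_congr rfl fun k _ => ?_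
  have e : (Polynomial.X + Polynomial.C (1 : M)) ^ k * Polynomial.C (-1) ^ (b - k) *
      (b.choose k : Polynomial M) =
      ((-1 : M) ^ (b - k) * (b.choose k : M)) • (Polynomial.X + Polynomial.C (1 : M)) ^ k := by
    rw [Polynomial.smul_eq_C_mul, map_mul, map_pow, Polynomial.C_eq_natCast]; ring
  rw [e, map_smul, smul_eq_mul, polyFun_add_pow]
  simp

end inversion

section gT

variable {R S : Type*} [CommRing R] [CommRing S]

/-- `A(t / (1 - t))`, coefficientwise. -/
noncomputable def gT (A : PowerSeries R) : PowerSeries R :=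
  PowerSeries.mk fun n => match n with
    | 0 => 1
    | n + 1 => ∑ j ∈ range (n + 1), (n.choose j : R) * PowerSeries.coeff (j + 1) A

theorem coeff_gT (A : PowerSeries R) (n : ℕ) :
    PowerSeries.coeff (n + 1) (gT A) = ∑ j ∈ range (n + 1), (n.choose j : R) * PowerSeries.coeff (j + 1) A := by
  simp [gT]

@[simp] theorem constantCoeff_gT (A : PowerSeries R) : PowerSeries.constantCoeff (gT A) = 1 := by
  rw [← PowerSeries.coeff_zero_eq_constantCoeff_apply, gT, PowerSeries.coeff_mk]

theorem map_gT (f : R →+* S) (A : PowerSeries R) :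
    PowerSeries.map f (gT A) = gT (PowerSeries.map f A) := by
  ext n
  rcases n with _ | n
  · simp
  · simp [coeff_gT]

theorem gT_eq_subst {A : PowerSeries R} (hA : PowerSeries.constantCoeff A = 1) :
    gT A = PowerSeries.subst gSer A := by
  ext n
  rw [PowerSeries.coeff_subst' hasSubst_gSer]
  rcases n with _ | n
  · rw [finsum_eq_single _ 0]
    · simp [hA]
    · intro d hd
      simp [gSer, mul_pow, PowerSeries.coeff_X_pow_mul', hd]
  · rw [finsum_eq_sum_of_support_subset _ (s := range (n + 2)), coeff_gT, sum_range_succ' _ (n + 1)]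
    · rw [coeff_gSer_pow, if_pos rfl, smul_zero, add_zero]
      refine sum_congr rfl fun j _ => ?_
      rw [coeff_gSer_pow, if_neg (Nat.succ_ne_zero j), Nat.add_sub_cancel, smul_eq_mul, mul_comm]
    · intro d hd
      by_contra h
      simp only [coe_range, Set.mem_Iio, not_lt] at h
      apply hd
      change PowerSeries.coeff d A • PowerSeries.coeff (n + 1) (gSer ^ d) = 0
      rw [coeff_gSer_pow, if_neg (by omega), Nat.choose_eq_zero_of_lt (by omega), Nat.cast_zero, smul_zero]

theorem gT_mul {A B : PowerSeries R} (hA : PowerSeries.constantCoeff A = 1)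
    (hB : PowerSeries.constantCoeff B = 1) : gT (A * B) = gT A * gT B := by
  rw [gT_eq_subst hA, gT_eq_subst hB, gT_eq_subst (constantCoeff_mul_one hA hB),
    PowerSeries.subst_mul hasSubst_gSer]

theorem gT_lin (r : R) : gT (lin r) = lin (r - 1) * PowerSeries.mk 1 := by
  ext n
  rcases n with _ | n
  · simp
  · rw [coeff_gT, coeff_lin_mul, sum_eq_single 0]
    · simp [lin]
    · intro j _ hj
      simp [lin, PowerSeries.coeff_C, hj]
    · simp

theorem psi_mk_one (k : ℕ) : psi (PowerSeries.mk 1 : PowerSeries R) (k + 1) = -(-1) ^ (k + 1) := by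
  have h : (PowerSeries.mk 1 : PowerSeries R) * lin (-1) = 1 := by
    rw [lin, map_neg, map_one, neg_one_mul, ← sub_eq_add_neg]
    exact PowerSeries.mk_one_mul_one_sub_eq_one R
  have := psi_mul (A := (PowerSeries.mk 1 : PowerSeries R)) (B := lin (-1))
    (by rw [← PowerSeries.coeff_zero_eq_constantCoeff_apply]; simp) (constantCoeff_lin _) (k + 1)
  rw [h, psi_one, psi_lin] at this
  exact eq_neg_of_add_eq_zero_left this.symm

theorem psi_gT_lin (r : R) (k : ℕ) :
    psi (gT (lin r)) k = ∑ l ∈ range (k + 1), (-1 : R) ^ (k - l) * (k.choose l : R) * psi (lin r) l := by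
  rw [gT_lin]
  rcases k with _ | k
  · simp [psi]
  rw [psi_mul (constantCoeff_lin (r - 1))
    (show PowerSeries.constantCoeff (PowerSeries.mk 1 : PowerSeries R) = 1 by
      rw [← PowerSeries.coeff_zero_eq_constantCoeff_apply]; simp),
    psi_lin, psi_mk_one, sum_range_succ', show psi (lin r) 0 = 0 from rfl, mul_zero, add_zero,
    sub_eq_add_neg r, add_pow, sum_range_succ' _ (k + 1)]
  simp only [psi_lin, pow_zero, one_mul, Nat.choose_zero_right, Nat.cast_one, mul_one, Nat.sub_zero,
    add_neg_cancel_right]
  refine sum_congr rfl fun i _ => ?_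
  ring

open MvPolynomial in
/-- The power sums of `A(t/(1-t))`. -/
theorem psi_gT {A : PowerSeries R} (hA : PowerSeries.constantCoeff A = 1) (k : ℕ) :
    psi (gT A) k = ∑ l ∈ range (k + 1), (-1 : R) ^ (k - l) * (k.choose l : R) * psi A l := by
  have univ_id : psi (gT (ser fun i : Fin k => (X i : MvPolynomial (Fin k) ℤ))) k =
      ∑ l ∈ range (k + 1), (-1 : MvPolynomial (Fin k) ℤ) ^ (k - l) * (k.choose l : MvPolynomial (Fin k) ℤ) *
        psi (ser fun i : Fin k => (X i : MvPolynomial (Fin k) ℤ)) l := by
    refine subst1_injective ℤ k ?_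
    simp only [← AlgHom.coe_toRingHom, map_sum, map_mul, map_pow, map_neg, map_one, map_natCast]
    rw [psi_map _ (constantCoeff_gT _), map_gT, map_ser]
    simp only [map_psi_ser, AlgHom.coe_toRingHom, subst1, aeval_X]
    have e := ser_rename_esymm (R := ℤ) k (fun a : Fin k => a)
    simp only [show (fun a : Fin k => a) = id from rfl, rename_id, AlgHom.coe_id, id] at e
    rw [e]
    generalize (univ.val.map fun a : Fin k => (X a : MvPolynomial (Fin k) ℤ)) = s
    induction s using Multiset.induction_on with
    | empty =>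
      have h1 : gT (1 : PowerSeries (MvPolynomial (Fin k) ℤ)) = 1 := by
        ext n; rcases n with _ | n <;> simp [coeff_gT]
      simp [linProd, h1]
    | cons r s ih =>
      rw [linProd, Multiset.map_cons, Multiset.prod_cons, ← linProd,
        gT_mul (constantCoeff_lin r) (constantCoeff_linProd s),
        psi_mul (constantCoeff_gT _) (constantCoeff_gT _), ih]
      simp only [psi_mul (constantCoeff_lin r) (constantCoeff_linProd s), mul_add, sum_add_distrib]
      rw [psi_gT_lin]
  have hA' : ∀ l ≤ k, psi (ser fun i : Fin k => PowerSeries.coeff ((i : ℕ) + 1) A) l = psi A l :=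
    fun l hl => psi_ser_eq hA (fun i => rfl) hl
  have := congrArg
    (aeval (fun i : Fin k => PowerSeries.coeff ((i : ℕ) + 1) A) : MvPolynomial (Fin k) ℤ →ₐ[ℤ] R).toRingHom
    univ_id
  simp only [map_sum, map_mul, map_pow, map_neg, map_one, map_natCast, map_psi_ser] at this
  rw [psi_map _ (constantCoeff_gT _), map_gT, map_ser] at this
  simp only [AlgHom.toRingHom_eq_coe, RingHom.coe_coe, aeval_X] at this
  rw [sum_congr rfl fun l hl => by rw [← hA' l (by rw [mem_range] at hl; omega)], ← this]
  refine psi_congr (constantCoeff_gT _) (constantCoeff_gT _) k fun i hi => ?_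
  rcases i with _ | i
  · simp
  · rw [coeff_gT, coeff_gT]
    refine sum_congr rfl fun j hj => ?_
    rw [mem_range] at hj
    rw [coeff_ser _ (show j < k by omega)]

end gT

variable {K : Type u} [CommRing K] [LambdaOps K]

theorem gammaSeries_eq_gT (x : K) : gammaSeries x = gT (lamSeries x) := by
  ext n
  rcases n with _ | n
  · simp
  · simp [coeff_gT, gamma_succ]

theorem psi_gammaSeries (x : K) (k : ℕ) :
    psi (gammaSeries x) k = ∑ l ∈ range (k + 1), (-1 : K) ^ (k - l) * (k.choose l : K) * adamsOp l x := by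
  rw [gammaSeries_eq_gT, psi_gT (constantCoeff_lamSeries x)]
  simp only [← adamsOp_eq_psi]

theorem adamsOp_eq_sum_psi_gammaSeries (x : K) (j : ℕ) :
    adamsOp j x = ∑ k ∈ range (j + 1), (j.choose k : K) * psi (gammaSeries x) k := by
  simp only [psi_gammaSeries]
  exact (binom_inv (fun l => adamsOp l x) j).symm

theorem lam_eq_sum_gamma (x : K) (n : ℕ) :
    LambdaOps.lam (n + 1) x = ∑ j ∈ range (n + 1), (-1 : K) ^ (n - j) * (n.choose j : K) * gamma (j + 1) x := by
  simp only [gamma_succ]
  exact (binom_inv' (fun j => LambdaOps.lam (j + 1) x) n).symm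

end Groth.Agent.Lambda
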