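import Groth.Agent.Lambda.Special
import Groth.Agent.Lambda.GammaPsi
import Mathlib.RingTheory.PowerSeries.Derivative

/-!
# In a λ-ring in the strict sense, `λ_t(c w) = λ_t(w)^c` for `c` in a binomial ring
-/

set_option autoImplicit false

open Finset LambdaRing

namespace Groth.Agent.Lambda

universe u v

variable {K : Type u} [CommRing K] [LambdaOps K] [BinomialRing K]

theorem coeff_subst_eq_range {R : Type*} [CommRing R] {H : PowerSeries R}
    (hH : PowerSeries.constantCoeff H = 0) (A : PowerSeries R) (n : ℕ) :
    PowerSeries.coeff n (PowerSeries.subst H A) =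
      ∑ i ∈ range (n + 1), PowerSeries.coeff i A * PowerSeries.coeff n (H ^ i) := by
  rw [PowerSeries.coeff_subst' (PowerSeries.HasSubst.of_constantCoeff_zero' hH),
    finsum_eq_sum_of_support_subset _ (s := range (n + 1))]
  · rfl
  · intro d hd
    by_contra h
    simp only [coe_range, Set.mem_Iio, not_lt] at h
    apply hd
    change PowerSeries.coeff d A • PowerSeries.coeff n (H ^ d) = 0
    rw [PowerSeries.coeff_of_lt_order n, smul_zero]
    calc (n : ℕ∞) < d := by exact_mod_cast h
      _ ≤ (H ^ d).order := PowerSeries.le_order_pow_of_constantCoeff_eq_zero d hH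

theorem ringHom_aeval {σ S T : Type*} [CommRing S] [CommRing T] (j : S →+* T) (g : σ → S)
    (P : MvPolynomial σ ℤ) : j (MvPolynomial.aeval g P) = MvPolynomial.aeval (fun i => j (g i)) P :=
  MvPolynomial.comp_aeval_apply g j.toIntAlgHom P

theorem mulPoly_binomial_rat (hKb : IsBinomial K) {n : ℕ} {P : MvPolynomial (Fin n ⊕ Fin n) ℤ}
    (hP : IsMulPoly n P) (c : K) {T : Type*} [CommRing T] [Algebra ℚ T] (κ : K →+* T) (B : Fin n → T) :
    MvPolynomial.aeval (Sum.elim (fun i : Fin n => κ (Ring.choose c ((i : ℕ) + 1))) B) P =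
      ∑ i ∈ range (n + 1), κ (Ring.choose c i) * PowerSeries.coeff n ((ser B - 1) ^ i) := by
  let a : Fin n → T := fun i => κ (Ring.choose c ((i : ℕ) + 1))
  have key := aeval_mulPoly hP le_rfl a B
  simp only [Fin.castLE_refl] at key
  refine key.trans ?_
  let Lc : PowerSeries T := PowerSeries.map κ (lamSeries c)
  let H : PowerSeries T := ser B - 1
  have hH : PowerSeries.constantCoeff H = 0 := by simp [H]
  have hsH := PowerSeries.HasSubst.of_constantCoeff_zero' hH
  have hLc0 : PowerSeries.constantCoeff Lc = 1 := by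
    rw [← PowerSeries.coeff_zero_eq_constantCoeff_apply, PowerSeries.coeff_map,
      PowerSeries.coeff_zero_eq_constantCoeff_apply, constantCoeff_lamSeries, map_one]
  have hB0 : PowerSeries.constantCoeff (PowerSeries.subst H Lc) = 1 := by
    rw [← PowerSeries.coeff_zero_eq_constantCoeff_apply, coeff_subst_eq_range hH]
    simp [hLc0]
  have hlog : logD Lc * lin 1 = PowerSeries.C (κ c) := by
    have hk : ∀ k, PowerSeries.coeff k (logD Lc) = (-1) ^ k * κ c := fun k => by
      rw [← neg_one_pow_mul_self k (PowerSeries.coeff k (logD Lc))]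
      change (-1) ^ k * psi Lc (k + 1) = _
      rw [← psi_map κ (constantCoeff_lamSeries c), ← adamsOp_eq_psi, adamsOp_of_binomial hKb]
    ext m
    rcases m with _ | m
    · rw [PowerSeries.coeff_zero_eq_constantCoeff_apply, map_mul, constantCoeff_lin, mul_one,
        ← PowerSeries.coeff_zero_eq_constantCoeff_apply, hk, pow_zero, one_mul,
        PowerSeries.coeff_zero_eq_constantCoeff_apply, PowerSeries.constantCoeff_C]
    · rw [mul_comm, coeff_lin_mul, hk, hk, PowerSeries.coeff_C, if_neg (Nat.succ_ne_zero m), pow_succ]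
      ring
  have hD : PowerSeries.derivative _ (PowerSeries.subst H Lc) =
      PowerSeries.C (κ c) * logD (ser B) * PowerSeries.subst H Lc := by
    have e1 : PowerSeries.derivative _ Lc * lin 1 = PowerSeries.C (κ c) * Lc := by
      rw [← logD_mul_self hLc0, ← hlog]; ring
    have e2 := congrArg (PowerSeries.subst H) e1
    rw [PowerSeries.subst_mul hsH, PowerSeries.subst_mul hsH,
      show PowerSeries.subst H (lin (1 : T)) = ser B by
        rw [lin, ← PowerSeries.coe_substAlgHom hsH, map_add, map_one, map_mul, PowerSeries.substAlgHom_X,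
          map_one, map_one, one_mul]
        simp [H],
      show PowerSeries.subst H (PowerSeries.C (κ c)) = PowerSeries.C (κ c) by
        rw [← PowerSeries.coe_substAlgHom hsH]; exact (PowerSeries.substAlgHom hsH).commutes _] at e2
    rw [PowerSeries.derivative_subst hsH, show PowerSeries.derivative _ H = PowerSeries.derivative _ (ser B) by
      simp [H], ← logD_mul_self (constantCoeff_ser B)]
    linear_combination logD (ser B) * e2
  have hpsi : ∀ k, psi (PowerSeries.subst H Lc) (k + 1) = κ c * psi (ser B) (k + 1) := fun k => by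
    have : logD (PowerSeries.subst H Lc) = PowerSeries.C (κ c) * logD (ser B) := by
      conv_lhs => rw [logD, hD, mul_assoc, PowerSeries.mul_invOfUnit _ 1 (by simpa using hB0), mul_one]
    rw [psi, psi, this, PowerSeries.coeff_C_mul]
    ring
  have hrhs : ∑ i ∈ range (n + 1), κ (Ring.choose c i) * PowerSeries.coeff n ((ser B - 1) ^ i) =
      PowerSeries.coeff n (PowerSeries.subst H Lc) := by
    rw [coeff_subst_eq_range hH]
    refine sum_congr rfl fun i _ => ?_
    rw [PowerSeries.coeff_map, coeff_lamSeries, hKb i c]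
  rw [hrhs, fromPsi_unique hB0 (fun k => psi (ser a) k * psi (ser B) k) n fun k hk => ?_]
  · rfl
  · have hak : psi (ser a) (k + 1) = κ c := by
      have : psi (ser (lamVec n c)) (k + 1) = c := by
        rw [psi_lamVec c (by omega), adamsOp_of_binomial hKb]
      conv_rhs => rw [← this, map_psi_ser]
      simp only [a, lamVec, hKb _ c]
    rw [hpsi, hak]

open MvPolynomial in
attribute [local instance] BinomialRing.toIsAddTorsionFree in
theorem mulPoly_binomial (hKb : IsBinomial K) {n : ℕ} {P : MvPolynomial (Fin n ⊕ Fin n) ℤ}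
    (hP : IsMulPoly n P) (c : K) {A : Type v} [CommRing A] (f : K →+* A) (b : Fin n → A) :
    aeval (Sum.elim (fun i : Fin n => f (Ring.choose c ((i : ℕ) + 1))) b) P =
      ∑ i ∈ range (n + 1), f (Ring.choose c i) * PowerSeries.coeff n ((ser b - 1) ^ i) := by
  have univ_id : aeval (Sum.elim (fun i : Fin n => (C (Ring.choose c ((i : ℕ) + 1)) : MvPolynomial (Fin n) K))
        (fun i => X i)) P =
      ∑ i ∈ range (n + 1), C (Ring.choose c i) *
        PowerSeries.coeff n ((ser (fun i : Fin n => (X i : MvPolynomial (Fin n) K)) - 1) ^ i) := by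
    have : Module.Flat ℤ K := inferInstance
    let ι : K →+* TensorProduct ℤ ℚ K := (Algebra.TensorProduct.includeRight : K →ₐ[ℤ] _).toRingHom
    have hι : Function.Injective ι :=
      Algebra.TensorProduct.includeRight_injective Int.cast_injective
    let j : MvPolynomial (Fin n) K →+* MvPolynomial (Fin n) (TensorProduct ℤ ℚ K) := MvPolynomial.map ι
    have hj : Function.Injective j := MvPolynomial.map_injective ι hι
    refine hj ?_
    refine (ringHom_aeval (S := MvPolynomial (Fin n) K) (T := MvPolynomial (Fin n) (TensorProduct ℤ ℚ K)) j _ P).trans ?_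
    have hlhs : (fun t => j (Sum.elim (fun i : Fin n => (C (Ring.choose c ((i : ℕ) + 1))
        : MvPolynomial (Fin n) K)) (fun i => X i) t)) =
        Sum.elim (fun i : Fin n => (j.comp C) (Ring.choose c ((i : ℕ) + 1))) (fun i => j (X i)) := by
      funext t; cases t <;> rfl
    rw [hlhs, mulPoly_binomial_rat hKb hP c (j.comp C) (fun i => j (X i)), map_sum]
    refine sum_congr rfl fun i _ => ?_
    rw [map_mul, ← PowerSeries.coeff_map,
      show PowerSeries.map j ((ser (fun i : Fin n => (X i : MvPolynomial (Fin n) K)) - 1) ^ i) =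
        (ser (fun i => j (X i)) - 1) ^ i by
          rw [map_pow, map_sub, map_one]; exact congrArg (fun x => (x - 1) ^ i) (map_ser (S := MvPolynomial (Fin n) K) (T := MvPolynomial (Fin n) (TensorProduct ℤ ℚ K)) j _)]
    rfl
  have h := congrArg (MvPolynomial.eval₂Hom f b) univ_id
  have h' := (ringHom_aeval (S := MvPolynomial (Fin n) K) (T := A) (MvPolynomial.eval₂Hom f b) _ P).symm.trans h
  rw [map_sum] at h'
  refine Eq.trans ?_ (h'.trans (sum_congr rfl fun i _ => ?_))
  · congr 2
    funext t
    cases t <;> simp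
  · rw [map_mul, MvPolynomial.eval₂Hom_C, ← PowerSeries.coeff_map, map_pow, map_sub, map_one, map_ser]
    simp

variable {A : Type v} [CommRing A] [LambdaOps A] [Algebra K A]

theorem lam_algebraMap_mul (hKb : IsBinomial K) (hA : IsSpecial A) (hKA : IsLambdaAlg K A) (c : K) (w : A) (n : ℕ) :
    LambdaOps.lam n (algebraMap K A c * w) =
      ∑ i ∈ range (n + 1), algebraMap K A (Ring.choose c i) *
        PowerSeries.coeff n ((lamSeries w - 1) ^ i) := by
  obtain ⟨P, hP⟩ := exists_isMulPoly n
  have hv : (fun i : Fin n => LambdaOps.lam ((i : ℕ) + 1) (algebraMap K A c)) =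
      fun i : Fin n => algebraMap K A (Ring.choose c ((i : ℕ) + 1)) := funext fun i => by rw [← hKA, hKb]
  rw [hA.lam_mul n P hP, hv, mulPoly_binomial hKb hP c (algebraMap K A)]
  refine sum_congr rfl fun i _ => congrArg _ ?_
  have hcongr : ∀ m ≤ n, PowerSeries.coeff m (ser fun k : Fin n => LambdaOps.lam ((k : ℕ) + 1) w) =
      PowerSeries.coeff m (lamSeries w) := by
    intro m hm
    rcases m with _ | m
    · simp [LambdaOps.lam_zero]
    · rw [coeff_ser _ (show m < n by omega), coeff_lamSeries]
  have hpow : ∀ i, ∀ m ≤ n, PowerSeries.coeff m ((ser (fun k : Fin n => LambdaOps.lam ((k : ℕ) + 1) w) - 1) ^ i) =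
      PowerSeries.coeff m ((lamSeries w - 1) ^ i) := by
    intro i
    induction i with
    | zero => intro m _; simp
    | succ i ih =>
      intro m hm
      rw [pow_succ, pow_succ, PowerSeries.coeff_mul, PowerSeries.coeff_mul]
      refine sum_congr rfl fun x hx => ?_
      rw [mem_antidiagonal] at hx
      rw [ih x.1 (by omega), map_sub, map_sub, hcongr x.2 (by omega)]
  exact hpow i n le_rfl

theorem gamma_algebraMap_mul (hKb : IsBinomial K) (hA : IsSpecial A) (hKA : IsLambdaAlg K A) (c : K) (w : A) (n : ℕ) :
    gamma n (algebraMap K A c * w) =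
      ∑ i ∈ range (n + 1), algebraMap K A (Ring.choose c i) *
        PowerSeries.coeff n ((gammaSeries w - 1) ^ i) := by
  let S : PowerSeries A := ∑ i ∈ range (n + 1),
    PowerSeries.C (algebraMap K A (Ring.choose c i)) * (lamSeries w - 1) ^ i
  have hS : ∀ m ≤ n, PowerSeries.coeff m (lamSeries (algebraMap K A c * w)) = PowerSeries.coeff m S := by
    intro m hm
    rw [coeff_lamSeries, lam_algebraMap_mul hKb hA hKA, map_sum]
    simp only [PowerSeries.coeff_C_mul]
    refine sum_subset (range_mono (by omega)) fun i _ hi => ?_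
    rw [mem_range] at hi
    rw [PowerSeries.coeff_of_lt_order m, mul_zero]
    calc (m : ℕ∞) < i := by exact_mod_cast (by omega : m < i)
      _ ≤ ((lamSeries w - 1) ^ i).order :=
        PowerSeries.le_order_pow_of_constantCoeff_eq_zero i (by simp)
  have hg0 : PowerSeries.constantCoeff (gSer : PowerSeries A) = 0 := by simp [gSer]
  rw [← coeff_gammaSeries, gammaSeries_eq_subst, coeff_subst_eq_range hg0,
    sum_congr rfl fun m hm => by rw [hS m (by rw [mem_range] at hm; omega)], ← coeff_subst_eq_range hg0,
    ← PowerSeries.coe_substAlgHom hasSubst_gSer, map_sum, map_sum]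
  refine sum_congr rfl fun i _ => ?_
  rw [map_mul, map_pow, map_sub, map_one,
    show PowerSeries.substAlgHom hasSubst_gSer (PowerSeries.C (algebraMap K A (Ring.choose c i))) =
      PowerSeries.C (algebraMap K A (Ring.choose c i)) from (PowerSeries.substAlgHom hasSubst_gSer).commutes _,
    PowerSeries.coeff_C_mul, PowerSeries.coe_substAlgHom hasSubst_gSer, ← gammaSeries_eq_subst]

end Groth.Agent.Lambda
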