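import Groth.Agent.Lambda.FreeFil
import Groth.Agent.Lambda.BinomPow

/-!
# The γ-filtration of an augmented λ-algebra
-/

set_option autoImplicit false

open Finset LambdaRing

namespace Groth.Agent.Lambda

open scoped Groth.Agent.Lambda.Free
open Groth.Agent.Lambda.Free (FZ evZ evZ_mem evZ_gamma)

universe u v w

section basic

variable {A : Type v} {K : Type u} [CommRing A] [LambdaOps A] [CommRing K]

theorem list_prod_mem_gammaFil (ε : A →+* K) (l : List (ℕ × A)) (hl : ∀ p ∈ l, ε p.2 = 0) {n : ℕ}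
    (hn : n ≤ (l.map Prod.fst).sum) : (l.map fun p => gamma p.1 p.2).prod ∈ gammaFil ε n :=
  Ideal.subset_span ⟨l, hl, hn, rfl⟩

/-- The γ-filtration as a multiplicative filtration. -/
def gammaFilFil (ε : A →+* K) : Fil A where
  W := gammaFil ε
  zero := (Ideal.eq_top_iff_one _).2 (by
    simpa using list_prod_mem_gammaFil ε [] (by simp) (le_refl 0))
  anti {m n} h := by
    refine Ideal.span_mono ?_
    rintro y ⟨l, hl, hn, rfl⟩
    exact ⟨l, hl, h.trans hn, rfl⟩
  mul {m n x y} hx hy := by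
    have h := Ideal.mul_mem_mul hx hy
    rw [gammaFil, gammaFil, Ideal.span_mul_span'] at h
    refine Ideal.span_mono ?_ h
    rintro _ ⟨a, ⟨l, hl, hm, rfl⟩, b, ⟨l', hl', hn, rfl⟩, rfl⟩
    refine ⟨l ++ l', fun p hp => (List.mem_append.1 hp).elim (hl p) (hl' p), ?_, ?_⟩
    · rw [List.map_append, List.sum_append]; omega
    · simp

theorem gamma_mem_gammaFil (ε : A →+* K) {x : A} (hx : ε x = 0) (i : ℕ) : gamma i x ∈ gammaFil ε i := by
  simpa using list_prod_mem_gammaFil ε [(i, x)] (by simpa) (le_of_eq (by simp) : i ≤ _)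

theorem map_gamma_hom {B : Type w} [CommRing B] [LambdaOps B] (f : A →+* B)
    (hf : ∀ (n : ℕ) (x : A), f (LambdaOps.lam n x) = LambdaOps.lam n (f x)) (n : ℕ) (x : A) :
    f (gamma n x) = gamma n (f x) := by
  rcases n with _ | n
  · simp
  · simp only [gamma_succ, map_sum, map_mul, map_natCast, hf]

theorem gamma_succ_zero (n : ℕ) : gamma (n + 1) (0 : A) = 0 := by
  rw [← coeff_gammaSeries, gammaSeries_zero, PowerSeries.coeff_one, if_neg (Nat.succ_ne_zero n)]

theorem coeff_pow_mem (F : Fil A) {m : ℕ} {s : PowerSeries A}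
    (hs : ∀ n, PowerSeries.coeff n s ∈ F.W m) : ∀ i n : ℕ, PowerSeries.coeff n (s ^ i) ∈ F.W (i * m)
  | 0, n => by rw [Nat.zero_mul]; exact F.mem_zero _
  | i + 1, n => by
    rw [pow_succ, PowerSeries.coeff_mul, Nat.succ_mul]
    exact Ideal.sum_mem _ fun x _ => F.mul (coeff_pow_mem F hs i x.1) (hs x.2)

theorem coeff_pow_mem_self (F : Fil A) {s : PowerSeries A}
    (hs : ∀ n, PowerSeries.coeff n s ∈ F.W n) : ∀ i n : ℕ, PowerSeries.coeff n (s ^ i) ∈ F.W n
  | 0, n => by
    rw [pow_zero, PowerSeries.coeff_one]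
    split_ifs with h
    · subst h; exact F.mem_zero _
    · exact zero_mem _
  | i + 1, n => by
    rw [pow_succ, PowerSeries.coeff_mul]
    refine Ideal.sum_mem _ fun x hx => ?_
    rw [mem_antidiagonal] at hx
    rw [← hx]
    exact F.mul (coeff_pow_mem_self F hs i x.1) (hs x.2)

end basic

section congr

variable {K : Type u} [CommRing K] [LambdaOps K] [BinomialRing K] {A : Type v} [CommRing A] [LambdaOps A]
  [Algebra K A]

/-- What is shown about the elements of the `(k+1)`-st step. -/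
def GCong (ε : A →ₐ[K] K) (k : ℕ) (z : A) : Prop :=
  (∀ p, gamma (p + 1) z ∈ gammaFil (ε : A →+* K) (k + 1)) ∧
    gamma (k + 1) z - (-1 : A) ^ k * (k.factorial : A) * z ∈ gammaFil (ε : A →+* K) (k + 2)

variable {ε : A →ₐ[K] K} {k : ℕ}

theorem gcong_zero : GCong ε k (0 : A) :=
  ⟨fun p => by rw [gamma_succ_zero]; exact zero_mem _, by rw [gamma_succ_zero]; simp⟩

theorem GCong.mem {z : A} (h : GCong ε k z) : z ∈ gammaFil (ε : A →+* K) (k + 1) := by
  simpa [gamma_one] using h.1 0

theorem GCong.add {x y : A} (hx : GCong ε k x) (hy : GCong ε k y) : GCong ε k (x + y) := by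
  let F := gammaFilFil (ε : A →+* K)
  refine ⟨fun p => ?_, ?_⟩
  · rw [gamma_add]
    refine Ideal.sum_mem _ fun i hi => ?_
    rcases i with _ | i
    · rw [gamma_zero, one_mul, Nat.sub_zero]; exact hy.1 p
    · exact Ideal.mul_mem_right _ _ (hx.1 i)
  · rw [gamma_add, sum_range_succ, Nat.sub_self, gamma_zero, mul_one, sum_range_succ', Nat.sub_zero, gamma_zero,
      one_mul,
      show ∀ S : A, S + gamma (k + 1) y + gamma (k + 1) x - (-1) ^ k * (k.factorial : A) * (x + y) =
        S + ((gamma (k + 1) x - (-1) ^ k * (k.factorial : A) * x) +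
          (gamma (k + 1) y - (-1) ^ k * (k.factorial : A) * y)) from fun S => by ring]
    refine add_mem (Ideal.sum_mem _ fun i hi => ?_) (add_mem hx.2 hy.2)
    have hik : i < k := mem_range.1 hi
    obtain ⟨j, hj⟩ : ∃ j, k + 1 - (i + 1) = j + 1 := ⟨k - i - 1, by omega⟩
    rw [hj]
    exact F.anti (by omega : k + 2 ≤ (k + 1) + (k + 1)) (F.mul (hx.1 i) (hy.1 j))

theorem gcong_gen (hA : IsSpecial A) (l : List (ℕ × A)) (hl : ∀ p ∈ l, (ε : A →+* K) p.2 = 0)
    (hn : k + 1 ≤ (l.map Prod.fst).sum) : GCong ε k (l.map fun p => gamma p.1 p.2).prod := by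
  let F := gammaFilFil (ε : A →+* K)
  let x : Fin l.length → A := fun s => (l[(s : ℕ)]).2
  let g : Fin l.length → FZ (Fin l.length) := fun s => gamma (l[(s : ℕ)]).1 (MvPolynomial.X (s, 0))
  have hx : ∀ s i, gamma (i + 1) (x s) ∈ F.W (i + 1) := fun s i =>
    gamma_mem_gammaFil _ (hl _ (List.getElem_mem _)) _
  have hev : evZ x (∏ s, g s) = (l.map fun p => gamma p.1 p.2).prod := by
    rw [map_prod, ← Fin.prod_univ_fun_getElem]
    refine prod_congr rfl fun s _ => ?_
    simp only [g]
    rw [evZ_gamma hA, ← gamma_one (MvPolynomial.X (s, 0) : FZ (Fin l.length)), Free.gammaZ_X0, Free.evZ_X,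
      gamma_one]
  have hf : ∏ s, g s ∈ (wFil ℤ (Fin l.length)).W (k + 1) := by
    have h1 : ∀ s : Fin l.length, g s ∈ (wFil ℤ (Fin l.length)).W (l[(s : ℕ)]).1 := fun s => by
      simp only [g]
      rcases (l[(s : ℕ)]).1 with _ | i
      · exact (wFil ℤ _).mem_zero _
      · rw [Free.gammaZ_X0]; exact X_mem_wFil s i
    refine (wFil ℤ _).anti ?_ ((wFil ℤ _).prod_mem univ g _ fun s _ => h1 s)
    exact hn.trans (Fin.sum_univ_fun_getElem l Prod.fst).ge
  rw [← hev]
  refine ⟨fun p => ?_, ?_⟩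
  · rw [← evZ_gamma hA]
    exact evZ_mem F x hx (Free.gammaZ_mem (by omega) hf p)
  · have := evZ_mem F x hx (Free.gammaZ_congr hf)
    rwa [map_sub, map_mul, map_mul, map_pow, map_neg, map_one, map_natCast, evZ_gamma hA] at this

theorem gcong_smul (hKb : IsBinomial K) (hA : IsSpecial A) (hKA : IsLambdaAlg K A) (c : K) {y : A}
    (hy : GCong ε k y) : GCong ε k (algebraMap K A c * y) := by
  let F := gammaFilFil (ε : A →+* K)
  have hs : ∀ n, PowerSeries.coeff n (gammaSeries y - 1) ∈ F.W (k + 1) := by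
    intro n
    rcases n with _ | n
    · rw [map_sub, coeff_gammaSeries, gamma_zero, PowerSeries.coeff_zero_one, sub_self]; exact zero_mem _
    · rw [map_sub, coeff_gammaSeries, PowerSeries.coeff_one, if_neg (Nat.succ_ne_zero n), sub_zero]
      exact hy.1 n
  refine ⟨fun p => ?_, ?_⟩
  · rw [gamma_algebraMap_mul hKb hA hKA]
    refine Ideal.sum_mem _ fun i _ => Ideal.mul_mem_left _ _ ?_
    rcases i with _ | i
    · rw [pow_zero, PowerSeries.coeff_one, if_neg (Nat.succ_ne_zero p)]; exact zero_mem _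
    · exact F.anti (Nat.le_mul_of_pos_left _ (Nat.succ_pos i)) (coeff_pow_mem F hs _ _)
  · rw [gamma_algebraMap_mul hKb hA hKA, sum_range_succ', sum_range_succ', pow_zero, PowerSeries.coeff_one,
      if_neg (Nat.succ_ne_zero k), mul_zero, add_zero, zero_add, pow_one, Ring.choose_one_right, map_sub,
      coeff_gammaSeries, PowerSeries.coeff_one, if_neg (Nat.succ_ne_zero k), sub_zero,
      show ∀ S : A, S + algebraMap K A c * gamma (k + 1) y -
          (-1) ^ k * (k.factorial : A) * (algebraMap K A c * y) =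
        S + algebraMap K A c * (gamma (k + 1) y - (-1) ^ k * (k.factorial : A) * y) from fun S => by ring]
    refine add_mem (Ideal.sum_mem _ fun i _ => Ideal.mul_mem_left _ _ ?_) (Ideal.mul_mem_left _ _ hy.2)
    refine F.anti ?_ (coeff_pow_mem F hs (i + 1 + 1) (k + 1))
    calc k + 2 ≤ 2 * (k + 1) := by omega
      _ ≤ (i + 1 + 1) * (k + 1) := Nat.mul_le_mul_right _ (by omega)

theorem gcong_of_mem (hKb : IsBinomial K) (hA : IsSpecial A) (hKA : IsLambdaAlg K A) {z : A}
    (hz : z ∈ gammaFil (ε : A →+* K) (k + 1)) : GCong ε k z := by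
  suffices h : ∀ a, GCong ε k (a * z) by simpa using h 1
  refine Submodule.span_induction (p := fun z _ => ∀ a, GCong ε k (a * z)) ?_ ?_ ?_ ?_ hz
  · rintro _ ⟨l, hl, hn, rfl⟩ a
    have hsplit : a * (l.map fun p => gamma p.1 p.2).prod =
        algebraMap K A (ε a) * (l.map fun p => gamma p.1 p.2).prod +
          algebraMap K A 1 * (((1, a - algebraMap K A (ε a)) :: l).map fun p => gamma p.1 p.2).prod := by
      rw [List.map_cons, List.prod_cons, gamma_one, map_one]; ring
    rw [hsplit]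
    refine (gcong_smul hKb hA hKA _ (gcong_gen hA l hl hn)).add (gcong_smul hKb hA hKA _ (gcong_gen hA _ ?_ ?_))
    · intro p hp
      rcases List.mem_cons.1 hp with rfl | hp
      · simp
      · exact hl p hp
    · rw [List.map_cons, List.sum_cons]; omega
  · intro a; rw [mul_zero]; exact gcong_zero
  · intro x y _ _ hx hy a; rw [mul_add]; exact (hx a).add (hy a)
  · intro b x _ hx a; rw [smul_eq_mul, ← mul_assoc]; exact hx (a * b)

end congr

end Groth.Agent.Lambda
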