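import Groth.Agent.Lambda.Filtration
import Mathlib.Algebra.Group.ForwardDiff

/-!
# The power sums `π_k` of the γ-series: `π_k(u) = (u - 1)^k` on lines, `π_k x ≡ k! x` on `F^k`
-/

set_option autoImplicit false

open Finset LambdaRing

namespace Groth.Agent.Lambda

universe u

variable {K : Type u} [CommRing K] [LambdaOps K] {P : PosStructure K}

/-- `π_0 = ε`; `π_k x` = the `k`-th power sum of the series `γ_t(x - ε x)`. -/
noncomputable def piOp (P : PosStructure K) : ℕ → K → K
  | 0, x => (P.aug x : K)
  | k + 1, x => psi (gammaSeries (x - (P.aug x : K))) (k + 1)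

theorem constantCoeff_gammaSeries (x : K) : PowerSeries.constantCoeff (gammaSeries x) = 1 := by
  rw [← PowerSeries.coeff_zero_eq_constantCoeff_apply, coeff_gammaSeries, gamma_zero]

theorem piOp_add (P : PosStructure K) (k : ℕ) (x y : K) : piOp P k (x + y) = piOp P k x + piOp P k y := by
  cases k with
  | zero => simp [piOp]
  | succ k =>
    simp only [piOp]
    rw [← psi_mul (constantCoeff_gammaSeries _) (constantCoeff_gammaSeries _), ← gammaSeries_add, map_add,
      Int.cast_add, add_sub_add_comm]

/-- `π_k` as an additive map. -/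
noncomputable def piAdd (P : PosStructure K) (k : ℕ) : K →+ K := AddMonoidHom.mk' (piOp P k) (piOp_add P k)

theorem piOp_line {u : K} (hu : P.IsLine u) (k : ℕ) : piOp P k u = (u - 1) ^ k := by
  cases k with
  | zero => simp [piOp, hu.2]
  | succ k =>
    simp only [piOp]
    rw [hu.2, Int.cast_one, gammaSeries_sub_one (lam_one_of_pos P) (isLine_lam hu), psi_lin]

theorem map_piOp {K' : Type u} [CommRing K'] [LambdaOps K'] {P' : PosStructure K'} {f : K →+* K'}
    (hf : IsExtension P P' f) (k : ℕ) (x : K) : f (piOp P k x) = piOp P' k (f x) := by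
  cases k with
  | zero => simp [piOp, hf.aug_comp]
  | succ k =>
    simp only [piOp]
    rw [psi_map f (constantCoeff_gammaSeries _)]
    congr 1
    ext n
    rw [PowerSeries.coeff_map, coeff_gammaSeries, coeff_gammaSeries, map_gamma hf.isLambdaHom, map_sub,
      map_intCast, hf.aug_comp]

theorem piOp_eq_sum (hK : HasSplitting K P) (k : ℕ) (x : K) :
    piOp P k x = ∑ j ∈ range (k + 1), ((-1 : ℤ) ^ (k - j) * (k.choose j : ℤ)) • adams P j x := by
  obtain ⟨L, f, -, hf, hl⟩ := exists_split hK [x]
  refine hf.injective ?_
  simp only [map_piOp hf, map_sum, map_zsmul, map_adams hf]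
  generalize f x = y, hl x (by simp) = hy
  change piAdd L.posStr k y = ∑ j ∈ range (k + 1), _ • adamsAdd L.posStr j y
  induction hy using AddSubgroup.closure_induction with
  | mem a ha =>
    change piOp L.posStr k a = ∑ j ∈ range (k + 1), _ • adams L.posStr j a
    simp only [piOp_line ha, adams_line ha, zsmul_eq_mul]
    rw [sub_eq_add_neg, add_pow]
    refine sum_congr rfl fun j _ => ?_
    push_cast; ring
  | zero => simp
  | add a b _ _ ha hb => simp only [map_add, ha, hb, smul_add, sum_add_distrib]
  | neg a _ ha => simp only [map_neg, ha, smul_neg, sum_neg_distrib]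

theorem piOp_congr_factorial (hK : HasSplitting K P) (k : ℕ) {x : K} (hx : x ∈ gammaFiltration P k) :
    piOp P k x - (k.factorial : K) * x ∈ gammaFiltration P (k + 1) := by
  have hfac : (k.factorial : K) * x =
      ∑ j ∈ range (k + 1), ((-1 : ℤ) ^ (k - j) * (k.choose j : ℤ)) • ((j : K) ^ k * x) := by
    have h := congrFun (fwdDiff_iter_eq_factorial (R := K) (n := k)) 0
    rw [fwdDiff_iter_eq_sum_shift] at h
    rw [show (k.factorial : K) = _ from h.symm, Finset.sum_mul]
    simp [mul_assoc]
  rw [piOp_eq_sum hK, hfac, ← sum_sub_distrib]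
  refine AddSubgroup.sum_mem _ fun j _ => ?_
  rw [← smul_sub]
  exact AddSubgroup.zsmul_mem _ (adams_sub_mem hK j k hx) _

theorem piOp_mem (P : PosStructure K) : ∀ (k : ℕ) (x : K), piOp P k x ∈ gammaFiltration P k
  | 0, x => by rw [gammaFiltration_zero]; exact AddSubgroup.mem_top _
  | k + 1, x => by
    have h := newton (constantCoeff_gammaSeries (x - (P.aug x : K))) k
    simp only [coeff_gammaSeries] at h
    rw [sum_range_succ, Nat.sub_self, gamma_zero, mul_one] at h
    have hz : P.aug (x - (P.aug x : K)) = 0 := by simp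
    have hmem : (-1 : K) ^ k * piOp P (k + 1) x ∈ gammaFiltration P (k + 1) := by
      have e : (-1 : K) ^ k * piOp P (k + 1) x = gamma (k + 1) (x - (P.aug x : K)) * ((k : K) + 1) -
          ∑ i ∈ range k, (-1) ^ i * piOp P (i + 1) x * gamma (k - i) (x - (P.aug x : K)) := by
        simp only [piOp]
        rw [h]; ring
      rw [e]
      refine sub_mem (by rw [mul_comm]; exact mul_mem_filtration_right P _ (gamma_mem_filtration P hz _))
        (AddSubgroup.sum_mem _ fun i hi => ?_)
      have hik : i < k := mem_range.1 hi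
      rw [show k + 1 = (i + 1) + (k - i) by omega]
      exact mul_mem_filtration P (mul_mem_filtration_right P _ (piOp_mem P (i + 1) x))
        (gamma_mem_filtration P hz _)
    have := mul_mem_filtration_right P ((-1 : K) ^ k) hmem
    rwa [neg_one_pow_mul_self] at this

end Groth.Agent.Lambda
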