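import Groth.Prelude.Def_KGr
import Groth.Agent.Lambda.Pi
import Groth.Agent.Lambda.Universal
import Mathlib.RingTheory.Localization.BaseChange
import Mathlib.LinearAlgebra.TensorProduct.Tower

/-!
# `ℚGr K` and the Chern character

Every element of the Rees ring is a sum of `C a T^m` with `a ∈ F^(-m)`; the Chern character is
`x ↦ ∑_{k ≤ d} (1/k!) [π_k x]_k`.
-/

set_option autoImplicit false

open Finset LambdaRing TensorProduct LaurentPolynomial

namespace Groth.Agent.Lambda

universe u

variable {K : Type u} [CommRing K] [LambdaOps K] {P : PosStructure K}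

theorem coeff_C_mul_T' (a : K) (n m : ℤ) :
    (LaurentPolynomial.C a * T n).coeff m = if n = m then a else 0 := by
  classical
  rw [← single_eq_C_mul_T, AddMonoidAlgebra.coeff_single, Finsupp.single_apply]

/-- The homogeneous elements of the Rees ring. -/
def reesTerms (P : PosStructure K) : Set (LaurentPolynomial K) :=
  {p | ∃ (m : ℤ) (a : K), a ∈ gammaFiltration P (-m).toNat ∧ p = LaurentPolynomial.C a * T m}

theorem mul_mem_reesTerms {p q : LaurentPolynomial K} (hp : p ∈ reesTerms P) (hq : q ∈ reesTerms P) :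
    p * q ∈ reesTerms P := by
  obtain ⟨m, a, ha, rfl⟩ := hp
  obtain ⟨n, b, hb, rfl⟩ := hq
  refine ⟨m + n, a * b, filtration_antitone P (by omega) (mul_mem_filtration P ha hb), ?_⟩
  rw [map_mul, T_add]; ring

theorem C_mul_T_mem_rees {m : ℤ} {a : K} (ha : a ∈ gammaFiltration P (-m).toNat) :
    LaurentPolynomial.C a * T m ∈ KGr.rees P := by
  obtain ⟨n, rfl | rfl⟩ := m.eq_nat_or_neg
  · have h1 : LaurentPolynomial.C a ∈ KGr.rees P :=
      Subring.subset_closure (Set.mem_insert_of_mem _ ⟨0, a, by rw [gammaFiltration_zero]; exact AddSubgroup.mem_top _,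
        by simp⟩)
    have h2 : (T 1 : LaurentPolynomial K) ∈ KGr.rees P := Subring.subset_closure (Set.mem_insert _ _)
    have := mul_mem h1 (pow_mem h2 n)
    rwa [T_pow, mul_one] at this
  · exact Subring.subset_closure (Set.mem_insert_of_mem _ ⟨n, a, by simpa using ha, rfl⟩)

theorem mem_closure_reesTerms {p : LaurentPolynomial K} (hp : p ∈ KGr.rees P) :
    p ∈ AddSubgroup.closure (reesTerms P) := by
  induction hp using Subring.closure_induction with
  | mem q hq =>
    rcases hq with rfl | ⟨n, x, hx, rfl⟩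
    · exact AddSubgroup.subset_closure ⟨1, 1, by simpa using one_mem_filtration_zero P, by simp⟩
    · exact AddSubgroup.subset_closure ⟨-n, x, by simpa using hx, rfl⟩
  | zero => exact zero_mem _
  | one => exact AddSubgroup.subset_closure ⟨0, 1, by simpa using one_mem_filtration_zero P, by simp⟩
  | add a b _ _ ha hb => exact add_mem ha hb
  | neg a _ ha => exact neg_mem ha
  | mul a b ha' hb' ha hb =>
    clear ha' hb'
    induction ha using AddSubgroup.closure_induction with
    | mem s hs =>
      induction hb using AddSubgroup.closure_induction with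
      | mem t ht => exact AddSubgroup.subset_closure (mul_mem_reesTerms hs ht)
      | zero => simp
      | add t t' _ _ h h' => rw [mul_add]; exact add_mem h h'
      | neg t _ h => rw [mul_neg]; exact neg_mem h
    | zero => simp
    | add s s' _ _ h h' => rw [add_mul]; exact add_mem h h'
    | neg s _ h => rw [neg_mul]; exact neg_mem h

theorem closure_reesTerms_le : ∀ r ∈ AddSubgroup.closure (reesTerms P), r ∈ KGr.rees P := by
  intro r hr
  induction hr using AddSubgroup.closure_induction with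
  | mem q hq => obtain ⟨n, c, hc, rfl⟩ := hq; exact C_mul_T_mem_rees hc
  | zero => exact zero_mem _
  | add a b _ _ ha hb => exact add_mem ha hb
  | neg a _ ha => exact neg_mem ha

theorem coeff_mem_of_mem_rees {p : LaurentPolynomial K} (hp : p ∈ KGr.rees P) (m : ℤ) :
    p.coeff m ∈ gammaFiltration P (-m).toNat := by
  have h := mem_closure_reesTerms hp
  induction h using AddSubgroup.closure_induction with
  | mem q hq =>
    obtain ⟨n, a, ha, rfl⟩ := hq
    rw [coeff_C_mul_T']
    split_ifs with h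
    · exact h ▸ ha
    · exact zero_mem _
  | zero => simp
  | add a b ha hb iha ihb =>
    rw [AddMonoidAlgebra.coeff_add, Finsupp.add_apply]
    exact add_mem (iha (closure_reesTerms_le _ ha)) (ihb (closure_reesTerms_le _ hb))
  | neg a ha iha =>
    rw [AddMonoidAlgebra.coeff_neg, Finsupp.neg_apply]
    exact neg_mem (iha (closure_reesTerms_le _ ha))

/-- `a T^{-n}` in the Rees ring. -/
noncomputable def reesElt (P : PosStructure K) (n : ℕ) (a : gammaFiltration P n) : KGr.rees P :=
  ⟨LaurentPolynomial.C (a : K) * T (-(n : ℤ)), C_mul_T_mem_rees (by simp)⟩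

/-- The class in degree `n`. -/
noncomputable def cls (P : PosStructure K) (n : ℕ) : gammaFiltration P n →+ KGr.GrZ P :=
  AddMonoidHom.mk' (fun a => Ideal.Quotient.mk _ (reesElt P n a)) fun a b => by
    rw [← map_add]
    congr 1
    exact Subtype.ext (by simp [reesElt, add_mul])

theorem cls_congr {n : ℕ} {a b : gammaFiltration P n} (h : (a : K) = b) : cls P n a = cls P n b := by
  rw [Subtype.ext h]

theorem cls_eq_zero {n : ℕ} (a : gammaFiltration P n) (h : (a : K) ∈ gammaFiltration P (n + 1)) :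
    cls P n a = 0 := by
  refine Ideal.Quotient.eq_zero_iff_mem.2 (Ideal.mem_span_singleton.2 ⟨reesElt P (n + 1) ⟨a, h⟩, ?_⟩)
  refine Subtype.ext ?_
  simp only [reesElt, KGr.tGen, Subring.coe_mul]
  rw [mul_left_comm, ← T_add]
  congr 2
  push_cast; ring

theorem grK_eq {n : ℕ} {x : K} (hx : x ∈ gammaFiltration P n) :
    KGr.grK P (n : ℤ) x = (1 : ℚ) ⊗ₜ[ℤ] cls P n ⟨x, hx⟩ := by
  classical
  have hex : ∃ N : ℕ, 1 ≤ N ∧ LaurentPolynomial.C ((N : K) * x) * T (-(n : ℤ)) ∈ KGr.rees P :=
    ⟨1, le_rfl, C_mul_T_mem_rees (by simpa using hx)⟩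
  rw [KGr.grK, dif_pos hex]
  obtain ⟨hN, -⟩ := hex.choose_spec
  have e : (Ideal.Quotient.mk (Ideal.span {KGr.tGen P})
      ⟨LaurentPolynomial.C ((hex.choose : K) * x) * T (-(n : ℤ)), hex.choose_spec.2⟩ : KGr.GrZ P) =
      ((hex.choose : ℕ) : ℤ) • cls P n ⟨x, hx⟩ := by
    rw [← map_zsmul (cls P n)]
    change _ = Ideal.Quotient.mk _ (reesElt P n _)
    congr 1
    refine Subtype.ext ?_
    simp [reesElt]
  rw [e, TensorProduct.tmul_smul, TensorProduct.smul_tmul']
  congr 1
  rw [zsmul_eq_mul, Int.cast_natCast, mul_one_div, div_self (by exact_mod_cast (Nat.one_le_iff_ne_zero.1 hN))]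

theorem exists_cls_span (z : KGr.GrZ P) :
    z ∈ AddSubgroup.closure {w | ∃ (n : ℕ) (a : gammaFiltration P n), w = cls P n a} := by
  obtain ⟨p, rfl⟩ := Ideal.Quotient.mk_surjective z
  suffices ∀ q : LaurentPolynomial K, q ∈ AddSubgroup.closure (reesTerms P) → ∀ hq : q ∈ KGr.rees P,
      Ideal.Quotient.mk (Ideal.span {KGr.tGen P}) (⟨q, hq⟩ : KGr.rees P) ∈
        AddSubgroup.closure {w | ∃ (n : ℕ) (a : gammaFiltration P n), w = cls P n a} from
    this p.1 (mem_closure_reesTerms p.2) p.2
  intro q hq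
  have hle := closure_reesTerms_le (P := P)
  induction hq using AddSubgroup.closure_induction with
  | mem r hr =>
    intro hr'
    obtain ⟨m, a, ha, rfl⟩ := hr
    obtain ⟨n, rfl | rfl⟩ := m.eq_nat_or_neg
    · rcases n with _ | n
      · refine AddSubgroup.subset_closure ⟨0, ⟨a, by simpa using ha⟩, ?_⟩
        exact congrArg _ (Subtype.ext (by simp [reesElt]))
      · have h0 : Ideal.Quotient.mk (Ideal.span {KGr.tGen P}) (⟨_, hr'⟩ : KGr.rees P) = 0 := by
          refine Ideal.Quotient.eq_zero_iff_mem.2 (Ideal.mem_span_singleton.2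
            ⟨⟨LaurentPolynomial.C a * T (n : ℤ), C_mul_T_mem_rees (by
              simpa [gammaFiltration_zero] using AddSubgroup.mem_top a)⟩, ?_⟩)
          refine Subtype.ext ?_
          simp only [KGr.tGen, Subring.coe_mul]
          rw [mul_left_comm, ← T_add]
          congr 2
          push_cast; ring
        rw [h0]; exact zero_mem _
    · refine AddSubgroup.subset_closure ⟨n, ⟨a, by simpa using ha⟩, ?_⟩
      exact congrArg _ (Subtype.ext rfl)
  | zero =>
    intro h
    rw [show (⟨0, h⟩ : KGr.rees P) = 0 from rfl, map_zero]; exact zero_mem _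
  | add a b ha hb iha ihb =>
    intro h
    rw [show (⟨a + b, h⟩ : KGr.rees P) = ⟨a, hle a ha⟩ + ⟨b, hle b hb⟩ from rfl, map_add]
    exact add_mem (iha _) (ihb _)
  | neg a ha iha =>
    intro h
    rw [show (⟨-a, h⟩ : KGr.rees P) = -⟨a, hle a ha⟩ from rfl, map_neg]
    exact neg_mem (iha _)

/-- The projection to degree `n`, with values in `K / F^(n+1)`. -/
noncomputable def proj (P : PosStructure K) (n : ℕ) : KGr.GrZ P →+ K ⧸ gammaFiltration P (n + 1) :=
  QuotientAddGroup.lift _
    (AddMonoidHom.mk' (fun p : KGr.rees P =>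
        QuotientAddGroup.mk' (gammaFiltration P (n + 1)) (p.1.coeff (-(n : ℤ)))) fun a b => by
      simp [AddMonoidAlgebra.coeff_add])
    (by
      intro p hp
      replace hp : p ∈ Ideal.span {KGr.tGen P} := hp
      obtain ⟨q, rfl⟩ := Ideal.mem_span_singleton.1 hp
      change QuotientAddGroup.mk' (gammaFiltration P (n + 1)) ((KGr.tGen P * q : KGr.rees P).1.coeff (-(n : ℤ))) = 0
      rw [← AddMonoidHom.mem_ker, QuotientAddGroup.ker_mk']
      have e : ((KGr.tGen P * q : KGr.rees P).1).coeff (-(n : ℤ)) = q.1.coeff (-((n + 1 : ℕ) : ℤ)) := by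
        simp only [KGr.tGen, Subring.coe_mul]
        rw [T, AddMonoidAlgebra.coeff_single_mul_eq_mul_coeff (m₂ := -((n + 1 : ℕ) : ℤ)), one_mul]
        intro m' _
        push_cast
        omega
      rw [e]
      simpa using coeff_mem_of_mem_rees q.2 (-((n + 1 : ℕ) : ℤ)))

theorem proj_cls (n m : ℕ) (a : gammaFiltration P m) :
    proj P n (cls P m a) = if m = n then QuotientAddGroup.mk' (gammaFiltration P (n + 1)) (a : K) else 0 := by
  change QuotientAddGroup.mk' (gammaFiltration P (n + 1)) ((reesElt P m a).1.coeff (-(n : ℤ))) = _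
  simp only [reesElt, coeff_C_mul_T']
  by_cases h : m = n
  · rw [if_pos (by omega), if_pos h]
  · rw [if_neg (by omega), if_neg h, map_zero]

theorem psi_chern (P : PosStructure K) (d k : ℕ) (hk : k + 1 ≤ d) (x : K) :
    psi (ser fun i : Fin d => KGr.chern P (i.1 + 1) x) (k + 1) =
      (1 : ℚ) ⊗ₜ[ℤ] cls P (k + 1) ⟨piOp P (k + 1) x, piOp_mem P (k + 1) x⟩ := by
  let z := x - (P.aug x : K)
  have hz : P.aug z = 0 := by simp [z]
  let R : PowerSeries (KGr.rees P) :=
    PowerSeries.mk fun i => reesElt P i ⟨gamma i z, gamma_mem_filtration P hz i⟩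
  let q : KGr.rees P →+* KGr.Gr P :=
    (Algebra.TensorProduct.includeRight : KGr.GrZ P →ₐ[ℤ] KGr.Gr P).toRingHom.comp
      (Ideal.Quotient.mk (Ideal.span {KGr.tGen P}))
  have hR : PowerSeries.constantCoeff R = 1 := by
    rw [← PowerSeries.coeff_zero_eq_constantCoeff_apply, PowerSeries.coeff_mk]
    exact Subtype.ext (by simp [reesElt])
  have hval : PowerSeries.map (KGr.rees P).subtype R =
      PowerSeries.rescale (T (-1) : LaurentPolynomial K) (PowerSeries.map LaurentPolynomial.C (gammaSeries z)) := by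
    ext i
    simp only [R, PowerSeries.coeff_map, PowerSeries.coeff_mk, Subring.subtype_apply, PowerSeries.coeff_rescale,
      coeff_gammaSeries, reesElt]
    rw [T_pow, mul_comm]
    congr 2
    ring
  have hpsi : psi R (k + 1) = reesElt P (k + 1) ⟨piOp P (k + 1) x, piOp_mem P (k + 1) x⟩ := by
    refine Subtype.ext ?_
    rw [← Subring.subtype_apply, psi_map _ hR, hval, psi_rescale _ (by
      rw [← PowerSeries.coeff_zero_eq_constantCoeff_apply, PowerSeries.coeff_map]; simp),
      ← psi_map _ (constantCoeff_gammaSeries z)]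
    simp only [reesElt, piOp, z]
    rw [T_pow, mul_comm]
    congr 2
    push_cast; ring
  have hq := congrArg q hpsi
  have hm := psi_map (R := KGr.rees P) (S := KGr.Gr P) q hR (k + 1)
  have hq2 := hm.symm.trans hq
  refine (psi_ser_eq ?_ (fun i => ?_) hk).trans hq2
  · rw [← PowerSeries.coeff_zero_eq_constantCoeff_apply, PowerSeries.coeff_map,
      PowerSeries.coeff_zero_eq_constantCoeff_apply, hR, map_one]
  · rw [PowerSeries.coeff_map, PowerSeries.coeff_mk, KGr.chern, grK_eq (gamma_mem_filtration P hz _)]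
    rfl

open MvPolynomial in
theorem aeval_chPoly {S : Type*} [CommRing S] [Algebra ℚ S] (d : ℕ) (c : Fin d → S) :
    MvPolynomial.aeval c (KGr.chPoly d) = (d : S) +
      ∑ k ∈ range d, algebraMap ℚ S (1 / ((k + 1).factorial : ℚ)) * psi (ser c) (k + 1) := by
  let Q : MvPolynomial (Fin d) ℚ := (d : MvPolynomial (Fin d) ℚ) +
    ∑ k ∈ range d, MvPolynomial.C (1 / ((k + 1).factorial : ℚ)) * psi (ser fun i => MvPolynomial.X i) (k + 1)
  have h : KGr.chPoly d = Q := by
    refine subst1_injective ℚ d ?_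
    have hl : subst1 ℚ d (KGr.chPoly d) = ∑ i : Fin d, Polynomial.aeval (MvPolynomial.X i) (KGr.expTrunc d) := by
      rw [subst1_eq]
      exact congrArg Subtype.val ((MvPolynomial.esymmAlgEquiv (Fin d) ℚ (Fintype.card_fin d)).apply_symm_apply
        ⟨_, KGr.isSymmetric_sum_aeval d (KGr.expTrunc d)⟩)
    rw [hl, map_add, map_natCast, map_sum]
    have hp : ∀ k, subst1 ℚ d (psi (ser fun i => MvPolynomial.X i) (k + 1)) =
        ∑ i : Fin d, (MvPolynomial.X i : MvPolynomial (Fin d) ℚ) ^ (k + 1) := by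
      intro k
      rw [← AlgHom.coe_toRingHom, map_psi_ser]
      simp only [AlgHom.coe_toRingHom, subst1, MvPolynomial.aeval_X]
      have := ser_rename_esymm (R := ℚ) d (fun a : Fin d => a)
      simp only [show (fun a : Fin d => a) = id from rfl, MvPolynomial.rename_id, AlgHom.coe_id, id] at this
      rw [this, psi_linProd, Multiset.map_map]
      rfl
    simp only [map_mul, hp, KGr.expTrunc, map_sum, MvPolynomial.algHom_C]
    rw [Finset.sum_comm, Finset.sum_range_succ']
    simp only [map_mul, map_pow, Polynomial.aeval_C, Polynomial.aeval_X, pow_zero, mul_one,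
      Nat.factorial_zero, Nat.cast_one, div_one, map_one, Finset.sum_const, Finset.card_univ, Fintype.card_fin,
      nsmul_eq_mul, ← Finset.mul_sum]
    rw [add_comm]
  rw [h]
  simp only [Q, map_add, map_natCast, map_sum, map_mul, MvPolynomial.aeval_C, ← AlgHom.coe_toRingHom, map_psi_ser]
  simp only [AlgHom.coe_toRingHom, MvPolynomial.aeval_X]

theorem chK_eq (P : PosStructure K) (d : ℕ) (x : K) :
    KGr.chK P d x = ∑ k ∈ range (d + 1),
      (1 / (k.factorial : ℚ)) ⊗ₜ[ℤ] cls P k ⟨piOp P k x, piOp_mem P k x⟩ := by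
  rw [KGr.chK, show _ = _ from aeval_chPoly (S := KGr.Gr P) d (fun i : Fin d => KGr.chern P (i.1 + 1) x),
    sum_range_succ', ← add_assoc, ← map_natCast (algebraMap ℚ (KGr.Gr P)) d,
    ← map_add, sub_add_cancel, add_comm]
  congr 1
  · refine sum_congr rfl fun k hk => ?_
    rw [psi_chern P d k (mem_range.1 hk), ← Algebra.smul_def, TensorProduct.smul_tmul', smul_eq_mul, mul_one]
  · have : cls P 0 ⟨piOp P 0 x, piOp_mem P 0 x⟩ = ((P.aug x : ℤ) : KGr.GrZ P) := by
      rw [← map_intCast (Ideal.Quotient.mk (Ideal.span {KGr.tGen P})) (P.aug x)]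
      change Ideal.Quotient.mk _ _ = _
      refine congrArg _ (Subtype.ext ?_)
      simp [reesElt, piOp]
    rw [this, Nat.factorial_zero, Nat.cast_one, one_div_one, Algebra.TensorProduct.algebraMap_apply,
      Algebra.algebraMap_self, RingHom.id_apply, ← zsmul_one, TensorProduct.smul_tmul, zsmul_one]

theorem chK_add (P : PosStructure K) (d : ℕ) (x y : K) :
    KGr.chK P d (x + y) = KGr.chK P d x + KGr.chK P d y := by
  simp only [chK_eq, ← sum_add_distrib, ← TensorProduct.tmul_add, ← map_add]
  refine sum_congr rfl fun k _ => congrArg _ (cls_congr ?_)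
  simp [piOp_add]

theorem chK_of_mem (hK : HasSplitting K P) {d n : ℕ} (hn : n ≤ d) {x : K} (hx : x ∈ gammaFiltration P n) :
    KGr.chK P d x = (1 : ℚ) ⊗ₜ[ℤ] cls P n ⟨x, hx⟩ + ∑ k ∈ Finset.Ioc n d,
      (1 / (k.factorial : ℚ)) ⊗ₜ[ℤ] cls P k ⟨piOp P k x, piOp_mem P k x⟩ := by
  rw [chK_eq]
  have hsplit : range (d + 1) = (range n ∪ {n}) ∪ Finset.Ioc n d := by
    ext k; simp only [mem_range, mem_union, mem_singleton, mem_Ioc]; omega
  rw [hsplit, sum_union (by simp [disjoint_left]; omega), sum_union (by simp), sum_singleton,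
    sum_eq_zero fun k hk => ?_, zero_add]
  · congr 1
    have hc : cls P n ⟨piOp P n x, piOp_mem P n x⟩ = ((n.factorial : ℕ) : ℤ) • cls P n ⟨x, hx⟩ := by
      rw [← map_zsmul, ← sub_eq_zero, ← map_sub]
      exact cls_eq_zero _ (by simpa using piOp_congr_factorial hK n hx)
    rw [hc, TensorProduct.tmul_smul, TensorProduct.smul_tmul']
    congr 1
    rw [zsmul_eq_mul, Int.cast_natCast, mul_one_div, div_self (by exact_mod_cast Nat.factorial_ne_zero n)]
  · have hk : k < n := mem_range.1 hk
    rw [cls_eq_zero _ ?_, TensorProduct.tmul_zero]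
    have hxk : x ∈ gammaFiltration P (k + 1) := filtration_antitone P (by omega) hx
    have := add_mem (piOp_congr_factorial hK k (filtration_antitone P (by omega) hx))
      (mul_mem_filtration_right P (k.factorial : K) hxk)
    simpa using this

theorem exists_rep (P : PosStructure K) (n : ℕ) {v : ℚ ⊗[ℤ] K}
    (hv : v ∈ Submodule.span ℚ ((fun x : K => (1 : ℚ) ⊗ₜ[ℤ] x) '' (gammaFiltration P n : Set K))) :
    ∃ (N : ℕ) (x : K), 0 < N ∧ x ∈ gammaFiltration P n ∧ v = (1 / (N : ℚ)) ⊗ₜ[ℤ] x := by
  induction hv using Submodule.span_induction with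
  | mem w hw =>
    obtain ⟨x, hx, rfl⟩ := hw
    exact ⟨1, x, one_pos, hx, by simp⟩
  | zero => exact ⟨1, 0, one_pos, zero_mem _, by simp⟩
  | add a b _ _ ha hb =>
    obtain ⟨N, x, hN, hx, rfl⟩ := ha
    obtain ⟨M, y, hM, hy, rfl⟩ := hb
    refine ⟨N * M, (M : ℤ) • x + (N : ℤ) • y, Nat.mul_pos hN hM,
      add_mem (AddSubgroup.zsmul_mem _ hx _) (AddSubgroup.zsmul_mem _ hy _), ?_⟩
    rw [TensorProduct.tmul_add, TensorProduct.tmul_smul, TensorProduct.tmul_smul, TensorProduct.smul_tmul',
      TensorProduct.smul_tmul']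
    congr 2 <;> (simp only [zsmul_eq_mul, Int.cast_natCast, Nat.cast_mul]; field_simp)
  | smul c a _ ha =>
    obtain ⟨N, x, hN, hx, rfl⟩ := ha
    refine ⟨N * c.den, c.num • x, Nat.mul_pos hN c.pos, AddSubgroup.zsmul_mem _ hx _, ?_⟩
    rw [TensorProduct.tmul_smul, TensorProduct.smul_tmul', TensorProduct.smul_tmul']
    congr 1
    rw [smul_eq_mul, zsmul_eq_mul]
    conv_lhs => rw [← Rat.num_div_den c]
    push_cast
    field_simp

/-- The Chern character as a map on `ℚ ⊗ K`. -/
noncomputable def chLin (P : PosStructure K) (d : ℕ) : ℚ ⊗[ℤ] K →ₗ[ℚ] KGr.Gr P :=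
  LinearMap.liftBaseChange ℚ (AddMonoidHom.mk' (KGr.chK P d) (chK_add P d)).toIntLinearMap

theorem chLin_tmul (P : PosStructure K) (d : ℕ) (q : ℚ) (x : K) :
    chLin P d (q ⊗ₜ[ℤ] x) = q • KGr.chK P d x := by
  rw [chLin, LinearMap.liftBaseChange_tmul]
  rfl

theorem chLin_injective (hK : HasSplitting K P) {d : ℕ} (hd : gammaFiltration P (d + 1) = ⊥) :
    Function.Injective (chLin P d) := by
  rw [injective_iff_map_eq_zero]
  intro v hv
  let F : ℕ → Submodule ℚ (ℚ ⊗[ℤ] K) := fun n =>
    Submodule.span ℚ ((fun x : K => (1 : ℚ) ⊗ₜ[ℤ] x) '' (gammaFiltration P n : Set K))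
  suffices ∀ n ≤ d + 1, v ∈ F n by
    have h := this (d + 1) le_rfl
    simpa [F, hd] using h
  intro n hn
  induction n with
  | zero =>
    clear hv hn
    induction v using TensorProduct.induction_on with
    | zero => exact zero_mem _
    | tmul q y =>
      have e : q ⊗ₜ[ℤ] y = q • ((1 : ℚ) ⊗ₜ[ℤ] y) := by rw [TensorProduct.smul_tmul', smul_eq_mul, mul_one]
      rw [e]
      exact Submodule.smul_mem _ _ (Submodule.subset_span ⟨y, by rw [gammaFiltration_zero]; trivial, rfl⟩)
    | add a b ha hb => exact add_mem ha hb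
  | succ n ih =>
    obtain ⟨N, x, hN, hx, rfl⟩ := exists_rep P n (ih (by omega))
    rw [chLin_tmul, chK_of_mem hK (by omega : n ≤ d) hx] at hv
    have hp := congrArg (LinearMap.baseChange ℚ (proj P n).toIntLinearMap) hv
    rw [map_smul, map_add, map_sum, map_zero] at hp
    simp only [LinearMap.baseChange_tmul, AddMonoidHom.coe_toIntLinearMap, proj_cls, if_pos] at hp
    rw [sum_eq_zero fun k hk => by rw [if_neg (by rw [mem_Ioc] at hk; omega), TensorProduct.tmul_zero],
      add_zero] at hp
    have h1 := (smul_eq_zero.1 hp).resolve_left (by positivity)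
    obtain ⟨⟨M, hM⟩, hMx⟩ := (IsLocalizedModule.eq_zero_iff (nonZeroDivisors ℤ)
      (TensorProduct.mk ℤ ℚ (K ⧸ gammaFiltration P (n + 1)) 1)).1 h1
    replace hMx : M • x ∈ gammaFiltration P (n + 1) := by
      rw [Submonoid.mk_smul, ← map_zsmul, ← AddMonoidHom.mem_ker, QuotientAddGroup.ker_mk'] at hMx
      exact hMx
    have hM0 : M ≠ 0 := nonZeroDivisors.ne_zero hM
    have e : (1 / (N : ℚ)) ⊗ₜ[ℤ] x = (1 / ((N : ℚ) * M)) • ((1 : ℚ) ⊗ₜ[ℤ] (M • x)) := by
      rw [TensorProduct.tmul_smul, TensorProduct.smul_tmul', TensorProduct.smul_tmul']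
      congr 1
      rw [smul_eq_mul, zsmul_eq_mul, mul_one]
      field_simp
    rw [e]
    exact Submodule.smul_mem _ _ (Submodule.subset_span ⟨_, hMx, rfl⟩)

theorem chLin_surjective (hK : HasSplitting K P) {d : ℕ} (hd : gammaFiltration P (d + 1) = ⊥) :
    Function.Surjective (chLin P d) := by
  have key : ∀ l n, d + 1 ≤ n + l → ∀ a : gammaFiltration P n,
      (1 : ℚ) ⊗ₜ[ℤ] cls P n a ∈ LinearMap.range (chLin P d) := by
    intro l
    induction l with
    | zero =>
      intro n hn a
      have h0 : (a : K) = 0 := by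
        have := filtration_antitone P hn a.2
        rwa [hd, AddSubgroup.mem_bot] at this
      rw [show a = 0 from Subtype.ext h0, map_zero, TensorProduct.tmul_zero]
      exact zero_mem _
    | succ l ih =>
      intro n hn a
      by_cases hnd : n ≤ d
      · have h := chK_of_mem hK hnd a.2
        have hr : KGr.chK P d a ∈ LinearMap.range (chLin P d) :=
          ⟨1 ⊗ₜ[ℤ] (a : K), by rw [chLin_tmul, one_smul]⟩
        rw [h] at hr
        refine (Submodule.add_mem_iff_left _ (Submodule.sum_mem _ fun k hk => ?_)).1 hr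
        rw [mem_Ioc] at hk
        have := Submodule.smul_mem _ (1 / (k.factorial : ℚ))
          (ih k (by omega) ⟨piOp P k a, piOp_mem P k a⟩)
        rwa [TensorProduct.smul_tmul', smul_eq_mul, mul_one] at this
      · exact ih n (by omega) a
  intro v
  rw [← LinearMap.mem_range]
  induction v using TensorProduct.induction_on with
  | zero => exact zero_mem _
  | add a b ha hb => exact add_mem ha hb
  | tmul q z =>
    have hz : (1 : ℚ) ⊗ₜ[ℤ] z ∈ LinearMap.range (chLin P d) := by
      induction exists_cls_span z using AddSubgroup.closure_induction with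
      | mem w hw => obtain ⟨n, a, rfl⟩ := hw; exact key (d + 1) n (by omega) a
      | zero => rw [TensorProduct.tmul_zero]; exact zero_mem _
      | add a b _ _ ha hb => rw [TensorProduct.tmul_add]; exact add_mem ha hb
      | neg a _ ha => rw [TensorProduct.tmul_neg]; exact neg_mem ha
    have := Submodule.smul_mem _ q hz
    rwa [TensorProduct.smul_tmul', smul_eq_mul, mul_one] at this

end Groth.Agent.Lambda
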