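import Groth.Agent.Lambda.Universal
import Mathlib.RingTheory.MvPolynomial.Homogeneous

/-!
# Existence of the universal polynomials `P_n` and `Q_{i,j}`
-/

set_option autoImplicit false

open Finset MvPolynomial

namespace Groth.Agent.Lambda

variable {R : Type*} [CommRing R] (N : ℕ)

theorem exists_subst1 {G : MvPolynomial (Fin N) R} (h : G.IsSymmetric) :
    ∃ P, subst1 R N P = G := by
  obtain ⟨P, hP⟩ := esymmAlgHom_surjective R (le_of_eq (Fintype.card_fin N)) ⟨G, h⟩
  exact ⟨P, by rw [subst1_eq, hP]⟩

theorem map_rename_sumAlgEquiv (σ : Equiv.Perm (Fin N)) (G : MvPolynomial (Fin N ⊕ Fin N) R) :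
    sumAlgEquiv R (Fin N) (Fin N) (rename (Sum.map id σ) G) =
      MvPolynomial.map (rename σ).toRingHom (sumAlgEquiv R (Fin N) (Fin N) G) := by
  refine RingHom.congr_fun
    (f := ((sumAlgEquiv R (Fin N) (Fin N)).toRingEquiv.toRingHom).comp (rename (Sum.map id σ)).toRingHom)
    (g := (MvPolynomial.map (rename σ).toRingHom).comp (sumAlgEquiv R (Fin N) (Fin N)).toRingEquiv.toRingHom)
    ?_ G
  refine MvPolynomial.ringHom_ext (fun r => ?_) fun i => ?_
  · simp
  · cases i <;> simp

theorem rename_sumAlgEquiv (σ : Equiv.Perm (Fin N)) (G : MvPolynomial (Fin N ⊕ Fin N) R) :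
    sumAlgEquiv R (Fin N) (Fin N) (rename (Sum.map σ id) G) =
      rename σ (sumAlgEquiv R (Fin N) (Fin N) G) := by
  refine RingHom.congr_fun
    (f := ((sumAlgEquiv R (Fin N) (Fin N)).toRingEquiv.toRingHom).comp (rename (Sum.map σ id)).toRingHom)
    (g := (rename σ).toRingHom.comp (sumAlgEquiv R (Fin N) (Fin N)).toRingEquiv.toRingHom) ?_ G
  refine MvPolynomial.ringHom_ext (fun r => ?_) fun i => ?_
  · simp
  · cases i <;> simp

theorem map_subst1 {S : Type*} [CommRing S] (f : R →+* S) (P : MvPolynomial (Fin N) R) :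
    subst1 S N (MvPolynomial.map f P) = MvPolynomial.map f (subst1 R N P) := by
  induction P using MvPolynomial.induction_on with
  | C r => simp [subst1]
  | add p q hp hq => simp only [map_add, hp, hq]
  | mul_X p i hp => simp only [map_mul, map_X, hp]; simp [subst1, map_esymm]

/-- A polynomial symmetric in each of two groups of variables is a polynomial in their elementary
symmetric functions. -/
theorem exists_subst2 {G : MvPolynomial (Fin N ⊕ Fin N) R}
    (hl : ∀ σ : Equiv.Perm (Fin N), rename (Sum.map σ id) G = G)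
    (hr : ∀ σ : Equiv.Perm (Fin N), rename (Sum.map id σ) G = G) : ∃ P, subst2 R N P = G := by
  let e := sumAlgEquiv R (Fin N) (Fin N)
  have hs : (e G).IsSymmetric := fun σ => by rw [← rename_sumAlgEquiv, hl]
  obtain ⟨P₁, hP₁⟩ := exists_subst1 N hs
  have hinv : ∀ σ : Equiv.Perm (Fin N), MvPolynomial.map (rename σ).toRingHom P₁ = P₁ := fun σ => by
    refine subst1_injective _ N ?_
    rw [map_subst1, hP₁, ← map_rename_sumAlgEquiv, hr]
  obtain ⟨P₂, hP₂⟩ : P₁ ∈ Set.range (MvPolynomial.map (subst1 R N).toRingHom) := by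
    rw [mem_range_map_iff_coeffs_subset]
    intro c hc
    obtain ⟨d, _, rfl⟩ := mem_coeffs_iff.1 hc
    exact exists_subst1 N fun σ => by
      conv_rhs => rw [← hinv σ, coeff_map]
      rfl
  refine ⟨e.symm P₂, e.injective ?_⟩
  rw [sumAlgEquiv_subst2, AlgEquiv.apply_symm_apply, hP₂, hP₁]

theorem weight_component_aeval {σ τ M : Type*} [AddCommMonoid M] {w : σ → M} {w' : τ → M}
    {φ : σ → MvPolynomial τ R} (hφ : ∀ i, (φ i).IsWeightedHomogeneous w' (w i))
    {P : MvPolynomial σ R} (m : M) (hinj : Function.Injective (aeval φ : MvPolynomial σ R →ₐ[R] _))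
    (h : (aeval φ P).IsWeightedHomogeneous w' m) : P.IsWeightedHomogeneous w m := by
  classical
  have hcomm : ∀ Q : MvPolynomial σ R, weightedHomogeneousComponent w' m (aeval φ Q) =
      aeval φ (weightedHomogeneousComponent w m Q) := by
    intro Q
    induction Q using MvPolynomial.induction_on' with
    | monomial d r =>
      have hd : (aeval φ (monomial d r)).IsWeightedHomogeneous w' (Finsupp.weight w d) := by
        rw [aeval_monomial, Finsupp.weight_apply]
        exact (zero_add (d.sum fun i c => c • w i)) ▸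
          (isWeightedHomogeneous_C w' r).mul
            (IsWeightedHomogeneous.prod d.support _ (fun i => d i • w i) fun i _ => (hφ i).pow (d i))
      rw [weightedHomogeneousComponent_of_mem hd,
        weightedHomogeneousComponent_of_mem (isWeightedHomogeneous_monomial w d r rfl)]
      split_ifs <;> simp
    | add p q hp hq => simp only [map_add, hp, hq]
  have := hcomm P
  rw [weightedHomogeneousComponent_eq_self h] at this
  rw [hinj this]
  exact weightedHomogeneousComponent_isWeightedHomogeneous m P

theorem isWeightedHomogeneous_rename_esymm {τ M : Type*} [AddCommMonoid M] {w : τ → M} (f : Fin N → τ) (a : M)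
    (hw : ∀ i, w (f i) = a) (k : ℕ) :
    (rename f (esymm (Fin N) R k)).IsWeightedHomogeneous w (k • a) := by
  classical
  rw [esymm, map_sum]
  refine IsWeightedHomogeneous.sum _ _ _ fun t ht => ?_
  rw [map_prod]
  have := IsWeightedHomogeneous.prod (R := R) (w := w) t (fun i => rename f (X i)) (fun _ => a)
    fun i _ => by
      rw [rename_X]
      exact (hw i) ▸ isWeightedHomogeneous_X R w (f i)
  rwa [Finset.sum_const, (mem_powersetCard.1 ht).2] at this

theorem isWeightedHomogeneous_esymm_multiset {τ M : Type*} [AddCommMonoid M] {w : τ → M} {ι : Type*}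
    (s : Finset ι) (g : ι → MvPolynomial τ R) (a : M) (hg : ∀ i ∈ s, (g i).IsWeightedHomogeneous w a)
    (k : ℕ) : ((s.val.map g).esymm k).IsWeightedHomogeneous w (k • a) := by
  classical
  rw [Finset.esymm_map_val]
  refine IsWeightedHomogeneous.sum _ _ _ fun t ht => ?_
  have := IsWeightedHomogeneous.prod (R := R) (w := w) t g (fun _ => a) fun i hi =>
    hg i ((mem_powersetCard.1 ht).1 hi)
  rwa [Finset.sum_const, (mem_powersetCard.1 ht).2] at this

theorem exists_isMulPoly (n : ℕ) :
    ∃ P : MvPolynomial (Fin n ⊕ Fin n) ℤ, LambdaRing.IsMulPoly n P := by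
  classical
  have hperm : ∀ (e : Equiv.Perm (Fin n × Fin n)) (f : Fin n ⊕ Fin n → Fin n ⊕ Fin n),
      (∀ ab : Fin n × Fin n, f (Sum.inl ab.1) = Sum.inl (e ab).1 ∧ f (Sum.inr ab.2) = Sum.inr (e ab).2) →
      rename f (LambdaRing.mulGen n n) = LambdaRing.mulGen n n := by
    intro e f hf
    simp only [LambdaRing.mulGen, Finset.esymm_map_val, map_sum, map_prod, map_mul, rename_X,
      fun ab => (hf ab).1, fun ab => (hf ab).2]
    rw [← Finset.esymm_map_val, ← Finset.esymm_map_val]
    congr 1
    conv_rhs => rw [← Multiset.map_univ_val_equiv e]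
    rw [Multiset.map_map]
    rfl
  obtain ⟨P, hP⟩ := exists_subst2 n (G := LambdaRing.mulGen n n)
    (fun σ => hperm (σ.prodCongr (Equiv.refl _)) _ fun ab => ⟨rfl, rfl⟩)
    (fun σ => hperm ((Equiv.refl _).prodCongr σ) _ fun ab => ⟨rfl, rfl⟩)
  refine ⟨P, hP, ?_⟩
  let w' : Fin n ⊕ Fin n → ℕ × ℕ := Sum.elim (fun _ => (1, 0)) fun _ => (0, 1)
  refine weight_component_aeval (w' := w') (fun i => ?_) (n, n) (subst2_injective ℤ n) ?_
  · cases i with
    | inl i =>
      have := isWeightedHomogeneous_rename_esymm (R := ℤ) n (w := w') Sum.inl (1, 0) (fun _ => rfl) ((i : ℕ) + 1)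
      simpa using this
    | inr i =>
      have := isWeightedHomogeneous_rename_esymm (R := ℤ) n (w := w') Sum.inr (0, 1) (fun _ => rfl) ((i : ℕ) + 1)
      simpa using this
  · change (subst2 ℤ n P).IsWeightedHomogeneous w' (n, n)
    rw [hP]
    have := isWeightedHomogeneous_esymm_multiset (R := ℤ) (w := w') (univ : Finset (Fin n × Fin n))
      (fun ab => X (Sum.inl ab.1) * X (Sum.inr ab.2)) (1, 1)
      (fun ab _ => (isWeightedHomogeneous_X ℤ w' (Sum.inl ab.1)).mul
        (isWeightedHomogeneous_X ℤ w' (Sum.inr ab.2))) n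
    simpa [LambdaRing.mulGen] using this

theorem exists_isCompPoly (i j : ℕ) :
    ∃ Q : MvPolynomial (Fin (i * j)) ℤ, LambdaRing.IsCompPoly i j Q := by
  classical
  obtain ⟨Q, hQ⟩ := exists_subst1 (i * j) (G := LambdaRing.compGen (i * j) i j) fun σ => by
    simp only [LambdaRing.compGen, Finset.esymm_map_val, map_sum, map_prod, rename_X]
    rw [← Finset.esymm_map_val, ← Finset.esymm_map_val]
    congr 1
    conv_rhs => rw [← Finset.map_univ_equiv σ, Finset.powersetCard_map, Finset.map_val, Multiset.map_map]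
    simp [Function.comp_def]
  refine ⟨Q, hQ, ?_⟩
  let w' : Fin (i * j) → ℕ := fun _ => 1
  refine weight_component_aeval (w' := w') (fun l => ?_) (i * j) (subst1_injective ℤ (i * j)) ?_
  · have := isWeightedHomogeneous_rename_esymm (R := ℤ) (i * j) (w := w') id 1 (fun _ => rfl) ((l : ℕ) + 1)
    simpa [rename_id] using this
  · change (subst1 ℤ (i * j) Q).IsWeightedHomogeneous w' (i * j)
    rw [hQ]
    have := isWeightedHomogeneous_esymm_multiset (R := ℤ) (w := w')
      ((univ : Finset (Fin (i * j))).powersetCard i) (fun s => ∏ a ∈ s, X a) i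
      (fun s hs => by
        have := IsWeightedHomogeneous.prod (R := ℤ) (w := w') s (fun a => X a) (fun _ => 1)
          fun a _ => isWeightedHomogeneous_X ℤ w' a
        simpa [(mem_powersetCard.1 hs).2] using this) j
    simpa [mul_comm, LambdaRing.compGen] using this

end Groth.Agent.Lambda
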