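import Groth.Agent.Lambda.Positive
import Groth.Agent.Lambda.Poly
import Mathlib.RingTheory.MvPolynomial.Ideal

/-!
# The γ-filtration of a λ-ring with positive structure
-/

set_option autoImplicit false

open Finset LambdaRing

namespace Groth.Agent.Lambda

universe u

variable {K : Type u} [CommRing K] [LambdaOps K] {P : PosStructure K}

theorem gammaFiltration_zero (P : PosStructure K) : gammaFiltration P 0 = ⊤ := by
  simp [gammaFiltration]

theorem list_prod_mem_filtration (P : PosStructure K) (l : List (ℕ × K)) (hl : ∀ p ∈ l, P.aug p.2 = 0)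
    {n : ℕ} (hn : n ≤ (l.map Prod.fst).sum) :
    (l.map fun p => gamma p.1 p.2).prod ∈ gammaFiltration P n := by
  rcases n with _ | n
  · rw [gammaFiltration_zero]; exact AddSubgroup.mem_top _
  · rw [gammaFiltration, if_neg (Nat.succ_ne_zero n)]
    exact AddSubgroup.subset_closure ⟨l, hl, hn, rfl⟩

theorem gamma_mem_filtration (P : PosStructure K) {z : K} (hz : P.aug z = 0) (r : ℕ) :
    gamma r z ∈ gammaFiltration P r := by
  simpa using list_prod_mem_filtration P [(r, z)] (by simp [hz]) (n := r) (by simp)

theorem mem_filtration_one (P : PosStructure K) {z : K} (hz : P.aug z = 0) : z ∈ gammaFiltration P 1 := by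
  simpa [gamma_one] using gamma_mem_filtration P hz 1

theorem filtration_antitone (P : PosStructure K) {m n : ℕ} (h : m ≤ n) :
    gammaFiltration P n ≤ gammaFiltration P m := by
  rcases m with _ | m
  · rw [gammaFiltration_zero]; exact le_top
  · rw [gammaFiltration, gammaFiltration, if_neg (by omega), if_neg (by omega)]
    exact AddSubgroup.closure_mono fun y ⟨l, hl, hn, hy⟩ => ⟨l, hl, h.trans hn, hy⟩

theorem mul_mem_filtration_aux (P : PosStructure K) {m n : ℕ} {x y : K}
    (hx : x ∈ gammaFiltration P (m + 1)) (hy : y ∈ gammaFiltration P (n + 1)) :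
    x * y ∈ gammaFiltration P (m + 1 + (n + 1)) := by
  rw [gammaFiltration, if_neg (Nat.succ_ne_zero m)] at hx
  induction hx using AddSubgroup.closure_induction with
  | mem a ha =>
    obtain ⟨l, hl, hm, rfl⟩ := ha
    rw [gammaFiltration, if_neg (Nat.succ_ne_zero n)] at hy
    induction hy using AddSubgroup.closure_induction with
    | mem b hb =>
      obtain ⟨l', hl', hn, rfl⟩ := hb
      rw [← List.prod_append, ← List.map_append]
      exact list_prod_mem_filtration P _ (fun p hp => (List.mem_append.1 hp).elim (hl p) (hl' p))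
        (by simp only [List.map_append, List.sum_append]; omega)
    | zero => simp
    | add b c _ _ hb hc => rw [mul_add]; exact add_mem hb hc
    | neg b _ hb => rw [mul_neg]; exact neg_mem hb
  | zero => simp
  | add a b _ _ ha hb => rw [add_mul]; exact add_mem ha hb
  | neg a _ ha => rw [neg_mul]; exact neg_mem ha

theorem mul_mem_filtration_right (P : PosStructure K) {n : ℕ} (a : K) {x : K}
    (hx : x ∈ gammaFiltration P n) : a * x ∈ gammaFiltration P n := by
  rcases n with _ | n
  · rw [gammaFiltration_zero]; exact AddSubgroup.mem_top _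
  have : a = (a - (P.aug a : K)) + (P.aug a : K) := by ring
  rw [this, add_mul]
  refine add_mem ?_ ?_
  · exact filtration_antitone P (by omega)
      (mul_mem_filtration_aux P (m := 0) (mem_filtration_one P (by simp)) hx)
  · rw [← zsmul_eq_mul]; exact AddSubgroup.zsmul_mem _ hx _

theorem mul_mem_filtration (P : PosStructure K) {m n : ℕ} {x y : K} (hx : x ∈ gammaFiltration P m)
    (hy : y ∈ gammaFiltration P n) : x * y ∈ gammaFiltration P (m + n) := by
  rcases m with _ | m
  · rw [Nat.zero_add]; exact mul_mem_filtration_right P x hy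
  rcases n with _ | n
  · rw [mul_comm]; exact mul_mem_filtration_right P y hx
  exact mul_mem_filtration_aux P hx hy

/-- The γ-filtration as ideals. -/
def filIdeal (P : PosStructure K) (n : ℕ) : Ideal K where
  carrier := gammaFiltration P n
  zero_mem' := zero_mem _
  add_mem' := add_mem
  smul_mem' a _ hx := mul_mem_filtration_right P a hx

@[simp] theorem mem_filIdeal {n : ℕ} {x : K} : x ∈ filIdeal P n ↔ x ∈ gammaFiltration P n := Iff.rfl

theorem one_mem_filtration_zero (P : PosStructure K) : (1 : K) ∈ gammaFiltration P 0 := by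
  rw [gammaFiltration_zero]; exact AddSubgroup.mem_top _

theorem prod_mem_filtration (P : PosStructure K) {ι : Type*} (t : Finset ι) (x : ι → K) (n : ι → ℕ)
    (h : ∀ i ∈ t, x i ∈ gammaFiltration P (n i)) :
    ∏ i ∈ t, x i ∈ gammaFiltration P (∑ i ∈ t, n i) := by
  classical
  induction t using Finset.induction_on with
  | empty => simpa using one_mem_filtration_zero P
  | insert a t ha ih =>
    rw [prod_insert ha, sum_insert ha]
    exact mul_mem_filtration P (h a (mem_insert_self a t)) (ih fun i hi => h i (mem_insert_of_mem hi))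

theorem pow_mem_filtration (P : PosStructure K) {n : ℕ} {x : K} (h : x ∈ gammaFiltration P n) :
    ∀ k : ℕ, x ^ k ∈ gammaFiltration P (k * n)
  | 0 => by simpa using one_mem_filtration_zero P
  | k + 1 => by
    rw [pow_succ, Nat.succ_mul]
    exact mul_mem_filtration P (pow_mem_filtration P h k) h

open MvPolynomial in
theorem aeval_mem_filtration (P : PosStructure K) {σ : Type*} (w : σ → ℕ) (g : σ → K)
    (hg : ∀ i, g i ∈ gammaFiltration P (w i)) {d : ℕ} (Q : MvPolynomial σ ℤ)
    (hQ : ∀ x ∈ Q.support, d ≤ Finsupp.weight w x) : aeval g Q ∈ gammaFiltration P d := by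
  rw [MvPolynomial.as_sum Q, map_sum]
  refine AddSubgroup.sum_mem _ fun x hx => ?_
  rw [aeval_monomial]
  refine mul_mem_filtration_right P _ (filtration_antitone P (hQ x hx) ?_)
  rw [Finsupp.weight_apply, Finsupp.sum, Finsupp.prod]
  simp only [smul_eq_mul]
  exact prod_mem_filtration P _ _ _ fun i _ => pow_mem_filtration P (hg i) _

theorem map_multiset_esymm {R S F : Type*} [CommSemiring R] [CommSemiring S] [FunLike F R S]
    [RingHomClass F R S] (f : F) (s : Multiset R) (r : ℕ) : f (s.esymm r) = (s.map f).esymm r := by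
  simp [Multiset.esymm, map_multiset_sum, map_multiset_prod, Multiset.powersetCard_map, Multiset.map_map,
    Function.comp_def]

theorem exists_fin_map {α : Type*} (s : Multiset α) {m : ℕ} (hm : Multiset.card s = m) :
    ∃ w : Fin m → α, (univ : Finset (Fin m)).val.map w = s := by
  subst hm
  induction s using Quot.inductionOn with
  | h l => exact ⟨l.get, (Fin.univ_val_map l.get).trans (congrArg Multiset.ofList (List.ofFn_get l))⟩

section poly

open MvPolynomial

variable {σ : Type*}

theorem X_mem_idealOfVars (i : σ) : (X i : MvPolynomial σ ℤ) ∈ idealOfVars σ ℤ :=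
  Ideal.subset_span ⟨i, rfl⟩

theorem prod_sub_prod_mem (I : Ideal (MvPolynomial σ ℤ)) {ι : Type*} (t : Finset ι)
    (a b : ι → MvPolynomial σ ℤ) (hb : ∀ i ∈ t, b i ∈ I) (hab : ∀ i ∈ t, a i - b i ∈ I ^ 2) :
    ∏ i ∈ t, a i ∈ I ^ t.card ∧ ∏ i ∈ t, a i - ∏ i ∈ t, b i ∈ I ^ (t.card + 1) := by
  classical
  induction t using Finset.induction_on with
  | empty => simp
  | insert x t hx ih =>
    obtain ⟨h1, h2⟩ := ih (fun i hi => hb i (mem_insert_of_mem hi)) fun i hi => hab i (mem_insert_of_mem hi)
    have hbx := hb x (mem_insert_self x t)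
    have habx := hab x (mem_insert_self x t)
    have hax : a x ∈ I := by
      rw [← sub_add_cancel (a x) (b x)]
      exact add_mem (Ideal.pow_le_self two_ne_zero habx) hbx
    rw [prod_insert hx, prod_insert hx, card_insert_of_notMem hx]
    refine ⟨?_, ?_⟩
    · rw [pow_succ']; exact Ideal.mul_mem_mul hax h1
    · rw [show a x * ∏ i ∈ t, a i - b x * ∏ i ∈ t, b i =
        (a x - b x) * ∏ i ∈ t, a i + b x * (∏ i ∈ t, a i - ∏ i ∈ t, b i) by ring]
      refine add_mem ?_ ?_
      · rw [show t.card + 1 + 1 = 2 + t.card by omega, pow_add]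
        exact Ideal.mul_mem_mul habx h1
      · rw [pow_succ']
        exact Ideal.mul_mem_mul hbx h2

end poly

open MvPolynomial in
/-- A symmetric polynomial all whose monomials have degree `≥ d` in the `u - 1` of a splitting lies in
`F^d`. -/
theorem symm_aeval_mem {K' : Type u} [CommRing K'] [LambdaOps K'] {P' : PosStructure K'} {f : K →+* K'}
    (hf : IsExtension P P' f) {s : Multiset K'} (hs : ∀ u ∈ s, P'.IsLine u) {e : K} (he : e ∈ P.pos)
    (hse : s.sum = f e) {m : ℕ} (hm : (P.aug e).toNat = m) (w : Fin m → K')
    (hw : (univ : Finset (Fin m)).val.map w = s.map fun u => u - 1)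
    (G : MvPolynomial (Fin m) ℤ) (hG : G.IsSymmetric) {d : ℕ} (hd : G ∈ idealOfVars (Fin m) ℤ ^ d)
    {y : K} (hy : f y = aeval w G) : y ∈ gammaFiltration P d := by
  classical
  obtain ⟨Q, hQ⟩ := exists_subst1 m hG
  let wt : Fin m → ℕ := fun i => (i : ℕ) + 1
  have hwt : ∀ x ∈ Q.support, d ≤ Finsupp.weight wt x := by
    intro x hx
    by_contra hlt
    push Not at hlt
    have hcomp : weightedHomogeneousComponent wt (Finsupp.weight wt x) Q = 0 := by
      refine subst1_injective ℤ m ?_
      rw [map_zero]
      have key : ∀ R : MvPolynomial (Fin m) ℤ,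
          weightedHomogeneousComponent (1 : Fin m → ℕ) (Finsupp.weight wt x) (subst1 ℤ m R) =
            subst1 ℤ m (weightedHomogeneousComponent wt (Finsupp.weight wt x) R) := by
        intro R
        induction R using MvPolynomial.induction_on' with
        | monomial c r =>
          have hc : (subst1 ℤ m (monomial c r)).IsWeightedHomogeneous (1 : Fin m → ℕ)
              (Finsupp.weight wt c) := by
            rw [subst1, aeval_monomial, Finsupp.weight_apply]
            refine (zero_add (c.sum fun i k => k • wt i)) ▸
              (isWeightedHomogeneous_C (1 : Fin m → ℕ) r).mul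
                (IsWeightedHomogeneous.prod c.support _ (fun i => c i • wt i) fun i _ => ?_)
            have := isWeightedHomogeneous_rename_esymm (R := ℤ) m (w := (1 : Fin m → ℕ)) id 1
              (fun _ => rfl) ((i : ℕ) + 1)
            rw [rename_id, AlgHom.coe_id, id, smul_eq_mul, mul_one] at this
            exact this.pow (c i)
          rw [weightedHomogeneousComponent_of_mem hc,
            weightedHomogeneousComponent_of_mem (isWeightedHomogeneous_monomial wt c r rfl)]
          split_ifs <;> simp
        | add p q hp hq => simp only [map_add, hp, hq]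
      rw [← key, hQ]
      ext c
      rw [coeff_weightedHomogeneousComponent, coeff_zero]
      split_ifs with hc
      · refine (mem_pow_idealOfVars_iff' d G).1 hd c ?_
        rw [Finsupp.degree_eq_weight_one]
        exact hc ▸ hlt
      · rfl
    have := congrArg (coeff x) hcomp
    rw [coeff_weightedHomogeneousComponent, if_pos rfl, coeff_zero] at this
    exact mem_support_iff.1 hx this
  suffices h : y = aeval (fun i : Fin m => gamma ((i : ℕ) + 1) (e - ((P.aug e).toNat : K))) Q by
    rw [h]
    exact aeval_mem_filtration P wt _ (fun i => gamma_mem_filtration P (aug_sub_toNat he) _) Q hwt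
  refine hf.injective (hy.trans ?_)
  rw [← hQ, subst1, comp_aeval_apply, ← f.toIntAlgHom_apply, comp_aeval_apply]
  congr 2
  funext i
  rw [RingHom.toIntAlgHom_apply, map_gamma_split hf hs hse, aeval_esymm_eq_multiset_esymm, hw]

/-- `y ∈ F^r` and `ψ^j y ≡ j^r y` modulo `F^(r+1)`. -/
def Cong (P : PosStructure K) (j r : ℕ) (y : K) : Prop :=
  y ∈ gammaFiltration P r ∧ adams P j y - (j : K) ^ r * y ∈ gammaFiltration P (r + 1)

theorem cong_zero_elem (P : PosStructure K) (j r : ℕ) : Cong P j r 0 := by
  have : adams P j (0 : K) = 0 := map_zero (adamsAdd P j)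
  exact ⟨zero_mem _, by rw [this, mul_zero, sub_zero]; exact zero_mem _⟩

theorem Cong.add {j r : ℕ} {x y : K} (hx : Cong P j r x) (hy : Cong P j r y) : Cong P j r (x + y) := by
  refine ⟨add_mem hx.1 hy.1, ?_⟩
  have := add_mem hx.2 hy.2
  convert this using 1
  rw [adams_add]; ring

theorem Cong.neg {j r : ℕ} {x : K} (hx : Cong P j r x) : Cong P j r (-x) := by
  refine ⟨neg_mem hx.1, ?_⟩
  have := neg_mem hx.2
  convert this using 1
  rw [show adams P j (-x) = -adams P j x from map_neg (adamsAdd P j) x]; ring

theorem Cong.sum {j r : ℕ} {ι : Type*} (t : Finset ι) (x : ι → K) (h : ∀ i ∈ t, Cong P j r (x i)) :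
    Cong P j r (∑ i ∈ t, x i) := by
  classical
  induction t using Finset.induction_on with
  | empty => simpa using cong_zero_elem P j r
  | insert a t ha ih =>
    rw [sum_insert ha]
    exact (h a (mem_insert_self a t)).add (ih fun i hi => h i (mem_insert_of_mem hi))

theorem Cong.adams_mem {j r : ℕ} {x : K} (hx : Cong P j r x) : adams P j x ∈ gammaFiltration P r := by
  have : adams P j x = (adams P j x - (j : K) ^ r * x) + (j : K) ^ r * x := by ring
  rw [this]
  exact add_mem (filtration_antitone P (Nat.le_succ r) hx.2) (mul_mem_filtration_right P _ hx.1)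

theorem Cong.mul (hK : HasSplitting K P) {j r r' : ℕ} {x y : K} (hx : Cong P j r x) (hy : Cong P j r' y) :
    Cong P j (r + r') (x * y) := by
  refine ⟨mul_mem_filtration P hx.1 hy.1, ?_⟩
  have h : adams P j (x * y) - (j : K) ^ (r + r') * (x * y) =
      (adams P j x - (j : K) ^ r * x) * adams P j y +
        (j : K) ^ r * (x * (adams P j y - (j : K) ^ r' * y)) := by
    rw [adams_mul hK, pow_add]; ring
  rw [h]
  refine add_mem ?_ (mul_mem_filtration_right P _ ?_)
  · rw [show r + r' + 1 = (r + 1) + r' by omega]
    exact mul_mem_filtration P hx.2 hy.adams_mem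
  · rw [show r + r' + 1 = r + (r' + 1) by omega]
    exact mul_mem_filtration P hx.1 hy.2

theorem cong_one (P : PosStructure K) (j : ℕ) : Cong P j 0 (1 : K) :=
  ⟨one_mem_filtration_zero P, by
    rw [adams_line (isLine_one P), one_pow, pow_zero, one_mul, sub_self]; exact zero_mem _⟩

open MvPolynomial in
theorem cong_gamma_pos (hK : HasSplitting K P) (j : ℕ) {e : K} (he : e ∈ P.pos) (r : ℕ) :
    Cong P j r (gamma r (e - ((P.aug e).toNat : K))) := by
  refine ⟨gamma_mem_filtration P (aug_sub_toNat he) r, ?_⟩
  obtain ⟨L, f, hL, hf, s, hs, hse⟩ := exists_split_pos hK he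
  obtain ⟨w, hw⟩ := exists_fin_map (s.map fun u => u - 1) (m := (P.aug e).toNat)
    (by rw [Multiset.card_map, card_split hf hs hse])
  let I := idealOfVars (Fin (P.aug e).toNat) ℤ
  let a : Fin (P.aug e).toNat → MvPolynomial (Fin (P.aug e).toNat) ℤ := fun i => (1 + X i) ^ j - 1
  let G : MvPolynomial (Fin (P.aug e).toNat) ℤ :=
    ((univ : Finset (Fin _)).val.map a).esymm r - (j : MvPolynomial _ ℤ) ^ r * esymm (Fin _) ℤ r
  have hab : ∀ i, a i - (j : MvPolynomial _ ℤ) * X i ∈ I ^ 2 := by
    intro i
    simp only [a]
    clear * -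
    induction j with
    | zero => simp
    | succ n ih =>
      have : (1 + X i : MvPolynomial (Fin (P.aug e).toNat) ℤ) ^ (n + 1) - 1 - ((n + 1 : ℕ) : MvPolynomial _ ℤ) * X i =
          ((1 + X i) ^ n - 1 - (n : MvPolynomial _ ℤ) * X i) * (1 + X i) + (n : MvPolynomial _ ℤ) * X i ^ 2 := by
        push_cast; ring
      rw [this]
      exact add_mem (Ideal.mul_mem_right _ _ ih)
        (Ideal.mul_mem_left _ _ (Ideal.pow_mem_pow (X_mem_idealOfVars i) 2))
  refine symm_aeval_mem hf hs he hse rfl w hw G ?_ ?_ ?_
  · refine fun σ => ?_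
    simp only [G, map_sub, map_mul, map_pow, map_natCast, esymm_isSymmetric (Fin _) ℤ r σ,
      Finset.esymm_map_val, map_sum, map_prod]
    congr 1
    rw [← Finset.esymm_map_val, ← Finset.esymm_map_val]
    congr 1
    conv_rhs => rw [← Multiset.map_univ_val_equiv σ]
    rw [Multiset.map_map]
    simp [a, Function.comp_def]
  · simp only [G, Finset.esymm_map_val, esymm, Finset.mul_sum, ← Finset.sum_sub_distrib]
    refine Ideal.sum_mem _ fun t ht => ?_
    have hc : t.card = r := (mem_powersetCard.1 ht).2
    have := (prod_sub_prod_mem I t a (fun i => (j : MvPolynomial _ ℤ) * X i)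
      (fun i _ => Ideal.mul_mem_left _ _ (X_mem_idealOfVars i)) fun i _ => hab i).2
    rw [hc, prod_mul_distrib, prod_const, hc] at this
    exact this
  · have hψ : f (adams P j (gamma r (e - ((P.aug e).toNat : K)))) =
        ((s.map fun u => u - 1).map fun v => (1 + v) ^ j - 1).esymm r := by
      rw [map_adams hf, map_gamma_split hf hs hse, ← adamsRing_apply hL, Multiset.esymm, Multiset.esymm,
        map_multiset_sum, Multiset.powersetCard_map (s := s.map fun u => u - 1),
        Multiset.powersetCard_map (s := s)]
      simp only [Multiset.map_map, Function.comp_def, map_multiset_prod]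
      refine congrArg Multiset.sum (Multiset.map_congr rfl fun t ht => congrArg Multiset.prod
        (Multiset.map_congr rfl fun u hu => ?_))
      rw [map_sub, map_one, adamsRing_apply, adams_line (hs u (Multiset.mem_of_le
        (Multiset.mem_powersetCard.1 ht).1 hu))]
      ring
    rw [map_sub, hψ, map_mul, map_pow, map_natCast, map_gamma_split hf hs hse]
    simp only [G, map_sub, map_mul, map_pow, map_natCast, aeval_esymm_eq_multiset_esymm, ← hw]
    congr 1
    rw [map_multiset_esymm, Multiset.map_map, Multiset.map_map]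
    simp [a, Function.comp_def]

theorem cong_gamma (hK : HasSplitting K P) (j : ℕ) {z : K} (hz : P.aug z = 0) (r : ℕ) :
    Cong P j r (gamma r z) := by
  obtain ⟨a, b, ha, hb, rfl⟩ := P.exists_sub z
  have hab : P.aug a = P.aug b := by rwa [map_sub, sub_eq_zero] at hz
  have hneg : ∀ n, Cong P j n (gamma n (-(b - ((P.aug b).toNat : K)))) := by
    intro n
    induction n using Nat.strong_induction_on with
    | _ n ih =>
      rcases n with _ | n
      · rw [gamma_zero]; exact cong_one P j
      have h := gamma_add (n + 1) (b - ((P.aug b).toNat : K)) (-(b - ((P.aug b).toNat : K)))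
      rw [add_neg_cancel, sum_range_succ', gamma_zero, one_mul, ← coeff_gammaSeries, gammaSeries_zero,
        PowerSeries.coeff_one, if_neg (Nat.succ_ne_zero n), Nat.sub_zero] at h
      rw [eq_neg_of_add_eq_zero_right h.symm]
      refine Cong.neg (Cong.sum _ _ fun i hi => ?_)
      rw [mem_range] at hi
      have := (cong_gamma_pos hK j hb (i + 1)).mul hK (ih (n + 1 - (i + 1)) (by omega))
      rwa [Nat.add_sub_cancel' (by omega : i + 1 ≤ n + 1)] at this
  have : a - b = (a - ((P.aug a).toNat : K)) + -(b - ((P.aug b).toNat : K)) := by rw [hab]; ring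
  rw [this, gamma_add]
  refine Cong.sum _ _ fun i hi => ?_
  rw [mem_range] at hi
  have := (cong_gamma_pos hK j ha i).mul hK (hneg (r - i))
  rwa [Nat.add_sub_cancel' (by omega : i ≤ r)] at this

theorem adams_sub_mem (hK : HasSplitting K P) (j n : ℕ) {x : K} (hx : x ∈ gammaFiltration P n) :
    adams P j x - (j : K) ^ n * x ∈ gammaFiltration P (n + 1) := by
  rcases n with _ | n
  · refine mem_filtration_one P ?_
    rw [pow_zero, one_mul, map_sub, aug_adams hK, sub_self]
  suffices h : Cong P j (n + 1) x from h.2
  rw [gammaFiltration, if_neg (Nat.succ_ne_zero n)] at hx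
  induction hx using AddSubgroup.closure_induction with
  | mem y hy =>
    obtain ⟨l, hl, hn, rfl⟩ := hy
    have hc : Cong P j (l.map Prod.fst).sum (l.map fun p => gamma p.1 p.2).prod := by
      clear hn
      induction l with
      | nil => simpa using cong_one P j
      | cons p l ih =>
        simp only [List.map_cons, List.prod_cons, List.sum_cons]
        exact (cong_gamma hK j (hl p (by simp)) p.1).mul hK (ih fun q hq => hl q (by simp [hq]))
    rcases hn.eq_or_lt with h | h
    · exact h ▸ hc
    · exact ⟨filtration_antitone P hn hc.1, sub_mem (filtration_antitone P h hc.adams_mem)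
        (mul_mem_filtration_right P _ (filtration_antitone P h hc.1))⟩
  | zero => exact cong_zero_elem P j (n + 1)
  | add a b _ _ ha hb => exact ha.add hb
  | neg a _ ha => exact ha.neg

theorem aug_eq_zero_of_mem (hK : HasSplitting K P) {n : ℕ} {x : K} (hx : x ∈ gammaFiltration P (n + 1)) :
    P.aug x = 0 := by
  have hg : ∀ (z : K), P.aug z = 0 → ∀ r, P.aug (gamma (r + 1) z) = 0 := by
    intro z hz r
    obtain ⟨L, f, hL, hf, hl⟩ := exists_split hK [z]
    have key : ∀ y ∈ lineGroup L.posStr,
        PowerSeries.map L.posStr.aug (gammaSeries (y - (L.posStr.aug y : L.carrier))) = 1 := by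
      intro y hy
      induction hy using AddSubgroup.closure_induction with
      | mem u hu =>
        rw [hu.2, Int.cast_one, gammaSeries_sub_one (lam_one_of_pos L.posStr) (isLine_lam hu)]
        simp [lin, hu.2]
      | zero => simp
      | add a b _ _ ha hb =>
        rw [map_add L.posStr.aug, Int.cast_add, add_sub_add_comm, gammaSeries_add, map_mul, ha, hb, one_mul]
      | neg a _ ha =>
        have e : gammaSeries (-a - (L.posStr.aug (-a) : L.carrier)) *
            gammaSeries (a - (L.posStr.aug a : L.carrier)) = 1 := by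
          rw [← gammaSeries_add, map_neg, Int.cast_neg]
          ring_nf
          exact gammaSeries_zero
        have := congrArg (PowerSeries.map L.posStr.aug) e
        rwa [map_mul, ha, mul_one, map_one] at this
    have := congrArg (PowerSeries.coeff (r + 1)) (key (f z) (hl z (by simp)))
    rw [hf.aug_comp, hz, Int.cast_zero, sub_zero, PowerSeries.coeff_map, coeff_gammaSeries,
      ← map_gamma hf.isLambdaHom, hf.aug_comp] at this
    simpa using this
  rw [gammaFiltration, if_neg (Nat.succ_ne_zero n)] at hx
  induction hx using AddSubgroup.closure_induction with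
  | mem y hy =>
    obtain ⟨l, hl, hn, rfl⟩ := hy
    obtain ⟨p, hp, hp0⟩ : ∃ p ∈ l, p.1 ≠ 0 := by
      by_contra hall
      push Not at hall
      have : (l.map Prod.fst).sum = 0 := List.sum_eq_zero fun x hx => by
        obtain ⟨p, hp, rfl⟩ := List.mem_map.1 hx
        exact hall p hp
      omega
    rw [map_list_prod]
    refine List.prod_eq_zero ?_
    simp only [List.map_map, List.mem_map]
    refine ⟨p, hp, ?_⟩
    obtain ⟨r, hr⟩ := Nat.exists_eq_succ_of_ne_zero hp0
    simpa [hr] using hg p.2 (hl p hp) r
  | zero => simp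
  | add a b _ _ ha hb => rw [map_add, ha, hb, add_zero]
  | neg a _ ha => rw [map_neg, ha, neg_zero]

end Groth.Agent.Lambda
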