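import Groth.Agent.Lambda.Positive
import Groth.Agent.Lambda.Filtration
import Groth.Agent.Lambda.Alt

/-!
# The determinant and `Gr^1` of the γ-filtration
-/

set_option autoImplicit false

open Finset LambdaRing

namespace Groth.Agent.Lambda

universe u

variable {K : Type u} [CommRing K] [LambdaOps K] {P : PosStructure K}

/-- The top exterior power. -/
def det (P : PosStructure K) (e : K) : K := LambdaOps.lam (P.aug e).toNat e

theorem det_line {u : K} (hu : P.IsLine u) : det P u = u := by
  rw [det, hu.2]; exact LambdaOps.lam_one u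

theorem det_add {e f : K} (he : e ∈ P.pos) (hf : f ∈ P.pos) : det P (e + f) = det P e * det P f := by
  have hpe := P.aug_pos e he
  have hpf := P.aug_pos f hf
  rw [det, map_add, show (P.aug e + P.aug f).toNat = (P.aug e).toNat + (P.aug f).toNat by omega, LambdaOps.lam_add,
    sum_eq_single (P.aug e).toNat]
  · rw [Nat.add_sub_cancel_left]; rfl
  · intro i hi hne
    rw [mem_range] at hi
    rcases Nat.lt_or_ge i (P.aug e).toNat with h | h
    · rw [P.lam_eq_zero f hf _ (by omega), mul_zero]
    · rw [P.lam_eq_zero e he _ (by omega), zero_mul]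
  · intro h; exact absurd (mem_range.2 (by omega)) h

theorem isUnit_det {e : K} (he : e ∈ P.pos) : IsUnit (det P e) := P.isUnit_lam e he

/-- Differences of positive elements of equal determinant. -/
def detKer (P : PosStructure K) : AddSubgroup K where
  carrier := {x | ∃ e f, e ∈ P.pos ∧ f ∈ P.pos ∧ x = e - f ∧ det P e = det P f}
  zero_mem' := by
    have h1 : (1 : K) ∈ P.pos := by simpa using P.natCast_mem 1 Nat.one_pos
    exact ⟨1, 1, h1, h1, (sub_self _).symm, rfl⟩
  add_mem' := by
    rintro _ _ ⟨e, f, he, hf, rfl, h⟩ ⟨e', f', he', hf', rfl, h'⟩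
    exact ⟨e + e', f + f', P.add_mem _ _ he he', P.add_mem _ _ hf hf', by ring, by
      rw [det_add he he', det_add hf hf', h, h']⟩
  neg_mem' := by
    rintro _ ⟨e, f, he, hf, rfl, h⟩
    exact ⟨f, e, hf, he, (neg_sub _ _), h.symm⟩

theorem det_eq_of_mem {e f : K} (he : e ∈ P.pos) (hf : f ∈ P.pos) (h : e - f ∈ detKer P) :
    det P e = det P f := by
  obtain ⟨e', f', he', hf', heq, hd⟩ := h
  have hs : e + f' = e' + f := sub_eq_sub_iff_add_eq_add.1 heq
  have h2 := congrArg (det P) hs
  rw [det_add he hf', det_add he' hf, hd, mul_comm (det P f')] at h2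
  exact (isUnit_det hf').mul_right_cancel h2

theorem detKer_of_map {K' : Type u} [CommRing K'] [LambdaOps K'] {P' : PosStructure K'} {g : K →+* K'}
    (hg : IsExtension P P' g) {x : K} (hx : g x ∈ detKer P') : x ∈ detKer P := by
  obtain ⟨e, f, he, hf, rfl⟩ := P.exists_sub x
  rw [map_sub] at hx
  have h := det_eq_of_mem (hg.pos_subset e he) (hg.pos_subset f hf) hx
  refine ⟨e, f, he, hf, rfl, hg.injective ?_⟩
  rw [det, det, hg.isLambdaHom, hg.isLambdaHom]
  simpa only [det, hg.aug_comp] using h

/-- `x` lies in the `s`-th step, truncated after the second. -/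
def Trunc2 (P : PosStructure K) (s : ℕ) (x : K) : Prop :=
  x ∈ lineGroup P ∧ (1 ≤ s → P.aug x = 0) ∧ (2 ≤ s → x ∈ detKer P)

theorem line_sub_aug_mul_mem {x y : K} (hx : x ∈ lineGroup P) (hy : y ∈ lineGroup P) :
    (x - (P.aug x : K)) * (y - (P.aug y : K)) ∈ detKer P := by
  induction hx using AddSubgroup.closure_induction with
  | mem u hu =>
    induction hy using AddSubgroup.closure_induction with
    | mem v hv =>
      have huv : P.IsLine (u * v) := isLine_mul hu hv
      have h1 : P.IsLine (1 : K) := isLine_one P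
      refine ⟨u * v + 1, u + v, P.add_mem _ _ huv.1 h1.1, P.add_mem _ _ hu.1 hv.1, ?_, ?_⟩
      · rw [hu.2, hv.2]; push_cast; ring
      · rw [det_add huv.1 h1.1, det_add hu.1 hv.1, det_line huv, det_line h1, det_line hu, det_line hv, mul_one]
    | zero => simp
    | add a b _ _ ha hb =>
      convert add_mem ha hb using 1
      rw [map_add]; push_cast; ring
    | neg a _ ha =>
      convert neg_mem ha using 1
      rw [map_neg]; push_cast; ring
  | zero => simp
  | add a b _ _ ha hb =>
    convert add_mem ha hb using 1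
    rw [map_add]; push_cast; ring
  | neg a _ ha =>
    convert neg_mem ha using 1
    rw [map_neg]; push_cast; ring

theorem detKer_mul {x y : K} (hx : x ∈ lineGroup P) (h0 : P.aug x = 0) (hd : x ∈ detKer P)
    (hy : y ∈ lineGroup P) : x * y ∈ detKer P := by
  have h := line_sub_aug_mul_mem hx hy
  rw [h0, Int.cast_zero, sub_zero] at h
  rw [show x * y = x * (y - (P.aug y : K)) + P.aug y • x by rw [zsmul_eq_mul]; ring]
  exact add_mem h (AddSubgroup.zsmul_mem _ hd _)

theorem Trunc2.mul {s t : ℕ} {x y : K} (hx : Trunc2 P s x) (hy : Trunc2 P t y) :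
    Trunc2 P (s + t) (x * y) := by
  refine ⟨mul_mem_lineGroup hx.1 hy.1, fun h => ?_, fun h => ?_⟩
  · rcases Nat.eq_zero_or_pos s with hs | hs
    · rw [map_mul, hy.2.1 (by omega), mul_zero]
    · rw [map_mul, hx.2.1 hs, zero_mul]
  · rcases Nat.lt_or_ge s 2 with hs | hs
    · rcases Nat.eq_zero_or_pos s with hs0 | hs0
      · rw [mul_comm]; exact detKer_mul hy.1 (hy.2.1 (by omega)) (hy.2.2 (by omega)) hx.1
      · have := line_sub_aug_mul_mem hx.1 hy.1
        rwa [hx.2.1 hs0, hy.2.1 (by omega), Int.cast_zero, sub_zero, sub_zero] at this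
    · exact detKer_mul hx.1 (hx.2.1 (by omega)) (hx.2.2 hs) hy.1

theorem trunc2_one : Trunc2 P 0 (1 : K) := ⟨line_mem (isLine_one P), by omega, by omega⟩

theorem trunc2_gamma {x : K} (hx : x ∈ lineGroup P) : ∀ n, Trunc2 P n (gamma n (x - (P.aug x : K))) := by
  induction hx using AddSubgroup.closure_induction with
  | mem u hu =>
    intro n
    have hg : gammaSeries (u - (P.aug u : K)) = lin (u - 1) := by
      rw [hu.2, Int.cast_one, gammaSeries_sub_one (lam_one_of_pos P) (isLine_lam hu)]
    rw [← coeff_gammaSeries, hg]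
    rcases n with _ | _ | n
    · simpa using trunc2_one
    · rw [show PowerSeries.coeff (0 + 1) (lin (u - 1)) = u - 1 by simp [lin]]
      exact ⟨sub_mem (line_mem hu) (line_mem (isLine_one P)), fun _ => by simp [hu.2], by omega⟩
    · rw [show PowerSeries.coeff (n + 1 + 1) (lin (u - 1)) = 0 by simp [lin]]
      exact ⟨zero_mem _, fun _ => map_zero _, fun _ => zero_mem _⟩
  | zero =>
    intro n
    rw [map_zero, Int.cast_zero, sub_zero, ← coeff_gammaSeries, gammaSeries_zero, PowerSeries.coeff_one]
    split_ifs with h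
    · subst h; exact trunc2_one
    · exact ⟨zero_mem _, fun _ => map_zero _, fun _ => zero_mem _⟩
  | add a b _ _ ha hb =>
    intro n
    rw [map_add, Int.cast_add, add_sub_add_comm, gamma_add]
    refine ⟨AddSubgroup.sum_mem _ fun i hi => ?_, fun h => ?_, fun h => AddSubgroup.sum_mem _ fun i hi => ?_⟩
    · exact ((ha i).mul (hb (n - i))).1
    · rw [map_sum]
      refine sum_eq_zero fun i hi => ?_
      rw [mem_range] at hi
      exact ((ha i).mul (hb (n - i))).2.1 (by omega)
    · rw [mem_range] at hi
      exact ((ha i).mul (hb (n - i))).2.2 (by omega)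
  | neg a _ ha =>
    intro n
    rw [map_neg, Int.cast_neg, ← neg_sub']
    induction n using Nat.strong_induction_on with
    | _ n ih =>
      rcases n with _ | n
      · rw [gamma_zero]; exact trunc2_one
      have h := gamma_add (n + 1) (a - (P.aug a : K)) (-(a - (P.aug a : K)))
      rw [add_neg_cancel, sum_range_succ', gamma_zero, one_mul, ← coeff_gammaSeries, gammaSeries_zero,
        PowerSeries.coeff_one, if_neg (Nat.succ_ne_zero n), Nat.sub_zero] at h
      rw [eq_neg_of_add_eq_zero_right h.symm]
      have ht : ∀ i ∈ range (n + 1), Trunc2 P (n + 1)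
          (gamma (i + 1) (a - (P.aug a : K)) * gamma (n + 1 - (i + 1)) (-(a - (P.aug a : K)))) := fun i hi => by
        rw [mem_range] at hi
        have := (ha (i + 1)).mul (ih (n + 1 - (i + 1)) (by omega))
        rwa [Nat.add_sub_cancel' (by omega : i + 1 ≤ n + 1)] at this
      refine ⟨neg_mem (AddSubgroup.sum_mem _ fun i hi => (ht i hi).1), fun h => ?_,
        fun h => neg_mem (AddSubgroup.sum_mem _ fun i hi => (ht i hi).2.2 h)⟩
      rw [map_neg, map_sum, sum_eq_zero fun i hi => (ht i hi).2.1 h, neg_zero]

theorem detKer_of_mem_filtration (hK : HasSplitting K P) {x : K} (hx : x ∈ gammaFiltration P 2) :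
    x ∈ detKer P := by
  rw [gammaFiltration, if_neg (by omega)] at hx
  induction hx using AddSubgroup.closure_induction with
  | zero => exact zero_mem _
  | add a b _ _ ha hb => exact add_mem ha hb
  | neg a _ ha => exact neg_mem ha
  | mem y hy =>
    obtain ⟨l, hl, hn, rfl⟩ := hy
    obtain ⟨L, g, -, hg, hsplit⟩ := exists_split hK (l.map Prod.snd)
    refine detKer_of_map hg ?_
    suffices h : Trunc2 L.posStr (l.map Prod.fst).sum (g (l.map fun p => gamma p.1 p.2).prod) from h.2.2 hn
    clear hn
    induction l with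
    | nil => simpa using trunc2_one
    | cons a l ih =>
      simp only [List.map_cons, List.prod_cons, List.sum_cons, map_mul]
      refine Trunc2.mul ?_ (ih (fun p hp => hl p (List.mem_cons_of_mem _ hp))
        fun z hz => hsplit z (List.mem_cons_of_mem _ hz))
      have h := trunc2_gamma (hsplit a.2 (by simp)) a.1
      rwa [hg.aug_comp, hl a List.mem_cons_self, Int.cast_zero, sub_zero, ← map_gamma hg.isLambdaHom] at h

theorem det_sub_one_sub_mem (hK : HasSplitting K P) {e : K} (he : e ∈ P.pos) :
    det P e - 1 - (e - ((P.aug e).toNat : K)) ∈ gammaFiltration P 2 := by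
  have hz := aug_sub_toNat (P := P) he
  have hid : det P e =
      ∑ i ∈ range ((P.aug e).toNat + 1), gamma i (e - ((P.aug e).toNat : K)) := by
    obtain ⟨L, g, -, hg, s, hs, hse⟩ := exists_split_pos hK he
    refine hg.injective ?_
    rw [det, map_lam_split hg hs hse, card_split hg hs hse, map_sum, esymm_card]
    have hgam : ∀ i, g (gamma i (e - (Multiset.card s : K))) = (s.map fun u => u - 1).esymm i := fun i => by
      rw [← card_split hg hs hse, map_gamma_split hg hs hse]
    simp only [hgam]
    have h := congrArg (Polynomial.eval 1) (Multiset.prod_X_add_C_eq_sum_esymm (s.map fun u => u - 1))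
    simp only [Multiset.map_map, Function.comp_def, Polynomial.eval_multiset_prod, Polynomial.eval_add,
      Polynomial.eval_X, Polynomial.eval_C, add_sub_cancel, Multiset.map_id', Polynomial.eval_finsetSum,
      Polynomial.eval_mul, Polynomial.eval_pow, one_pow, mul_one, Multiset.card_map] at h
    exact h
  obtain ⟨m, hm⟩ : ∃ m, (P.aug e).toNat = m + 1 := ⟨(P.aug e).toNat - 1, by have := P.aug_pos e he; omega⟩
  rw [hm] at hz hid ⊢
  rw [hid, sum_range_succ', sum_range_succ', gamma_zero, gamma_one, add_sub_cancel_right, add_sub_cancel_right]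
  exact AddSubgroup.sum_mem _ fun i _ =>
    filtration_antitone P (by omega) (gamma_mem_filtration P hz (i + 1 + 1))

end Groth.Agent.Lambda
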