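import Groth.Agent.Lambda.Pi
import Mathlib.RingTheory.TensorProduct.Basic
import Mathlib.LinearAlgebra.Eigenspace.Basic

/-!
# Eigenspace decomposition of `ℚ ⊗ K` under the Adams operations
-/

set_option autoImplicit false

open Finset LambdaRing TensorProduct

namespace Groth.Agent.Lambda

universe u

variable {K : Type u} [CommRing K] [LambdaOps K] {P : PosStructure K}

/-- `ℚF^n`. -/
noncomputable def qFil (P : PosStructure K) (n : ℕ) : Submodule ℚ (ℚ ⊗[ℤ] K) :=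
  Submodule.span ℚ ((fun x : K => (1 : ℚ) ⊗ₜ[ℤ] x) '' (gammaFiltration P n : Set K))

theorem tmul_mem_qFil (P : PosStructure K) {n : ℕ} (q : ℚ) {x : K} (hx : x ∈ gammaFiltration P n) :
    q ⊗ₜ[ℤ] x ∈ qFil P n := by
  have : q ⊗ₜ[ℤ] x = q • ((1 : ℚ) ⊗ₜ[ℤ] x) := by rw [TensorProduct.smul_tmul', smul_eq_mul, mul_one]
  rw [this]
  exact Submodule.smul_mem _ _ (Submodule.subset_span ⟨x, hx, rfl⟩)

theorem qFil_zero (P : PosStructure K) : qFil P 0 = ⊤ := by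
  rw [eq_top_iff]
  rintro v -
  induction v using TensorProduct.induction_on with
  | zero => exact zero_mem _
  | tmul q x => exact tmul_mem_qFil P q (by rw [gammaFiltration_zero]; exact AddSubgroup.mem_top _)
  | add a b ha hb => exact add_mem ha hb

theorem qFil_antitone (P : PosStructure K) {m n : ℕ} (h : m ≤ n) : qFil P n ≤ qFil P m :=
  Submodule.span_mono (Set.image_mono (filtration_antitone P h))

theorem qFil_eq_bot {d : ℕ} (hd : gammaFiltration P (d + 1) = ⊥) {n : ℕ} (h : d + 1 ≤ n) :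
    qFil P n = ⊥ := by
  refine le_bot_iff.1 ((qFil_antitone P h).trans (le_of_eq ?_))
  rw [qFil, hd]
  simp

variable (hK : HasSplitting K P) {j : ℕ} {Ψ : ℚ ⊗[ℤ] K →ₗ[ℚ] ℚ ⊗[ℤ] K}
  (hΨ : ∀ x : K, Ψ (1 ⊗ₜ[ℤ] x) = 1 ⊗ₜ[ℤ] adams P j x)

include hK hΨ in
theorem sub_smul_mem_qFil {n : ℕ} {v : ℚ ⊗[ℤ] K} (hv : v ∈ qFil P n) :
    Ψ v - ((j : ℚ) ^ n) • v ∈ qFil P (n + 1) := by
  induction hv using Submodule.span_induction with
  | mem w hw =>
    obtain ⟨x, hx, rfl⟩ := hw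
    have e : ((j : ℚ) ^ n) • ((1 : ℚ) ⊗ₜ[ℤ] x) = (1 : ℚ) ⊗ₜ[ℤ] ((j : K) ^ n * x) := by
      rw [TensorProduct.smul_tmul', show (j : K) ^ n * x = ((j : ℤ) ^ n) • x by simp, TensorProduct.tmul_smul,
        TensorProduct.smul_tmul']
      simp
    simp only []
    rw [hΨ, e, ← TensorProduct.tmul_sub]
    exact tmul_mem_qFil P 1 (adams_sub_mem hK j n hx)
  | zero => simp
  | add a b _ _ ha hb =>
    rw [map_add, smul_add, add_sub_add_comm]; exact add_mem ha hb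
  | smul c a _ ha =>
    rw [map_smul, smul_comm, ← smul_sub]; exact Submodule.smul_mem _ _ ha

include hK hΨ in
theorem map_qFil_le {n : ℕ} {v : ℚ ⊗[ℤ] K} (hv : v ∈ qFil P n) : Ψ v ∈ qFil P n := by
  rw [← sub_add_cancel (Ψ v) (((j : ℚ) ^ n) • v)]
  exact add_mem (qFil_antitone P (Nat.le_succ n) (sub_smul_mem_qFil hK hΨ hv)) (Submodule.smul_mem _ _ hv)

theorem pow_sub_pow_ne_zero (hj : 2 ≤ j) {m k : ℕ} (h : m ≠ k) : (j : ℚ) ^ m - (j : ℚ) ^ k ≠ 0 := by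
  rw [sub_ne_zero]
  exact fun e => h (Nat.pow_right_injective hj (by exact_mod_cast e))

include hK hΨ in
theorem eigen_step (hj : 2 ≤ j) {m k : ℕ} (h : m ≠ k) {v : ℚ ⊗[ℤ] K}
    (he : Ψ v = ((j : ℚ) ^ m) • v) (hv : v ∈ qFil P k) : v ∈ qFil P (k + 1) := by
  have := sub_smul_mem_qFil hK hΨ hv
  rw [he, ← sub_smul] at this
  have h' := Submodule.smul_mem _ ((j : ℚ) ^ m - (j : ℚ) ^ k)⁻¹ this
  rwa [smul_smul, inv_mul_cancel₀ (pow_sub_pow_ne_zero hj h), one_smul] at h'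

include hK hΨ in
theorem eigen_le_qFil (hj : 2 ≤ j) (m : ℕ) :
    Module.End.eigenspace Ψ ((j : ℚ) ^ m) ≤ qFil P m := by
  intro v hv
  rw [Module.End.mem_eigenspace_iff] at hv
  suffices ∀ k ≤ m, v ∈ qFil P k from this m le_rfl
  intro k hk
  induction k with
  | zero => rw [qFil_zero]; trivial
  | succ k ih => exact eigen_step hK hΨ hj (by omega) hv (ih (by omega))

variable {d : ℕ} (hd : gammaFiltration P (d + 1) = ⊥)

include hK hΨ hd in
theorem eigen_inf_qFil (hj : 2 ≤ j) (m : ℕ) :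
    Module.End.eigenspace Ψ ((j : ℚ) ^ m) ⊓ qFil P (m + 1) = ⊥ := by
  rw [Submodule.eq_bot_iff]
  rintro v ⟨hv, hvm⟩
  rw [SetLike.mem_coe, Module.End.mem_eigenspace_iff] at hv
  suffices ∀ k, v ∈ qFil P (m + 1 + k) by
    have := this (d + 1)
    rwa [qFil_eq_bot hd (by omega), Submodule.mem_bot] at this
  intro k
  induction k with
  | zero => exact hvm
  | succ k ih => exact eigen_step hK hΨ hj (Nat.ne_of_lt (show m < m + 1 + k by omega)) hv ih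

include hK hΨ hd in
theorem exists_solve (hj : 2 ≤ j) (m : ℕ) : ∀ (l k : ℕ), d + 1 ≤ k + l → m < k →
    ∀ z ∈ qFil P k, ∃ y ∈ qFil P k, Ψ y - ((j : ℚ) ^ m) • y = z := by
  intro l
  induction l with
  | zero =>
    intro k hk _ z hz
    rw [qFil_eq_bot hd (by omega), Submodule.mem_bot] at hz
    exact ⟨0, zero_mem _, by simp [hz]⟩
  | succ l ih =>
    intro k hk hmk z hz
    set y₀ := ((j : ℚ) ^ k - (j : ℚ) ^ m)⁻¹ • z with hy₀
    have hy : y₀ ∈ qFil P k := Submodule.smul_mem _ _ hz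
    have hy' : ((j : ℚ) ^ k - (j : ℚ) ^ m) • y₀ = z := by
      rw [hy₀, smul_smul, mul_inv_cancel₀ (pow_sub_pow_ne_zero hj (by omega)), one_smul]
    have hr : z - (Ψ y₀ - ((j : ℚ) ^ m) • y₀) ∈ qFil P (k + 1) := by
      have := neg_mem (sub_smul_mem_qFil hK hΨ hy)
      convert this using 1
      rw [← hy', sub_smul]
      abel
    obtain ⟨y₁, hy₁, e⟩ := ih (k + 1) (by omega) (by omega) _ hr
    refine ⟨y₀ + y₁, add_mem hy (qFil_antitone P (Nat.le_succ k) hy₁), ?_⟩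
    rw [map_add, smul_add, add_sub_add_comm, e, add_sub_cancel]

include hK hΨ hd in
theorem eigen_sup_qFil (hj : 2 ≤ j) (m : ℕ) :
    Module.End.eigenspace Ψ ((j : ℚ) ^ m) ⊔ qFil P (m + 1) = qFil P m := by
  refine le_antisymm (sup_le (eigen_le_qFil hK hΨ hj m) (qFil_antitone P (Nat.le_succ m))) fun x hx => ?_
  obtain ⟨y, hy, e⟩ := exists_solve hK hΨ hd hj m (d + 1) (m + 1) (by omega) (by omega) _
    (sub_smul_mem_qFil hK hΨ hx)
  refine Submodule.mem_sup.2 ⟨x - y, ?_, y, hy, sub_add_cancel _ _⟩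
  rw [Module.End.mem_eigenspace_iff, map_sub, smul_sub]
  linear_combination (norm := abel) -(1 : ℤ) • e

include hK hΨ hd in
theorem iSup_eigen_eq_top (hj : 2 ≤ j) :
    (⨆ m ∈ range (d + 1), Module.End.eigenspace Ψ ((j : ℚ) ^ m)) = ⊤ := by
  rw [eq_top_iff, ← qFil_zero P]
  suffices ∀ l k, d + 1 ≤ k + l →
      qFil P k ≤ ⨆ m ∈ range (d + 1), Module.End.eigenspace Ψ ((j : ℚ) ^ m) from this (d + 1) 0 (by omega)
  intro l
  induction l with
  | zero => intro k hk; rw [qFil_eq_bot hd (by omega)]; exact bot_le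
  | succ l ih =>
    intro k hk
    by_cases hkd : d + 1 ≤ k
    · rw [qFil_eq_bot hd hkd]; exact bot_le
    rw [← eigen_sup_qFil hK hΨ hd hj k]
    exact sup_le (le_biSup (fun m => Module.End.eigenspace Ψ ((j : ℚ) ^ m)) (mem_range.2 (by omega)))
      (ih (k + 1) (by omega))

theorem adams_apply_comm (hK : HasSplitting K P) {i j : ℕ} {Ψi Ψj : ℚ ⊗[ℤ] K →ₗ[ℚ] ℚ ⊗[ℤ] K}
    (hi : ∀ x : K, Ψi (1 ⊗ₜ[ℤ] x) = 1 ⊗ₜ[ℤ] adams P i x)
    (hj : ∀ x : K, Ψj (1 ⊗ₜ[ℤ] x) = 1 ⊗ₜ[ℤ] adams P j x) (v : ℚ ⊗[ℤ] K) : Ψi (Ψj v) = Ψj (Ψi v) := by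
  induction v using TensorProduct.induction_on with
  | zero => simp
  | tmul q x =>
    have : q ⊗ₜ[ℤ] x = q • ((1 : ℚ) ⊗ₜ[ℤ] x) := by rw [TensorProduct.smul_tmul', smul_eq_mul, mul_one]
    rw [this, map_smul, map_smul, map_smul, map_smul, hi, hj, hi, hj, adams_adams hK, adams_adams hK,
      mul_comm]
  | add a b ha hb => rw [map_add, map_add, map_add, map_add, ha, hb]

theorem eigen_le_eigen (hK : HasSplitting K P) {i j d : ℕ} (hd : gammaFiltration P (d + 1) = ⊥)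
    (h2j : 2 ≤ j) {Ψi Ψj : ℚ ⊗[ℤ] K →ₗ[ℚ] ℚ ⊗[ℤ] K}
    (hi : ∀ x : K, Ψi (1 ⊗ₜ[ℤ] x) = 1 ⊗ₜ[ℤ] adams P i x)
    (hj : ∀ x : K, Ψj (1 ⊗ₜ[ℤ] x) = 1 ⊗ₜ[ℤ] adams P j x) (m : ℕ) :
    Module.End.eigenspace Ψj ((j : ℚ) ^ m) ≤ Module.End.eigenspace Ψi ((i : ℚ) ^ m) := by
  intro v hv
  have hvm := eigen_le_qFil hK hj h2j m hv
  rw [Module.End.mem_eigenspace_iff] at hv ⊢
  have hmem : Ψi v - ((i : ℚ) ^ m) • v ∈ Module.End.eigenspace Ψj ((j : ℚ) ^ m) ⊓ qFil P (m + 1) := by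
    refine ⟨?_, sub_smul_mem_qFil hK hi hvm⟩
    rw [SetLike.mem_coe, Module.End.mem_eigenspace_iff, map_sub, map_smul, ← adams_apply_comm hK hi hj, hv,
      map_smul, smul_sub, smul_comm]
  rw [eigen_inf_qFil hK hj hd h2j m, Submodule.mem_bot] at hmem
  exact sub_eq_zero.1 hmem

end Groth.Agent.Lambda
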