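import Groth.Agent.Lambda.Gamma

/-!
# λ-rings with positive structure: line elements, the splitting principle, Adams operations
-/

set_option autoImplicit false

open Finset LambdaRing

namespace Groth.Agent.Lambda

universe u

variable {K : Type u} [CommRing K] [LambdaOps K] {P : PosStructure K}

theorem isLine_one (P : PosStructure K) : P.IsLine 1 :=
  ⟨by simpa using P.natCast_mem 1 one_pos, map_one _⟩

theorem isLine_lam {u : K} (hu : P.IsLine u) (j : ℕ) (hj : 2 ≤ j) : LambdaOps.lam j u = 0 :=
  P.lam_eq_zero u hu.1 j (by rw [hu.2]; exact_mod_cast hj)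

theorem lam_one_of_pos (P : PosStructure K) : ∀ k : ℕ, 2 ≤ k → LambdaOps.lam k (1 : K) = 0 :=
  fun k hk => isLine_lam (isLine_one P) k hk

theorem isLine_mul {u v : K} (hu : P.IsLine u) (hv : P.IsLine v) : P.IsLine (u * v) :=
  ⟨P.mul_mem u v hu.1 hv.1, by rw [map_mul, hu.2, hv.2, one_mul]⟩

theorem isLine_pow {u : K} (hu : P.IsLine u) : ∀ n : ℕ, P.IsLine (u ^ n)
  | 0 => by rw [pow_zero]; exact isLine_one P
  | n + 1 => by rw [pow_succ]; exact isLine_mul (isLine_pow hu n) hu

theorem isUnit_line {u : K} (hu : P.IsLine u) : IsUnit u := by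
  have := P.isUnit_lam u hu.1
  rw [hu.2] at this
  simpa [LambdaOps.lam_one] using this

theorem toNat_cast {e : K} (he : e ∈ P.pos) : (((P.aug e).toNat : ℕ) : ℤ) = P.aug e :=
  Int.toNat_of_nonneg (P.aug_pos e he).le

theorem lam_eq_zero_of_toNat_lt {e : K} (he : e ∈ P.pos) {i : ℕ} (hi : (P.aug e).toNat < i) :
    LambdaOps.lam i e = 0 :=
  P.lam_eq_zero e he i (by have := toNat_cast he; omega)

theorem aug_sub_toNat {e : K} (he : e ∈ P.pos) : P.aug (e - ((P.aug e).toNat : K)) = 0 := by
  rw [map_sub, map_natCast, toNat_cast he, sub_self]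

theorem psi_rescale {R : Type*} [CommRing R] (a : R) {A : PowerSeries R}
    (hA : PowerSeries.constantCoeff A = 1) (k : ℕ) :
    psi (PowerSeries.rescale a A) (k + 1) = a ^ (k + 1) * psi A (k + 1) := by
  refine psi_succ_eq ?_ (fun m => a ^ m * psi A m) (fun n => ?_) k
  · rw [← PowerSeries.coeff_zero_eq_constantCoeff_apply, PowerSeries.coeff_rescale, pow_zero, one_mul,
      PowerSeries.coeff_zero_eq_constantCoeff_apply, hA]
  rw [PowerSeries.coeff_rescale, mul_assoc, newton hA, mul_sum]
  refine sum_congr rfl fun i hi => ?_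
  rw [mem_range] at hi
  rw [PowerSeries.coeff_rescale, show n + 1 = (i + 1) + (n - i) by omega, pow_add]
  ring

theorem adams_zero (P : PosStructure K) (x : K) : adams P 0 x = (P.aug x : K) := by
  rw [adams, adamsSeries, map_sub, mul_assoc, PowerSeries.coeff_zero_X_mul, sub_zero,
    PowerSeries.coeff_zero_eq_constantCoeff_apply, PowerSeries.constantCoeff_C]

theorem adams_succ (P : PosStructure K) (k : ℕ) (x : K) : adams P (k + 1) x = adamsOp (k + 1) x := by
  rw [adams, adamsSeries, map_sub, mul_assoc, PowerSeries.coeff_succ_X_mul, PowerSeries.coeff_C,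
    if_neg (Nat.succ_ne_zero k), zero_sub, adamsOp_eq_psi]
  change -(PowerSeries.coeff k (logD (PowerSeries.rescale (-1 : K) (lamSeries x)))) = _
  have h := psi_rescale (-1 : K) (constantCoeff_lamSeries x) k
  rw [psi] at h
  have h2 := congrArg (fun z => (-1 : K) ^ k * z) h
  simp only [neg_one_pow_mul_self] at h2
  rw [h2, pow_succ, mul_assoc ((-1 : K) ^ k), neg_one_pow_mul_self]
  ring

theorem adams_add (P : PosStructure K) (j : ℕ) (x y : K) :
    adams P j (x + y) = adams P j x + adams P j y := by
  cases j with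
  | zero => rw [adams_zero, adams_zero, adams_zero, map_add, Int.cast_add]
  | succ j => rw [adams_succ, adams_succ, adams_succ, adamsOp_add]

/-- `ψ^j` as an additive map. -/
noncomputable def adamsAdd (P : PosStructure K) (j : ℕ) : K →+ K :=
  AddMonoidHom.mk' (adams P j) (adams_add P j)

theorem adams_line {u : K} (hu : P.IsLine u) (j : ℕ) : adams P j u = u ^ j := by
  cases j with
  | zero => rw [adams_zero, hu.2, pow_zero, Int.cast_one]
  | succ j => rw [adams_succ, adamsOp_of_linear (isLine_lam hu)]

/-- The additive subgroup spanned by the line elements. -/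
def lineGroup (P : PosStructure K) : AddSubgroup K := AddSubgroup.closure {u | P.IsLine u}

theorem line_mem {u : K} (hu : P.IsLine u) : u ∈ lineGroup P := AddSubgroup.subset_closure hu

theorem intCast_mem_lineGroup (n : ℤ) : (n : K) ∈ lineGroup P := by
  simpa using (lineGroup P).zsmul_mem (line_mem (isLine_one P)) n

theorem mul_mem_lineGroup {x y : K} (hx : x ∈ lineGroup P) (hy : y ∈ lineGroup P) :
    x * y ∈ lineGroup P := by
  induction hx using AddSubgroup.closure_induction with
  | mem a ha =>
    induction hy using AddSubgroup.closure_induction with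
    | mem b hb => exact line_mem (isLine_mul ha hb)
    | zero => simp
    | add b c _ _ hb hc => rw [mul_add]; exact add_mem hb hc
    | neg b _ hb => rw [mul_neg]; exact neg_mem hb
  | zero => simp
  | add a b _ _ ha hb => rw [add_mul]; exact add_mem ha hb
  | neg a _ ha => rw [neg_mul]; exact neg_mem ha

theorem adams_mul_of_lineGroup (j : ℕ) {x y : K} (hx : x ∈ lineGroup P) (hy : y ∈ lineGroup P) :
    adams P j (x * y) = adams P j x * adams P j y := by
  change adamsAdd P j (x * y) = adamsAdd P j x * adamsAdd P j y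
  induction hx using AddSubgroup.closure_induction with
  | mem a ha =>
    induction hy using AddSubgroup.closure_induction with
    | mem b hb =>
      change adams P j (a * b) = adams P j a * adams P j b
      rw [adams_line (isLine_mul ha hb), adams_line ha, adams_line hb, mul_pow]
    | zero => simp
    | add b c _ _ hb hc => rw [mul_add, map_add, map_add, hb, hc, mul_add]
    | neg b _ hb => rw [mul_neg, map_neg, map_neg, hb, mul_neg]
  | zero => simp
  | add a b _ _ ha hb => rw [add_mul, map_add, map_add, ha, hb, add_mul]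
  | neg a _ ha => rw [neg_mul, map_neg, map_neg, ha, neg_mul]

theorem adams_adams_of_lineGroup (i j : ℕ) {x : K} (hx : x ∈ lineGroup P) :
    adams P i (adams P j x) = adams P (i * j) x := by
  change adamsAdd P i (adamsAdd P j x) = adamsAdd P (i * j) x
  induction hx using AddSubgroup.closure_induction with
  | mem a ha =>
    change adams P i (adams P j a) = adams P (i * j) a
    rw [adams_line ha, adams_line (isLine_pow ha j), adams_line ha, ← pow_mul, mul_comm]
  | zero => simp
  | add a b _ _ ha hb => rw [map_add, map_add, map_add, ha, hb]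
  | neg a _ ha => rw [map_neg, map_neg, map_neg, ha]

theorem aug_adams_of_lineGroup (j : ℕ) {x : K} (hx : x ∈ lineGroup P) :
    P.aug (adams P j x) = P.aug x := by
  change P.aug (adamsAdd P j x) = P.aug x
  induction hx using AddSubgroup.closure_induction with
  | mem a ha =>
    change P.aug (adams P j a) = P.aug a
    rw [adams_line ha, map_pow, ha.2, one_pow]
  | zero => simp
  | add a b _ _ ha hb => rw [map_add, map_add, ha, hb, map_add]
  | neg a _ ha => rw [map_neg, map_neg, ha, map_neg]

theorem multiset_sum_mem_lineGroup (s : Multiset K) (hs : ∀ u ∈ s, P.IsLine u) : s.sum ∈ lineGroup P :=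
  AddSubgroup.multiset_sum_mem _ s fun u hu => line_mem (hs u hu)

theorem aug_sum_lines (s : Multiset K) (hs : ∀ u ∈ s, P.IsLine u) : P.aug s.sum = Multiset.card s := by
  rw [map_multiset_sum, Multiset.map_congr rfl fun u hu => (hs u hu).2]
  simp

theorem lamSeries_sum_lines (s : Multiset K) (hs : ∀ u ∈ s, P.IsLine u) : lamSeries s.sum = linProd s :=
  lamSeries_sum_linear s fun u hu => isLine_lam (hs u hu)

theorem lam_sum_lines (s : Multiset K) (hs : ∀ u ∈ s, P.IsLine u) (i : ℕ) :
    LambdaOps.lam i s.sum = s.esymm i := by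
  rw [← coeff_lamSeries, lamSeries_sum_lines s hs, coeff_linProd]

theorem gamma_sum_lines (s : Multiset K) (hs : ∀ u ∈ s, P.IsLine u) (i : ℕ) :
    gamma i (s.sum - (Multiset.card s : K)) = (s.map fun u => u - 1).esymm i :=
  gamma_sum_sub_card (lam_one_of_pos P) s (fun u hu => isLine_lam (hs u hu)) i

section extension

variable {K' K'' : Type u} [CommRing K'] [LambdaOps K'] [CommRing K''] [LambdaOps K'']
  {P' : PosStructure K'} {P'' : PosStructure K''} {f : K →+* K'}

theorem isExtension_refl (P : PosStructure K) : IsExtension P P (RingHom.id K) :=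
  ⟨fun _ _ => rfl, fun _ _ h => h, fun _ => rfl, fun _ h => h⟩

theorem isExtension_comp {g : K' →+* K''} (hf : IsExtension P P' f) (hg : IsExtension P' P'' g) :
    IsExtension P P'' (g.comp f) :=
  ⟨fun i x => by simp only [RingHom.comp_apply, hf.isLambdaHom i x, hg.isLambdaHom i (f x)],
    hg.injective.comp hf.injective, fun x => by simp [hf.aug_comp, hg.aug_comp],
    fun e he => hg.pos_subset _ (hf.pos_subset e he)⟩

theorem isLine_map (hf : IsExtension P P' f) {u : K} (hu : P.IsLine u) : P'.IsLine (f u) :=
  ⟨hf.pos_subset u hu.1, by rw [hf.aug_comp, hu.2]⟩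

theorem map_mem_lineGroup (hf : IsExtension P P' f) {x : K} (hx : x ∈ lineGroup P) :
    f x ∈ lineGroup P' := by
  induction hx using AddSubgroup.closure_induction with
  | mem a ha => exact line_mem (isLine_map hf ha)
  | zero => simp
  | add a b _ _ ha hb => rw [map_add]; exact add_mem ha hb
  | neg a _ ha => rw [map_neg]; exact neg_mem ha

theorem map_gamma {g : K →+* K'} (hg : IsLambdaHom g) (k : ℕ) (x : K) :
    g (gamma k x) = gamma k (g x) := by
  rcases k with _ | k
  · simp
  · rw [gamma_succ, gamma_succ, map_sum]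
    simp [hg _ _]

theorem map_adams (hf : IsExtension P P' f) (j : ℕ) (x : K) : f (adams P j x) = adams P' j (f x) := by
  cases j with
  | zero => rw [adams_zero, adams_zero, hf.aug_comp, map_intCast]
  | succ j => rw [adams_succ, adams_succ, map_adamsOp hf.isLambdaHom]

theorem map_lam_split (hf : IsExtension P P' f) {s : Multiset K'} (hs : ∀ u ∈ s, P'.IsLine u) {e : K}
    (he : s.sum = f e) (i : ℕ) : f (LambdaOps.lam i e) = s.esymm i := by
  rw [hf.isLambdaHom, ← he, lam_sum_lines s hs]

theorem card_split (hf : IsExtension P P' f) {s : Multiset K'} (hs : ∀ u ∈ s, P'.IsLine u) {e : K}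
    (he : s.sum = f e) : (P.aug e).toNat = Multiset.card s := by
  rw [← hf.aug_comp, ← he, aug_sum_lines s hs, Int.toNat_natCast]

theorem map_gamma_split (hf : IsExtension P P' f) {s : Multiset K'} (hs : ∀ u ∈ s, P'.IsLine u) {e : K}
    (he : s.sum = f e) (i : ℕ) :
    f (gamma i (e - ((P.aug e).toNat : K))) = (s.map fun u => u - 1).esymm i := by
  rw [map_gamma hf.isLambdaHom, map_sub, map_natCast, card_split hf hs he, ← he, gamma_sum_lines s hs]

end extension

theorem exists_split_pos (hK : HasSplitting K P) {e : K} (he : e ∈ P.pos) :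
    ∃ (L : PosLambdaRing.{u}) (f : K →+* L.carrier), HasSplitting L.carrier L.posStr ∧
      IsExtension P L.posStr f ∧ ∃ s : Multiset L.carrier, (∀ u ∈ s, L.posStr.IsLine u) ∧ s.sum = f e := by
  obtain ⟨C, hmem, hC⟩ := hK
  obtain ⟨L, hL, f, hf, hs⟩ := hC _ hmem e he
  exact ⟨L, f, ⟨C, hL, hC⟩, hf, hs⟩

/-- The splitting principle: finitely many elements become combinations of line elements in an extension. -/
theorem exists_split (hK : HasSplitting K P) (xs : List K) :
    ∃ (L : PosLambdaRing.{u}) (f : K →+* L.carrier), HasSplitting L.carrier L.posStr ∧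
      IsExtension P L.posStr f ∧ ∀ x ∈ xs, f x ∈ lineGroup L.posStr := by
  induction xs with
  | nil => exact ⟨⟨K, P⟩, RingHom.id K, hK, isExtension_refl P, by simp⟩
  | cons x xs ih =>
    obtain ⟨L, f, hL, hf, hxs⟩ := ih
    obtain ⟨a, b, ha, hb, hab⟩ := P.exists_sub x
    obtain ⟨L₁, f₁, hL₁, hf₁, s, hs, hsa⟩ := exists_split_pos hL (hf.pos_subset a ha)
    obtain ⟨L₂, f₂, hL₂, hf₂, t, ht, htb⟩ := exists_split_pos hL₁ (hf₁.pos_subset _ (hf.pos_subset b hb))
    refine ⟨L₂, f₂.comp (f₁.comp f), hL₂, isExtension_comp (isExtension_comp hf hf₁) hf₂, fun y hy => ?_⟩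
    rcases List.mem_cons.1 hy with rfl | hy
    · simp only [hab, RingHom.comp_apply, map_sub]
      refine sub_mem ?_ ?_
      · rw [← hsa]; exact map_mem_lineGroup hf₂ (multiset_sum_mem_lineGroup s hs)
      · rw [← htb]; exact multiset_sum_mem_lineGroup t ht
    · exact map_mem_lineGroup hf₂ (map_mem_lineGroup hf₁ (hxs y hy))

theorem adams_mul (hK : HasSplitting K P) (j : ℕ) (x y : K) :
    adams P j (x * y) = adams P j x * adams P j y := by
  obtain ⟨L, f, -, hf, h⟩ := exists_split hK [x, y]
  refine hf.injective ?_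
  rw [map_mul, map_adams hf, map_adams hf, map_adams hf, map_mul,
    adams_mul_of_lineGroup j (h x (by simp)) (h y (by simp))]

theorem adams_adams (hK : HasSplitting K P) (i j : ℕ) (x : K) :
    adams P i (adams P j x) = adams P (i * j) x := by
  obtain ⟨L, f, -, hf, h⟩ := exists_split hK [x]
  refine hf.injective ?_
  rw [map_adams hf, map_adams hf, map_adams hf, adams_adams_of_lineGroup i j (h x (by simp))]

theorem aug_adams (hK : HasSplitting K P) (j : ℕ) (x : K) : P.aug (adams P j x) = P.aug x := by
  obtain ⟨L, f, -, hf, h⟩ := exists_split hK [x]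
  rw [← hf.aug_comp, map_adams hf, aug_adams_of_lineGroup j (h x (by simp)), hf.aug_comp]

/-- `ψ^j` as a ring endomorphism, under the splitting property. -/
noncomputable def adamsRing (hK : HasSplitting K P) (j : ℕ) : K →+* K :=
  { adamsAdd P j with
    map_one' := by
      change adams P j (1 : K) = 1
      rw [adams_line (isLine_one P), one_pow]
    map_mul' := adams_mul hK j }

theorem adamsRing_apply (hK : HasSplitting K P) (j : ℕ) (x : K) : adamsRing hK j x = adams P j x := rfl

theorem aug_lam (hK : HasSplitting K P) {e : K} (he : e ∈ P.pos) (i : ℕ) :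
    P.aug (LambdaOps.lam i e) = ((P.aug e).toNat.choose i : ℤ) := by
  obtain ⟨L, f, -, hf, s, hs, hse⟩ := exists_split_pos hK he
  rw [← hf.aug_comp, map_lam_split hf hs hse, card_split hf hs hse, Multiset.esymm, map_multiset_sum,
    Multiset.map_map]
  have : ∀ t ∈ Multiset.powersetCard i s, L.posStr.aug t.prod = 1 := fun t ht => by
    rw [map_multiset_prod, Multiset.map_congr rfl fun u hu =>
      (hs u (Multiset.mem_of_le (Multiset.mem_powersetCard.1 ht).1 hu)).2]
    simp
  rw [Multiset.map_congr rfl (fun t ht => (Function.comp_apply).trans (this t ht))]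
  simp [Multiset.card_powersetCard]

end Groth.Agent.Lambda
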