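import Groth.Prelude.Def_KRR
import Groth.Agent.Lambda.Positive
import Mathlib.RingTheory.AdjoinRoot

/-!
# The elementary extension `K_e = K[T]/(p_e)`
-/

set_option autoImplicit false

open Finset LambdaRing

namespace Groth.Agent.Lambda.Ext

open Groth.Agent.Lambda

universe v

variable {K : Type v} [CommRing K] [LambdaOps K]

/-- `(-1)^k λ^k(e)`. -/
def cc (e : K) (k : ℕ) : K := (-1) ^ k * LambdaOps.lam k e

theorem cc_zero (e : K) : cc e 0 = 1 := by simp [cc, LambdaOps.lam_zero]

theorem sigma_rec (e : K) (i : ℕ) :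
    ∑ k ∈ range (i + 1), cc e k * KRR.sigma (i - k) e = if i = 0 then 1 else 0 := by
  have h : PowerSeries.rescale (-1 : K) (lamSeries e) * KRR.sigmaSeries e = 1 :=
    PowerSeries.mul_invOfUnit _ 1 (by
      rw [← PowerSeries.coeff_zero_eq_constantCoeff_apply, PowerSeries.coeff_rescale]; simp [LambdaOps.lam_zero])
  have := congrArg (PowerSeries.coeff i) h
  rw [PowerSeries.coeff_mul, Nat.sum_antidiagonal_eq_sum_range_succ_mk, PowerSeries.coeff_one] at this
  rw [← this]
  refine sum_congr rfl fun k _ => ?_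
  simp [PowerSeries.coeff_rescale, cc, KRR.sigma]

/-- `Σ_(k ≤ i) (-1)^k λ^k(e) T^(i-k)`. -/
noncomputable def Sp (e : K) (i : ℕ) : Polynomial K :=
  ∑ k ∈ range (i + 1), Polynomial.C (cc e k) * Polynomial.X ^ (i - k)

theorem Sp_succ (e : K) (i : ℕ) :
    Sp e (i + 1) = Polynomial.X * Sp e i + Polynomial.C (cc e (i + 1)) := by
  rw [Sp, sum_range_succ, Nat.sub_self, pow_zero, mul_one, Sp, mul_sum]
  refine congrArg (· + _) (sum_congr rfl fun k hk => ?_)
  rw [mem_range] at hk
  rw [show i + 1 - k = (i - k) + 1 by omega, pow_succ]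
  ring

theorem sub_one_mul_sum_Sp (e : K) : ∀ M : ℕ, (Polynomial.X - 1) * ∑ i ∈ range M, Sp e i =
    Sp e M - Polynomial.C (∑ k ∈ range (M + 1), cc e k)
  | 0 => by simp [Sp]
  | M + 1 => by
    rw [sum_range_succ (n := M), mul_add, sub_one_mul_sum_Sp e M, Sp_succ, sum_range_succ (n := M + 1), map_add]
    ring

variable {P : PosStructure K} {e : K} {r : ℕ}

theorem toNat_aug (hr : P.aug e = r + 1) : (P.aug e).toNat = r + 1 := by omega

theorem extPoly_eq (hr : P.aug e = r + 1) : KRR.extPoly P e = Sp e (r + 1) := by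
  rw [KRR.extPoly, toNat_aug hr]
  rfl

theorem natDegree_Sp_le (e : K) (i : ℕ) : (Sp e i).natDegree ≤ i :=
  Polynomial.natDegree_sum_le_of_forall_le _ _ fun k _ =>
    (Polynomial.natDegree_C_mul_X_pow_le _ _).trans (Nat.sub_le i k)

theorem monic_Sp (e : K) (i : ℕ) : (Sp e i).Monic := by
  refine Polynomial.monic_of_natDegree_le_of_coeff_eq_one i (natDegree_Sp_le e i) ?_
  rw [Sp, Polynomial.finsetSum_coeff, sum_eq_single 0]
  · simp [cc_zero]
  · intro k hk hk0
    rw [mem_range] at hk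
    rw [Polynomial.coeff_C_mul_X_pow, if_neg (by omega)]
  · simp

theorem natDegree_Sp [Nontrivial K] (e : K) (i : ℕ) : (Sp e i).natDegree = i := by
  refine le_antisymm (natDegree_Sp_le e i) (Polynomial.le_natDegree_of_ne_zero ?_)
  rw [Sp, Polynomial.finsetSum_coeff, sum_eq_single 0]
  · simp [cc_zero]
  · intro k hk hk0
    rw [mem_range] at hk
    rw [Polynomial.coeff_C_mul_X_pow, if_neg (by omega)]
  · simp

theorem mk_Sp (e : K) (p : Polynomial K) (i : ℕ) :
    AdjoinRoot.mk p (Sp e i) = ∑ k ∈ range (i + 1), AdjoinRoot.of p (cc e k) * AdjoinRoot.root p ^ (i - k) := by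
  simp [Sp, map_sum]

theorem root_rel (hr : P.aug e = r + 1) :
    ∑ k ∈ range (r + 1 + 1), AdjoinRoot.of (KRR.extPoly P e) (cc e k) *
      AdjoinRoot.root (KRR.extPoly P e) ^ (r + 1 - k) = 0 := by
  rw [← mk_Sp, ← extPoly_eq hr, AdjoinRoot.mk_self]

theorem apply_of_mul (f : AdjoinRoot (KRR.extPoly P e) →ₗ[K] K) (a : K) (x : AdjoinRoot (KRR.extPoly P e)) :
    f (AdjoinRoot.of (KRR.extPoly P e) a * x) = a * f x := by
  rw [← AdjoinRoot.algebraMap_eq, ← Algebra.smul_def, map_smul, smul_eq_mul]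

section functional

variable (he : e ∈ P.pos) (hr : P.aug e = r + 1) (f : AdjoinRoot (KRR.extPoly P e) →ₗ[K] K)
  (hf : ∀ i : ℕ, i ≤ r → f (AdjoinRoot.root (KRR.extPoly P e) ^ i) = KRR.sigma i e)

include he hr hf

theorem apply_root_pow : ∀ i : ℕ, f (AdjoinRoot.root (KRR.extPoly P e) ^ i) = KRR.sigma i e := by
  intro i
  induction i using Nat.strong_induction_on with
  | _ i ih =>
    by_cases hi : i ≤ r
    · exact hf i hi
    have h := congrArg (fun x => f (x * AdjoinRoot.root (KRR.extPoly P e) ^ (i - (r + 1)))) (root_rel hr)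
    simp only [zero_mul, map_zero, sum_mul, map_sum, mul_assoc, ← pow_add, apply_of_mul] at h
    have hs := sigma_rec e i
    rw [if_neg (by omega)] at hs
    have hcut : ∑ k ∈ range (r + 1 + 1), cc e k * KRR.sigma (i - k) e =
        ∑ k ∈ range (i + 1), cc e k * KRR.sigma (i - k) e := by
      refine sum_subset (range_mono (by omega)) fun k _ hk => ?_
      rw [mem_range] at hk
      rw [cc, P.lam_eq_zero e he k (by omega), mul_zero, zero_mul]
    rw [← hcut, sum_range_succ'] at hs
    rw [sum_range_succ'] at h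
    simp only [cc_zero, one_mul, Nat.sub_zero] at hs h
    rw [show r + 1 + (i - (r + 1)) = i by omega] at h
    have e2 : ∀ k ∈ range (r + 1), cc e (k + 1) *
        f (AdjoinRoot.root (KRR.extPoly P e) ^ (r + 1 - (k + 1) + (i - (r + 1)))) =
        cc e (k + 1) * KRR.sigma (i - (k + 1)) e := fun k hk => by
      rw [mem_range] at hk
      rw [show r + 1 - (k + 1) + (i - (r + 1)) = i - (k + 1) by omega, ih _ (by omega)]
    rw [sum_congr rfl e2] at h
    exact add_left_cancel (h.trans hs.symm)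

theorem apply_inv_pow (linv : AdjoinRoot (KRR.extPoly P e))
    (hlinv : linv * AdjoinRoot.root (KRR.extPoly P e) = 1) :
    ∀ n : ℕ, 1 ≤ n → n ≤ r → f (linv ^ n) = 0 := by
  intro n
  induction n using Nat.strong_induction_on with
  | _ n ih =>
    intro hn1 hn
    have hpow : ∀ j, linv ^ j * AdjoinRoot.root (KRR.extPoly P e) ^ j = 1 := fun j => by
      rw [← mul_pow, hlinv, one_pow]
    have h := congrArg (fun x => f (x * linv ^ n)) (root_rel hr)
    simp only [zero_mul, map_zero, sum_mul, map_sum, mul_assoc, apply_of_mul] at h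
    rw [sum_range_succ, Nat.sub_self, pow_zero, one_mul] at h
    have hz : ∑ k ∈ range (r + 1), cc e k *
        f (AdjoinRoot.root (KRR.extPoly P e) ^ (r + 1 - k) * linv ^ n) = 0 := by
      rw [← sum_subset (range_mono (show r + 1 - n + 1 ≤ r + 1 by omega)) fun k hk hk' => ?_]
      · have hs := sigma_rec e (r + 1 - n)
        rw [if_neg (by omega)] at hs
        rw [← hs]
        refine sum_congr rfl fun k hk => ?_
        rw [mem_range] at hk
        rw [show r + 1 - k = (r + 1 - n - k) + n by omega, pow_add, mul_assoc, mul_comm (_ ^ n) (linv ^ n), hpow,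
          mul_one, apply_root_pow he hr f hf]
      · rw [mem_range] at hk hk'
        obtain ⟨b, hb, hb1⟩ : ∃ b, n = (r + 1 - k) + b ∧ 1 ≤ b := ⟨n - (r + 1 - k), by omega, by omega⟩
        rw [hb, pow_add, ← mul_assoc, mul_comm (_ ^ (r + 1 - k)) (linv ^ _), hpow, one_mul,
          ih b (by omega) hb1 (by omega), mul_zero]
    rw [hz, zero_add] at h
    have hu : IsUnit (cc e (r + 1)) := by
      refine IsUnit.mul (isUnit_one.neg.pow _) ?_
      simpa [toNat_aug hr] using P.isUnit_lam e he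
    exact hu.mul_right_eq_zero.1 h

theorem apply_mk_Sp (i : ℕ) :
    f (AdjoinRoot.mk (KRR.extPoly P e) (Sp e i)) = if i = 0 then 1 else 0 := by
  rw [mk_Sp, map_sum, ← sigma_rec e i]
  simp only [apply_of_mul, apply_root_pow he hr f hf]

end functional

section lam

variable [LambdaOps (AdjoinRoot (KRR.extPoly P e))]

theorem lam_sub_root
    (hext : ∀ (i : ℕ) (x : K), LambdaOps.lam i (AdjoinRoot.of (KRR.extPoly P e) x) =
      AdjoinRoot.of (KRR.extPoly P e) (LambdaOps.lam i x))
    (hroot : ∀ i : ℕ, 2 ≤ i → LambdaOps.lam i (AdjoinRoot.root (KRR.extPoly P e)) = 0) (i : ℕ) :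
    LambdaOps.lam i (AdjoinRoot.of (KRR.extPoly P e) e - AdjoinRoot.root (KRR.extPoly P e)) =
      AdjoinRoot.of (KRR.extPoly P e) ((-1) ^ i) * AdjoinRoot.mk (KRR.extPoly P e) (Sp e i) := by
  induction i with
  | zero => simp [LambdaOps.lam_zero, Sp, cc_zero]
  | succ i ih =>
    have h := congrArg (PowerSeries.coeff (i + 1))
      (lamSeries_add (AdjoinRoot.root (KRR.extPoly P e))
        (AdjoinRoot.of (KRR.extPoly P e) e - AdjoinRoot.root (KRR.extPoly P e)))
    rw [add_sub_cancel, lamSeries_eq_lin hroot, coeff_lin_mul, coeff_lamSeries, coeff_lamSeries, coeff_lamSeries,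
      hext, ih] at h
    have hc : AdjoinRoot.of (KRR.extPoly P e) (LambdaOps.lam (i + 1) e) =
        AdjoinRoot.of (KRR.extPoly P e) ((-1) ^ (i + 1)) * AdjoinRoot.of (KRR.extPoly P e) (cc e (i + 1)) := by
      rw [← map_mul, cc, ← mul_assoc, ← pow_add, ← two_mul, pow_mul, neg_one_sq, one_pow, one_mul]
    rw [Sp_succ, map_add, map_mul, AdjoinRoot.mk_C, AdjoinRoot.mk_X, mul_add, ← hc, h, pow_succ, map_mul,
      map_neg, map_one]
    ring

end lam

end Groth.Agent.Lambda.Ext
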