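import Groth.Agent.Lambda.Series
import Mathlib.RingTheory.Ideal.Operations
import Mathlib.RingTheory.MvPolynomial.WeightedHomogeneous
import Mathlib.Algebra.Polynomial.Eval.Degree
import Mathlib.Algebra.Group.ForwardDiff

/-!
# Multiplicative filtrations, weights, and finite differences
-/

set_option autoImplicit false

open Finset

namespace Groth.Agent.Lambda

/-- A decreasing multiplicative filtration by ideals, starting at the unit ideal. -/
structure Fil (A : Type*) [CommRing A] where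
  /-- the `n`-th term -/
  W : ℕ → Ideal A
  zero : W 0 = ⊤
  anti : ∀ {m n : ℕ}, m ≤ n → W n ≤ W m
  mul : ∀ {m n : ℕ} {x y : A}, x ∈ W m → y ∈ W n → x * y ∈ W (m + n)

namespace Fil

variable {A : Type*} [CommRing A] (F : Fil A)

theorem mem_zero (x : A) : x ∈ F.W 0 := by rw [F.zero]; trivial

theorem pow_mem {n : ℕ} {x : A} (h : x ∈ F.W n) : ∀ k : ℕ, x ^ k ∈ F.W (k * n)
  | 0 => by rw [Nat.zero_mul]; exact F.mem_zero _
  | k + 1 => by rw [pow_succ, Nat.succ_mul]; exact F.mul (pow_mem h k) h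

theorem prod_mem {ι : Type*} (t : Finset ι) (x : ι → A) (n : ι → ℕ) (h : ∀ i ∈ t, x i ∈ F.W (n i)) :
    ∏ i ∈ t, x i ∈ F.W (∑ i ∈ t, n i) := by
  classical
  induction t using Finset.induction_on with
  | empty => exact F.mem_zero _
  | insert a t ha ih =>
    rw [prod_insert ha, sum_insert ha]
    exact F.mul (h a (mem_insert_self a t)) (ih fun i hi => h i (mem_insert_of_mem hi))

open MvPolynomial in
theorem aeval_mem {R σ : Type*} [CommRing R] [Algebra R A] (w : σ → ℕ) (g : σ → A)
    (hg : ∀ i, g i ∈ F.W (w i)) {d : ℕ} (Q : MvPolynomial σ R)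
    (hQ : ∀ x ∈ Q.support, d ≤ Finsupp.weight w x) : aeval g Q ∈ F.W d := by
  rw [MvPolynomial.as_sum Q, map_sum]
  refine Ideal.sum_mem _ fun x hx => ?_
  rw [aeval_monomial]
  refine Ideal.mul_mem_left _ _ (F.anti (hQ x hx) ?_)
  rw [Finsupp.weight_apply, Finsupp.sum, Finsupp.prod]
  simp only [smul_eq_mul]
  exact F.prod_mem _ _ _ fun i _ => F.pow_mem (hg i) _

theorem psi_mem {G : PowerSeries A} (hG : PowerSeries.constantCoeff G = 1)
    (h : ∀ n, PowerSeries.coeff n G ∈ F.W n) : ∀ k : ℕ, psi G k ∈ F.W k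
  | 0 => F.mem_zero _
  | k + 1 => by
    have e := newton hG k
    rw [sum_range_succ, Nat.sub_self, PowerSeries.coeff_zero_eq_constantCoeff_apply, hG, mul_one] at e
    have hm : (-1 : A) ^ k * psi G (k + 1) ∈ F.W (k + 1) := by
      rw [show (-1 : A) ^ k * psi G (k + 1) = PowerSeries.coeff (k + 1) G * ((k : A) + 1) -
        ∑ i ∈ range k, (-1) ^ i * psi G (i + 1) * PowerSeries.coeff (k - i) G by rw [e]; ring]
      refine sub_mem (Ideal.mul_mem_right _ _ (h _)) (Ideal.sum_mem _ fun i hi => ?_)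
      have hik : i < k := mem_range.1 hi
      rw [show k + 1 = (i + 1) + (k - i) by omega]
      exact F.mul (Ideal.mul_mem_left _ _ (psi_mem hG h (i + 1))) (h _)
    have := Ideal.mul_mem_left (F.W (k + 1)) ((-1 : A) ^ k) hm
    rwa [neg_one_pow_mul_self] at this

theorem fc_mem [Algebra ℚ A] {p : ℕ → A} (h : ∀ i, p (i + 1) ∈ F.W (i + 1)) : ∀ n, fc p n ∈ F.W n
  | 0 => F.mem_zero _
  | n + 1 => by
    rw [fc_succ]
    refine Ideal.mul_mem_left _ _ (Ideal.sum_mem _ fun k hk => ?_)
    have hkn : k < n + 1 := mem_range.1 hk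
    have := F.mul (Ideal.mul_mem_left _ ((-1 : A) ^ k) (h k)) (fc_mem h (n - k))
    rwa [show k + 1 + (n - k) = n + 1 by omega] at this

theorem fc_mem_const [Algebra ℚ A] {I : Ideal A} {p : ℕ → A} (h : ∀ i, p (i + 1) ∈ I) (n : ℕ) :
    fc p (n + 1) ∈ I := by
  rw [fc_succ]
  exact Ideal.mul_mem_left _ _ (Ideal.sum_mem _ fun k _ => Ideal.mul_mem_right _ _ (Ideal.mul_mem_left _ _ (h k)))

end Fil

theorem fwdDiff_sum_pow {R : Type*} [CommRing R] {k i : ℕ} (hi : i ≤ k) :
    ∑ l ∈ range (k + 1), (-1 : R) ^ (k - l) * (k.choose l : R) * (l : R) ^ i =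
      if i = k then (k.factorial : R) else 0 := by
  have h := fwdDiff_iter_eq_sum_shift (h := (1 : R)) (fun r : R => r ^ i) k 0
  simp only [zero_add, nsmul_one, zsmul_eq_mul, Int.cast_mul, Int.cast_pow, Int.cast_neg, Int.cast_one,
    Int.cast_natCast] at h
  rw [← h]
  split_ifs with e
  · subst e; rw [fwdDiff_iter_eq_factorial]; rfl
  · rw [fwdDiff_iter_pow_eq_zero_of_lt (by omega)]; rfl

theorem fwdDiff_sum_eval {R : Type*} [CommRing R] {k : ℕ} (f : Polynomial R) (hf : f.natDegree ≤ k) :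
    ∑ l ∈ range (k + 1), (-1 : R) ^ (k - l) * (k.choose l : R) * f.eval (l : R) =
      (k.factorial : R) * f.coeff k := by
  simp only [Polynomial.eval_eq_sum_range' (Nat.lt_succ_of_le hf), mul_sum]
  rw [sum_comm]
  calc ∑ i ∈ range (k + 1), ∑ l ∈ range (k + 1),
        (-1 : R) ^ (k - l) * (k.choose l : R) * (f.coeff i * (l : R) ^ i)
      = ∑ i ∈ range (k + 1), f.coeff i * (if i = k then (k.factorial : R) else 0) := by
        refine sum_congr rfl fun i hi => ?_
        rw [mem_range] at hi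
        rw [← fwdDiff_sum_pow (R := R) (show i ≤ k by omega), mul_sum]
        exact sum_congr rfl fun l _ => by ring
    _ = (k.factorial : R) * f.coeff k := by simp [mul_comm]

section weights

open MvPolynomial

variable (R : Type*) [CommRing R] (σ : Type*)

/-- The weight of `Y_(s,n)` is `n + 1`. -/
def wt : σ × ℕ → ℕ := fun v => v.2 + 1

/-- Polynomials all whose monomials have weight `≥ n`. -/
def wFil : Fil (MvPolynomial (σ × ℕ) R) where
  W n :=
    { carrier := {p | ∀ x, Finsupp.weight (wt σ) x < n → coeff x p = 0}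
      zero_mem' := fun x _ => coeff_zero x
      add_mem' := fun {a b} ha hb x hx => by rw [coeff_add, ha x hx, hb x hx, add_zero]
      smul_mem' := fun c p hp x hx => by
        classical
        rw [smul_eq_mul, coeff_mul]
        refine sum_eq_zero fun y hy => ?_
        rw [mem_antidiagonal] at hy
        rw [hp y.2 (lt_of_le_of_lt (by rw [← hy, map_add]; exact Nat.le_add_left _ _) hx), mul_zero] }
  zero := by
    ext p
    simp
  anti h := fun _ hp x hx => hp x (lt_of_lt_of_le hx h)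
  mul {m n p q} hp hq x hx := by
    classical
    rw [coeff_mul]
    refine sum_eq_zero fun y hy => ?_
    rw [mem_antidiagonal] at hy
    rw [← hy, map_add] at hx
    rcases Nat.lt_or_ge (Finsupp.weight (wt σ) y.1) m with h | h
    · rw [hp _ h, zero_mul]
    · rw [hq _ (by omega), mul_zero]

variable {R σ}

theorem mem_wFil {n : ℕ} {p : MvPolynomial (σ × ℕ) R} :
    p ∈ (wFil R σ).W n ↔ ∀ x, Finsupp.weight (wt σ) x < n → coeff x p = 0 := Iff.rfl

theorem mem_wFil_iff_support {n : ℕ} {p : MvPolynomial (σ × ℕ) R} :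
    p ∈ (wFil R σ).W n ↔ ∀ x ∈ p.support, n ≤ Finsupp.weight (wt σ) x := by
  refine ⟨fun h x hx => Nat.not_lt.1 fun hlt => MvPolynomial.mem_support_iff.1 hx (h x hlt), fun h x hx => ?_⟩
  by_contra hne
  exact absurd (h x (MvPolynomial.mem_support_iff.2 hne)) (Nat.not_le.2 hx)

theorem X_mem_wFil (s : σ) (n : ℕ) : (X (s, n) : MvPolynomial (σ × ℕ) R) ∈ (wFil R σ).W (n + 1) := by
  classical
  intro x hx
  rw [coeff_X']
  split_ifs with h
  · subst h; simp [Finsupp.weight_single, wt] at hx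
  · rfl

theorem map_mem_wFil {S : Type*} [CommRing S] (f : R →+* S) {n : ℕ} {p : MvPolynomial (σ × ℕ) R}
    (h : p ∈ (wFil R σ).W n) : MvPolynomial.map f p ∈ (wFil S σ).W n := fun x hx => by
  rw [coeff_map, h x hx, map_zero]

theorem mem_wFil_of_map {S : Type*} [CommRing S] (f : R →+* S) (hf : Function.Injective f) {n : ℕ}
    {p : MvPolynomial (σ × ℕ) R} (h : MvPolynomial.map f p ∈ (wFil S σ).W n) : p ∈ (wFil R σ).W n :=
  fun x hx => hf (by rw [← coeff_map, h x hx, map_zero])

end weights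

end Groth.Agent.Lambda
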