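import Groth.Agent.Lambda.Ext
import Groth.Agent.Lambda.Fil
import Groth.Agent.Lambda.Filtration
import Mathlib.RingTheory.Polynomial.Vieta

/-!
# The γ-filtration of the elementary extension
-/

set_option autoImplicit false

open Finset LambdaRing

namespace Groth.Agent.Lambda.Ext

open Groth.Agent.Lambda

universe v

theorem esymm_map_mul_left {R : Type*} [CommSemiring R] (k : R) (s : Multiset R) (n : ℕ) :
    (s.map (k * ·)).esymm n = k ^ n * s.esymm n := by
  rw [Multiset.esymm, Multiset.esymm, ← Multiset.sum_map_mul_left, Multiset.powersetCard_map, Multiset.map_map]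
  refine congrArg Multiset.sum (Multiset.map_congr rfl fun t ht => ?_)
  rw [Function.comp_apply, Multiset.prod_map_mul, Multiset.map_const', Multiset.prod_replicate, Multiset.map_id',
    (Multiset.mem_powersetCard.1 ht).2]

theorem linProd_affine {R : Type*} [CommRing R] (t : Multiset R) (c y : R) :
    linProd (t.map fun r => c * r + y) = ∑ l ∈ range (Multiset.card t + 1),
      PowerSeries.C (c ^ l * t.esymm l) * PowerSeries.X ^ l * lin y ^ (Multiset.card t - l) := by
  have h := congrArg (Polynomial.eval (lin y)) (Multiset.prod_X_add_C_eq_sum_esymm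
    ((t.map (PowerSeries.C : R →+* PowerSeries R)).map (PowerSeries.C c * PowerSeries.X * ·)))
  simp only [Polynomial.eval_multiset_prod, Polynomial.eval_finsetSum, Polynomial.eval_mul, Polynomial.eval_pow,
    Polynomial.eval_C, Polynomial.eval_X, Multiset.map_map, Function.comp_def, Polynomial.eval_add,
    Multiset.card_map] at h
  have hl : linProd (t.map fun r => c * r + y) =
      (t.map fun r => lin y + PowerSeries.C c * PowerSeries.X * PowerSeries.C r).prod := by
    rw [linProd, Multiset.map_map]
    refine congrArg Multiset.prod (Multiset.map_congr rfl fun r _ => ?_)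
    simp only [Function.comp_apply, lin, map_add, map_mul]
    ring
  rw [hl, h]
  refine sum_congr rfl fun l _ => ?_
  rw [show Multiset.map (fun x => PowerSeries.C c * PowerSeries.X * PowerSeries.C x) t =
      (t.map (PowerSeries.C : R →+* PowerSeries R)).map (PowerSeries.C c * PowerSeries.X * ·) by
        rw [Multiset.map_map]; rfl,
    esymm_map_mul_left, ← map_multiset_esymm (PowerSeries.C : R →+* PowerSeries R), map_mul, map_pow, mul_pow]
  ring

variable {K : Type v} [CommRing K] [LambdaOps K] {P : PosStructure K} {e : K} {r : ℕ}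

local notation "Ke" => AdjoinRoot (KRR.extPoly P e)
local notation "φ" => AdjoinRoot.of (KRR.extPoly P e)
local notation "ℓ" => AdjoinRoot.root (KRR.extPoly P e)

/-- The proposed `k`-th step. -/
noncomputable def M (P : PosStructure K) (e : K) (k : ℕ) : Ideal (AdjoinRoot (KRR.extPoly P e)) :=
  Ideal.span {z | ∃ (i : ℕ) (a : K), a ∈ gammaFiltration P (k - i) ∧
    z = AdjoinRoot.of (KRR.extPoly P e) a * (AdjoinRoot.root (KRR.extPoly P e) - 1) ^ i}

/-- `M` as a filtration. -/
noncomputable def MFil (P : PosStructure K) (e : K) : Fil (AdjoinRoot (KRR.extPoly P e)) where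
  W := M P e
  zero := (Ideal.eq_top_iff_one _).2 (Ideal.subset_span ⟨0, 1,
    by rw [gammaFiltration_zero]; exact AddSubgroup.mem_top _, by simp⟩)
  anti h := Ideal.span_mono (by
    rintro z ⟨i, a, ha, rfl⟩
    exact ⟨i, a, filtration_antitone P (Nat.sub_le_sub_right h i) ha, rfl⟩)
  mul {m n x y} hx hy := by
    have h := Ideal.mul_mem_mul hx hy
    rw [M, M, Ideal.span_mul_span'] at h
    refine Ideal.span_mono ?_ h
    rintro _ ⟨_, ⟨i, a, ha, rfl⟩, _, ⟨j, b, hb, rfl⟩, rfl⟩
    refine ⟨i + j, a * b, filtration_antitone P (by omega) (mul_mem_filtration P ha hb), ?_⟩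
    rw [map_mul, pow_add]
    ring

theorem of_mem_M {k : ℕ} {a : K} (ha : a ∈ gammaFiltration P k) : φ a ∈ M P e k :=
  Ideal.subset_span ⟨0, a, by simpa using ha, by simp⟩

theorem root_sub_one_mem : ℓ - 1 ∈ M P e 1 :=
  Ideal.subset_span ⟨1, 1, by rw [Nat.sub_self, gammaFiltration_zero]; exact AddSubgroup.mem_top _, by simp⟩

theorem root_pow_sub_one_mem (j : ℕ) : ℓ ^ j - 1 ∈ M P e 1 := by
  rw [← geom_sum_mul]
  exact Ideal.mul_mem_left _ _ root_sub_one_mem

theorem coeff_lin_pow_mem (j q : ℕ) : ∀ n, PowerSeries.coeff n (lin (ℓ ^ j - 1) ^ q) ∈ M P e n := by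
  induction q with
  | zero =>
    intro n
    rw [pow_zero, PowerSeries.coeff_one]
    split_ifs with h
    · subst h; exact (MFil P e).mem_zero _
    · exact zero_mem _
  | succ q ih =>
    intro n
    rw [pow_succ, mul_comm]
    rcases n with _ | n
    · exact (MFil P e).mem_zero _
    rw [coeff_lin_mul, add_comm n 1]
    exact add_mem (add_comm n 1 ▸ ih (n + 1)) ((MFil P e).mul (root_pow_sub_one_mem j) (ih n))

section relation

variable (hK : HasSplitting K P) (he : e ∈ P.pos) (hr : P.aug e = r + 1)

include hK he hr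

theorem sub_one_rel :
    ∑ j ∈ range (r + 1 + 1), φ ((-1) ^ j * gamma j (e - ((P.aug e).toNat : K))) * (ℓ - 1) ^ (r + 1 - j) = 0 := by
  obtain ⟨L, g, -, hg, s, hs, hse⟩ := exists_split_pos hK he
  have hcard : Multiset.card s = r + 1 := by rw [← card_split hg hs hse, toNat_aug hr]
  have hpoly : (KRR.extPoly P e).comp (Polynomial.X + 1) = ∑ j ∈ range (r + 1 + 1),
      Polynomial.C ((-1) ^ j * gamma j (e - ((P.aug e).toNat : K))) * Polynomial.X ^ (r + 1 - j) := by
    refine Polynomial.map_injective g hg.injective ?_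
    have h1 : (KRR.extPoly P e).map g = (s.map fun u => Polynomial.X - Polynomial.C u).prod := by
      rw [Multiset.prod_X_sub_X_eq_sum_esymm, KRR.extPoly, toNat_aug hr, hcard, Polynomial.map_sum]
      refine sum_congr rfl fun j _ => ?_
      rw [Polynomial.map_mul, Polynomial.map_C, Polynomial.map_pow, Polynomial.map_X, map_mul, map_pow, map_neg,
        map_one, map_lam_split hg hs hse, map_mul, map_pow, map_neg, map_one, mul_assoc]
    have h2 : ((s.map fun u => Polynomial.X - Polynomial.C u).prod).comp (Polynomial.X + 1) =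
        ((s.map fun u => u - 1).map fun u => Polynomial.X - Polynomial.C u).prod := by
      rw [Polynomial.multiset_prod_comp, Multiset.map_map, Multiset.map_map]
      refine congrArg Multiset.prod (Multiset.map_congr rfl fun u _ => ?_)
      simp only [Function.comp_apply, Polynomial.sub_comp, Polynomial.X_comp, Polynomial.C_comp, map_sub, map_one]
      ring
    rw [Polynomial.map_comp, h1, Polynomial.map_add, Polynomial.map_X, Polynomial.map_one, h2,
      Multiset.prod_X_sub_X_eq_sum_esymm, Multiset.card_map, hcard, Polynomial.map_sum]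
    refine sum_congr rfl fun j _ => ?_
    rw [Polynomial.map_mul, Polynomial.map_C, Polynomial.map_pow, Polynomial.map_X, map_mul, map_pow, map_neg,
      map_one, map_gamma_split hg hs hse, map_mul, map_pow, map_neg, map_one, mul_assoc]
  have h := congrArg (Polynomial.eval₂ φ (ℓ - 1)) hpoly
  rw [Polynomial.eval₂_comp, Polynomial.eval₂_add, Polynomial.eval₂_X, Polynomial.eval₂_one, sub_add_cancel,
    AdjoinRoot.eval₂_root, Polynomial.eval₂_finsetSum] at h
  rw [h]
  exact sum_congr rfl fun j _ => by
    rw [Polynomial.eval₂_mul, Polynomial.eval₂_C, Polynomial.eval₂_X_pow]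

theorem pow_mem_sup (k : ℕ) : ∀ (i : ℕ) (a : K), a ∈ gammaFiltration P (k - i) →
    φ a * (ℓ - 1) ^ i ∈ ⨆ i ∈ Finset.range (r + 1), AddSubgroup.map
      ((AddMonoidHom.mulRight ((ℓ - 1) ^ i)).comp (φ).toAddMonoidHom) (gammaFiltration P (k - i)) := by
  intro i
  induction i using Nat.strong_induction_on with
  | _ i ih =>
    intro a ha
    by_cases hi : i ≤ r
    · exact AddSubgroup.mem_iSup_of_mem i (AddSubgroup.mem_iSup_of_mem (mem_range.2 (by omega)) ⟨a, ha, rfl⟩)
    have hrel : φ a * (ℓ - 1) ^ i = -∑ j ∈ range (r + 1),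
        φ (a * ((-1) ^ (j + 1) * gamma (j + 1) (e - ((P.aug e).toNat : K)))) * (ℓ - 1) ^ (i - (j + 1)) := by
      have h := congrArg (fun z => φ a * z * (ℓ - 1) ^ (i - (r + 1))) (sub_one_rel hK he hr)
      simp only [mul_zero, zero_mul, mul_sum, sum_mul, mul_assoc, ← pow_add] at h
      rw [sum_range_succ'] at h
      simp only [pow_zero, gamma_zero, mul_one, map_one, one_mul, Nat.sub_zero] at h
      rw [show r + 1 + (i - (r + 1)) = i by omega] at h
      rw [eq_neg_of_add_eq_zero_right h]
      refine congrArg _ (sum_congr rfl fun j hj => ?_)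
      rw [mem_range] at hj
      rw [show r + 1 - (j + 1) + (i - (r + 1)) = i - (j + 1) by omega]
      simp only [map_mul, mul_assoc]
    rw [hrel]
    refine neg_mem (AddSubgroup.sum_mem _ fun j hj => ih _ (by omega) _ ?_)
    refine filtration_antitone P (by omega : k - (i - (j + 1)) ≤ (k - i) + (j + 1))
      (mul_mem_filtration P ha (mul_mem_filtration_right P _ ?_))
    exact gamma_mem_filtration P (aug_sub_toNat he) _

theorem mem_sup_of_mem_M {k : ℕ} {z : Ke} (hz : z ∈ M P e k) :
    z ∈ ⨆ i ∈ Finset.range (r + 1), AddSubgroup.map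
      ((AddMonoidHom.mulRight ((ℓ - 1) ^ i)).comp (φ).toAddMonoidHom) (gammaFiltration P (k - i)) := by
  suffices h : ∀ q : Polynomial K, Polynomial.eval₂ φ (ℓ - 1) q * z ∈
      ⨆ i ∈ Finset.range (r + 1), AddSubgroup.map
        ((AddMonoidHom.mulRight ((ℓ - 1) ^ i)).comp (φ).toAddMonoidHom) (gammaFiltration P (k - i)) by
    simpa using h 1
  refine Submodule.span_induction (p := fun z _ => ∀ q : Polynomial K, Polynomial.eval₂ φ (ℓ - 1) q * z ∈ _)
    ?_ ?_ ?_ ?_ hz
  · rintro _ ⟨i, a, ha, rfl⟩ q
    induction q using Polynomial.induction_on' with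
    | add p q hp hq => rw [Polynomial.eval₂_add, add_mul]; exact add_mem hp hq
    | monomial n b =>
      rw [Polynomial.eval₂_monomial,
        show φ b * (ℓ - 1) ^ n * (φ a * (ℓ - 1) ^ i) = φ (b * a) * (ℓ - 1) ^ (n + i) by rw [map_mul, pow_add]; ring]
      exact pow_mem_sup hK he hr k _ _
        (filtration_antitone P (by omega) (mul_mem_filtration_right P b ha))
  · intro q; rw [mul_zero]; exact zero_mem _
  · intro x y _ _ hx hy q; rw [mul_add]; exact add_mem (hx q) (hy q)
  · intro w x _ hx q
    obtain ⟨p, rfl⟩ := AdjoinRoot.mk_surjective w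
    have hp : AdjoinRoot.mk (KRR.extPoly P e) p =
        Polynomial.eval₂ φ (ℓ - 1) (p.comp (Polynomial.X + 1)) := by
      rw [Polynomial.eval₂_comp, Polynomial.eval₂_add, Polynomial.eval₂_X, Polynomial.eval₂_one, sub_add_cancel,
        ← AdjoinRoot.algebraMap_eq, ← Polynomial.aeval_def, AdjoinRoot.aeval_eq]
    rw [smul_eq_mul, hp, ← mul_assoc, ← Polynomial.eval₂_mul]
    exact hx _

end relation

section ext

variable [LambdaOps (AdjoinRoot (KRR.extPoly P e))] {Pe : PosStructure (AdjoinRoot (KRR.extPoly P e))}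
  (hext : IsExtension P Pe (AdjoinRoot.of (KRR.extPoly P e)))
  (hline : Pe.IsLine (AdjoinRoot.root (KRR.extPoly P e)))

include hext hline

theorem M_le (k : ℕ) {z : Ke} (hz : z ∈ M P e k) : z ∈ gammaFiltration Pe k := by
  have : M P e k ≤ filIdeal Pe k := by
    refine Ideal.span_le.2 ?_
    rintro _ ⟨i, a, ha, rfl⟩
    have hmap : ∀ n, ∀ a ∈ gammaFiltration P n, φ a ∈ gammaFiltration Pe n := by
      intro n a ha
      rcases n with _ | n
      · rw [gammaFiltration_zero]; exact AddSubgroup.mem_top _
      rw [gammaFiltration, if_neg (Nat.succ_ne_zero n)] at ha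
      induction ha using AddSubgroup.closure_induction with
      | zero => simp
      | add a b _ _ ha hb => rw [map_add]; exact add_mem ha hb
      | neg a _ ha => rw [map_neg]; exact neg_mem ha
      | mem y hy =>
        obtain ⟨l, hl, hn, rfl⟩ := hy
        rw [map_list_prod, List.map_map,
          show List.map (⇑(φ) ∘ fun p : ℕ × K => gamma p.1 p.2) l =
            (l.map fun p => (p.1, φ p.2)).map (fun p => gamma p.1 p.2) by
            rw [List.map_map]; exact List.map_congr_left fun p _ => map_gamma hext.isLambdaHom _ _]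
        refine list_prod_mem_filtration Pe _ ?_ (by rw [List.map_map]; exact hn)
        intro p hp
        obtain ⟨q, hq, rfl⟩ := List.mem_map.1 hp
        exact (hext.aug_comp _).trans (hl q hq)
    refine filtration_antitone Pe (by omega : k ≤ (k - i) + i * 1) (mul_mem_filtration Pe (hmap _ _ ha) ?_)
    exact pow_mem_filtration Pe (mem_filtration_one Pe (by simp [hline.2])) i
  exact this hz

variable (hsplit : HasSplitting (AdjoinRoot (KRR.extPoly P e)) Pe)

include hsplit

theorem gamma_pos_mem {a : K} (ha : a ∈ P.pos) (j n : ℕ) :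
    gamma n (φ a * ℓ ^ j - (Pe.aug (φ a * ℓ ^ j) : Ke)) ∈ M P e n := by
  have hLj : Pe.IsLine (ℓ ^ j) := isLine_pow hline j
  obtain ⟨L, g, -, hg, s, hs, hsa⟩ := exists_split_pos hsplit (hext.pos_subset a ha)
  have hcard : Multiset.card s = (P.aug a).toNat := by rw [← card_split hg hs hsa, hext.aug_comp]
  have haug : (Pe.aug (φ a * ℓ ^ j) : Ke) = (((P.aug a).toNat : ℕ) : Ke) := by
    rw [map_mul, hLj.2, mul_one, hext.aug_comp, ← Int.cast_natCast, toNat_cast ha]
  have hid : gamma n (φ a * ℓ ^ j - (Pe.aug (φ a * ℓ ^ j) : Ke)) =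
      ∑ l ∈ range ((P.aug a).toNat + 1), (ℓ ^ j) ^ l * φ (gamma l (a - ((P.aug a).toNat : K))) *
        PowerSeries.coeff n (PowerSeries.X ^ l * lin (ℓ ^ j - 1) ^ ((P.aug a).toNat - l)) := by
    refine hg.injective ?_
    have hlines : ∀ u ∈ s.map (· * g (ℓ ^ j)), L.posStr.IsLine u := fun u hu => by
      obtain ⟨v, hv, rfl⟩ := Multiset.mem_map.1 hu
      exact isLine_mul (hs v hv) (isLine_map hg hLj)
    rw [map_gamma hg.isLambdaHom, haug, map_sub, map_natCast, map_mul, ← hsa,
      show s.sum * g (ℓ ^ j) = (s.map (· * g (ℓ ^ j))).sum by rw [Multiset.sum_map_mul_right, Multiset.map_id'],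
      map_sum, ← hcard]
    have h := gamma_sum_lines _ hlines n
    rw [Multiset.card_map] at h
    rw [h, ← coeff_linProd, Multiset.map_map,
      show Multiset.map ((fun u => u - 1) ∘ fun x => x * g (ℓ ^ j)) s =
        (s.map fun u => u - 1).map (fun r => g (ℓ ^ j) * r + g (ℓ ^ j - 1)) by
        rw [Multiset.map_map]; exact Multiset.map_congr rfl fun v _ => by simp; ring,
      linProd_affine, Multiset.card_map, map_sum]
    refine sum_congr rfl fun l _ => ?_
    rw [mul_assoc (PowerSeries.C _), PowerSeries.coeff_C_mul, map_mul g, map_mul g, ← PowerSeries.coeff_map,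
      show PowerSeries.map g (PowerSeries.X ^ l * lin (ℓ ^ j - 1) ^ (Multiset.card s - l)) =
          PowerSeries.X ^ l * lin (g (ℓ ^ j - 1)) ^ (Multiset.card s - l) by
        simp [lin],
      map_gamma hext.isLambdaHom, map_gamma hg.isLambdaHom]
    simp only [map_pow, map_sub, map_natCast, map_one, ← hsa, gamma_sum_lines s hs]
  rw [hid]
  refine Ideal.sum_mem _ fun l _ => ?_
  rw [PowerSeries.coeff_X_pow_mul']
  split_ifs with h
  · have := (MFil P e).mul (Ideal.mul_mem_left _ ((ℓ ^ j) ^ l)
      (of_mem_M (gamma_mem_filtration P (aug_sub_toNat ha) l))) (coeff_lin_pow_mem j ((P.aug a).toNat - l) (n - l))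
    rwa [Nat.add_sub_cancel' h] at this
  · rw [mul_zero]; exact zero_mem _

theorem gamma_mem_M {z : Ke} (hz : Pe.aug z = 0) (n : ℕ) : gamma n z ∈ M P e n := by
  let F := MFil P e
  let T : AddSubgroup Ke :=
    { carrier := {z | ∀ n, gamma n z ∈ F.W n}
      zero_mem' := fun n => by
        rw [← coeff_gammaSeries, gammaSeries_zero, PowerSeries.coeff_one]
        split_ifs with h
        · subst h; exact F.mem_zero _
        · exact zero_mem _
      add_mem' := fun {u w} hu hw n => by
        rw [gamma_add]
        refine Ideal.sum_mem _ fun i hi => ?_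
        rw [mem_range] at hi
        conv => arg 1; arg 2; rw [show n = i + (n - i) by omega]
        exact F.mul (hu i) (hw _)
      neg_mem' := fun {u} hu n => by
        induction n using Nat.strong_induction_on with
        | _ n ih =>
          rcases n with _ | n
          · exact F.mem_zero _
          have h := gamma_add (n + 1) u (-u)
          rw [add_neg_cancel, sum_range_succ', gamma_zero, one_mul, ← coeff_gammaSeries, gammaSeries_zero,
            PowerSeries.coeff_one, if_neg (Nat.succ_ne_zero n), Nat.sub_zero] at h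
          rw [eq_neg_of_add_eq_zero_right h.symm]
          refine neg_mem (Ideal.sum_mem _ fun i hi => ?_)
          rw [mem_range] at hi
          conv => arg 1; arg 2; rw [show n + 1 = (i + 1) + (n + 1 - (i + 1)) by omega]
          exact F.mul (hu _) (ih _ (by omega)) }
  suffices h : ∀ q : Polynomial K, (AdjoinRoot.mk _ q - (Pe.aug (AdjoinRoot.mk _ q) : Ke)) ∈ T by
    obtain ⟨q, rfl⟩ := AdjoinRoot.mk_surjective z
    have h' := h q
    rw [hz, Int.cast_zero, sub_zero] at h'
    exact h' n
  intro q
  induction q using Polynomial.induction_on' with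
  | add p q hp hq =>
    rw [map_add, map_add, Int.cast_add, add_sub_add_comm]
    exact add_mem hp hq
  | monomial j b =>
    obtain ⟨a, a', ha, ha', rfl⟩ := P.exists_sub b
    have hmk : AdjoinRoot.mk (KRR.extPoly P e) (Polynomial.monomial j (a - a')) = φ a * ℓ ^ j - φ a' * ℓ ^ j := by
      rw [← Polynomial.C_mul_X_pow_eq_monomial, map_mul, map_pow, AdjoinRoot.mk_C, AdjoinRoot.mk_X, map_sub,
        sub_mul]
    rw [hmk, map_sub, Int.cast_sub, sub_sub_sub_comm]
    exact sub_mem (fun n => gamma_pos_mem hext hline hsplit ha j n) fun n => gamma_pos_mem hext hline hsplit ha' j n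

end ext

end Groth.Agent.Lambda.Ext
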