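import Groth.Agent.Lambda.Poly
import Groth.Agent.Lambda.Positive
import Mathlib.RingTheory.AdjoinRoot

/-!
# The product of series given by the universal polynomials `P_n`, and splitting of series
-/

set_option autoImplicit false

open Finset

namespace Groth.Agent.Lambda

universe u

/-- `P_n` of the coefficients of two series. -/
noncomputable def pmul {R : Type*} [CommRing R] (n : ℕ) (A B : PowerSeries R) : R :=
  MvPolynomial.aeval (Sum.elim (fun i : Fin n => PowerSeries.coeff ((i : ℕ) + 1) A)
    fun i : Fin n => PowerSeries.coeff ((i : ℕ) + 1) B) (exists_isMulPoly n).choose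

/-- The product of two series with constant term one. -/
noncomputable def serMul {R : Type*} [CommRing R] (A B : PowerSeries R) : PowerSeries R :=
  PowerSeries.mk fun n => pmul n A B

theorem coeff_serMul {R : Type*} [CommRing R] (A B : PowerSeries R) (n : ℕ) :
    PowerSeries.coeff n (serMul A B) = pmul n A B :=
  PowerSeries.coeff_mk _ _

theorem map_serMul {R S : Type*} [CommRing R] [CommRing S] (f : R →+* S) (A B : PowerSeries R) :
    PowerSeries.map f (serMul A B) = serMul (PowerSeries.map f A) (PowerSeries.map f B) := by
  ext n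
  rw [PowerSeries.coeff_map, coeff_serMul, coeff_serMul, pmul, pmul]
  refine (MvPolynomial.comp_aeval_apply _ f.toIntAlgHom _).trans ?_
  congr 2
  funext t
  cases t <;> simp [PowerSeries.coeff_map]

section rat

variable {R : Type*} [CommRing R] [Algebra ℚ R]

theorem serMul_eq_fromPsi {A B : PowerSeries R} (hA : PowerSeries.constantCoeff A = 1)
    (hB : PowerSeries.constantCoeff B = 1) : serMul A B = fromPsi fun k => psi A k * psi B k := by
  ext n
  rw [coeff_serMul, pmul, fromPsi, PowerSeries.coeff_mk]
  have key := aeval_mulPoly (exists_isMulPoly n).choose_spec le_rfl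
    (fun i : Fin n => PowerSeries.coeff ((i : ℕ) + 1) A) (fun i : Fin n => PowerSeries.coeff ((i : ℕ) + 1) B)
  simp only [Fin.castLE_refl] at key
  refine key.trans (fc_congr _ _ n fun i hi => ?_)
  rw [psi_ser_eq hA (fun j => rfl) (by omega), psi_ser_eq hB (fun j => rfl) (by omega)]

theorem serMul_mul_rat {A A' B : PowerSeries R} (hA : PowerSeries.constantCoeff A = 1)
    (hA' : PowerSeries.constantCoeff A' = 1) (hB : PowerSeries.constantCoeff B = 1) :
    serMul (A * A') B = serMul A B * serMul A' B := by
  rw [serMul_eq_fromPsi (constantCoeff_mul_one hA hA') hB, serMul_eq_fromPsi hA hB, serMul_eq_fromPsi hA' hB,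
    ← fromPsi_add]
  congr 1
  funext k
  rw [Pi.add_apply, psi_mul hA hA', add_mul]

theorem serMul_comm_rat {A B : PowerSeries R} (hA : PowerSeries.constantCoeff A = 1)
    (hB : PowerSeries.constantCoeff B = 1) : serMul A B = serMul B A := by
  rw [serMul_eq_fromPsi hA hB, serMul_eq_fromPsi hB hA]
  simp only [mul_comm]

theorem serMul_lin_rat (a b : R) : serMul (lin a) (lin b) = lin (a * b) := by
  rw [serMul_eq_fromPsi (constantCoeff_lin a) (constantCoeff_lin b)]
  exact ext_psi (constantCoeff_fromPsi _) (constantCoeff_lin _) fun k => by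
    rw [psi_fromPsi, psi_lin, psi_lin, psi_lin, mul_pow]

theorem serMul_rescale_rat {A B : PowerSeries R} (a b : R) (hA : PowerSeries.constantCoeff A = 1)
    (hB : PowerSeries.constantCoeff B = 1) :
    serMul (PowerSeries.rescale a A) (PowerSeries.rescale b B) = PowerSeries.rescale (a * b) (serMul A B) := by
  have h0 : ∀ (c : R) (C : PowerSeries R), PowerSeries.constantCoeff C = 1 →
      PowerSeries.constantCoeff (PowerSeries.rescale c C) = 1 := fun c C h => by
    rw [← PowerSeries.coeff_zero_eq_constantCoeff_apply, PowerSeries.coeff_rescale, pow_zero, one_mul,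
      PowerSeries.coeff_zero_eq_constantCoeff_apply, h]
  rw [serMul_eq_fromPsi (h0 a A hA) (h0 b B hB), serMul_eq_fromPsi hA hB]
  refine ext_psi (constantCoeff_fromPsi _) (h0 _ _ (constantCoeff_fromPsi _)) fun k => ?_
  rw [psi_fromPsi, psi_rescale a hA, psi_rescale b hB, psi_rescale _ (constantCoeff_fromPsi _), psi_fromPsi,
    mul_pow]
  ring

end rat

section transfer

variable {R : Type*} [CommRing R]

/-- The universal series with constant term one. -/
noncomputable def useries {σ : Type} (i : σ) : PowerSeries (MvPolynomial (σ × ℕ) ℤ) :=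
  PowerSeries.mk fun n => match n with
    | 0 => 1
    | n + 1 => MvPolynomial.X (i, n)

theorem constantCoeff_useries {σ : Type} (i : σ) : PowerSeries.constantCoeff (useries i) = 1 := by
  rw [← PowerSeries.coeff_zero_eq_constantCoeff_apply, useries, PowerSeries.coeff_mk]

/-- The specialisation. -/
noncomputable def uspec {σ : Type} (A : σ → PowerSeries R) : MvPolynomial (σ × ℕ) ℤ →+* R :=
  (MvPolynomial.aeval fun v : σ × ℕ => PowerSeries.coeff (v.2 + 1) (A v.1) :
    MvPolynomial (σ × ℕ) ℤ →ₐ[ℤ] R).toRingHom

theorem map_uspec {σ : Type} (A : σ → PowerSeries R) (hA : ∀ i, PowerSeries.constantCoeff (A i) = 1) (i : σ) :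
    PowerSeries.map (uspec A) (useries i) = A i := by
  ext n
  rcases n with _ | n
  · rw [PowerSeries.coeff_zero_eq_constantCoeff_apply, PowerSeries.coeff_zero_eq_constantCoeff_apply, hA,
      ← PowerSeries.coeff_zero_eq_constantCoeff_apply, PowerSeries.coeff_map,
      PowerSeries.coeff_zero_eq_constantCoeff_apply, constantCoeff_useries, map_one]
  · rw [PowerSeries.coeff_map, useries, PowerSeries.coeff_mk]
    simp [uspec]

theorem constantCoeff_map_one {S : Type*} [CommRing S] (f : R →+* S) {A : PowerSeries R}
    (hA : PowerSeries.constantCoeff A = 1) : PowerSeries.constantCoeff (PowerSeries.map f A) = 1 := by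
  rw [← PowerSeries.coeff_zero_eq_constantCoeff_apply, PowerSeries.coeff_map,
    PowerSeries.coeff_zero_eq_constantCoeff_apply, hA, map_one]

theorem serMul_mul {A A' B : PowerSeries R} (hA : PowerSeries.constantCoeff A = 1)
    (hA' : PowerSeries.constantCoeff A' = 1) (hB : PowerSeries.constantCoeff B = 1) :
    serMul (A * A') B = serMul A B * serMul A' B := by
  have h : serMul (useries (0 : Fin 3) * useries 1) (useries 2) =
      serMul (useries 0) (useries 2) * serMul (useries 1) (useries 2) := by
    refine PowerSeries.map_injective (toQ (Fin 3 × ℕ)) (toQ_injective _) ?_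
    rw [map_serMul, map_mul, map_mul, map_serMul, map_serMul]
    exact serMul_mul_rat (constantCoeff_map_one _ (constantCoeff_useries _))
      (constantCoeff_map_one _ (constantCoeff_useries _)) (constantCoeff_map_one _ (constantCoeff_useries _))
  have hT : ∀ i : Fin 3, PowerSeries.constantCoeff (![A, A', B] i) = 1 := fun i => by fin_cases i <;> assumption
  have h' := congrArg (PowerSeries.map (uspec ![A, A', B])) h
  rw [map_serMul, map_mul, map_mul, map_serMul, map_serMul, map_uspec _ hT, map_uspec _ hT, map_uspec _ hT] at h'
  simpa using h'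

theorem serMul_comm {A B : PowerSeries R} (hA : PowerSeries.constantCoeff A = 1)
    (hB : PowerSeries.constantCoeff B = 1) : serMul A B = serMul B A := by
  have h : serMul (useries (0 : Fin 2)) (useries 1) = serMul (useries 1) (useries 0) := by
    refine PowerSeries.map_injective (toQ (Fin 2 × ℕ)) (toQ_injective _) ?_
    rw [map_serMul, map_serMul]
    exact serMul_comm_rat (constantCoeff_map_one _ (constantCoeff_useries _))
      (constantCoeff_map_one _ (constantCoeff_useries _))
  have hT : ∀ i : Fin 2, PowerSeries.constantCoeff (![A, B] i) = 1 := fun i => by fin_cases i <;> assumption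
  have h' := congrArg (PowerSeries.map (uspec ![A, B])) h
  rw [map_serMul, map_serMul, map_uspec _ hT, map_uspec _ hT] at h'
  simpa using h'

theorem serMul_lin (a b : R) : serMul (lin a) (lin b) = lin (a * b) := by
  have h : serMul (lin (MvPolynomial.X 0 : MvPolynomial (Fin 2) ℤ)) (lin (MvPolynomial.X 1)) =
      lin (MvPolynomial.X 0 * MvPolynomial.X 1) := by
    refine PowerSeries.map_injective (toQ (Fin 2)) (toQ_injective _) ?_
    rw [map_serMul]
    simp only [lin, map_add, map_one, map_mul, PowerSeries.map_C, PowerSeries.map_X]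
    simpa [lin] using serMul_lin_rat (toQ (Fin 2) (MvPolynomial.X 0)) (toQ (Fin 2) (MvPolynomial.X 1))
  let f : MvPolynomial (Fin 2) ℤ →+* R := (MvPolynomial.aeval ![a, b] : MvPolynomial (Fin 2) ℤ →ₐ[ℤ] R).toRingHom
  have h' := congrArg (PowerSeries.map f) h
  rw [map_serMul] at h'
  simpa [lin, f] using h'

theorem serMul_rescale {A B : PowerSeries R} (a b : R) (hA : PowerSeries.constantCoeff A = 1)
    (hB : PowerSeries.constantCoeff B = 1) :
    serMul (PowerSeries.rescale a A) (PowerSeries.rescale b B) = PowerSeries.rescale (a * b) (serMul A B) := by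
  let va : MvPolynomial (Fin 4 × ℕ) ℤ := MvPolynomial.X (2, 0)
  let vb : MvPolynomial (Fin 4 × ℕ) ℤ := MvPolynomial.X (3, 0)
  have h : serMul (PowerSeries.rescale va (useries 0)) (PowerSeries.rescale vb (useries 1)) =
      PowerSeries.rescale (va * vb) (serMul (useries 0) (useries 1)) := by
    refine PowerSeries.map_injective (toQ (Fin 4 × ℕ)) (toQ_injective _) ?_
    rw [map_serMul, ← PowerSeries.rescale_map, ← PowerSeries.rescale_map, ← PowerSeries.rescale_map, map_serMul,
      map_mul]
    exact serMul_rescale_rat _ _ (constantCoeff_map_one _ (constantCoeff_useries _))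
      (constantCoeff_map_one _ (constantCoeff_useries _))
  let T : Fin 4 → PowerSeries R := ![A, B, lin a, lin b]
  have hT : ∀ i : Fin 4, PowerSeries.constantCoeff (T i) = 1 := fun i => by
    fin_cases i
    exacts [hA, hB, constantCoeff_lin a, constantCoeff_lin b]
  have h' := congrArg (PowerSeries.map (uspec T)) h
  rw [map_serMul, ← PowerSeries.rescale_map, ← PowerSeries.rescale_map, ← PowerSeries.rescale_map, map_serMul,
    map_uspec _ hT, map_uspec _ hT] at h'
  simpa [uspec, T, va, vb, lin] using h'

theorem serMul_one_left {B : PowerSeries R} (hB : PowerSeries.constantCoeff B = 1) : serMul 1 B = 1 := by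
  have h := serMul_mul (A := (1 : PowerSeries R)) (A' := 1) (map_one _) (map_one _) hB
  rw [mul_one] at h
  have hu : IsUnit (serMul (1 : PowerSeries R) B) := PowerSeries.isUnit_iff_constantCoeff.2 (by
    rw [← PowerSeries.coeff_zero_eq_constantCoeff_apply, coeff_serMul, pmul]
    have : ∀ (f : Fin 0 ⊕ Fin 0 → R) (P : MvPolynomial (Fin 0 ⊕ Fin 0) ℤ), LambdaRing.IsMulPoly 0 P →
        MvPolynomial.aeval f P = 1 := by
      intro f P hP
      have h1 := hP.1
      have he : (Sum.elim (fun k : Fin 0 => MvPolynomial.rename Sum.inl (MvPolynomial.esymm (Fin 0) ℤ ((k : ℕ) + 1)))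
          (fun k : Fin 0 => MvPolynomial.rename Sum.inr (MvPolynomial.esymm (Fin 0) ℤ ((k : ℕ) + 1)))) =
          MvPolynomial.X := funext fun t => isEmptyElim t
      rw [he, MvPolynomial.aeval_X_left_apply] at h1
      rw [h1]
      simp [LambdaRing.mulGen, Multiset.esymm]
    rw [this _ _ (exists_isMulPoly 0).choose_spec]
    exact isUnit_one)
  exact (hu.mul_left_cancel (by rw [mul_one]; exact h.symm))

theorem linProd_cons (a : R) (s : Multiset R) : linProd (a ::ₘ s) = lin a * linProd s := by
  simp [linProd]

theorem linProd_add (s t : Multiset R) : linProd (s + t) = linProd s * linProd t := by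
  simp [linProd]

theorem linProd_zero : linProd (0 : Multiset R) = 1 := by simp [linProd]

theorem serMul_linProd_lin (t : Multiset R) (a : R) :
    serMul (linProd t) (lin a) = linProd (t.map fun b => b * a) := by
  induction t using Multiset.induction_on with
  | empty => rw [Multiset.map_zero, linProd_zero, serMul_one_left (constantCoeff_lin a)]
  | cons b t iht =>
    rw [Multiset.map_cons, linProd_cons, linProd_cons,
      serMul_mul (constantCoeff_lin b) (constantCoeff_linProd t) (constantCoeff_lin a), serMul_lin, iht]

theorem serMul_linProd (s t : Multiset R) :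
    serMul (linProd s) (linProd t) = linProd ((s ×ˢ t).map fun p => p.1 * p.2) := by
  induction s using Multiset.induction_on with
  | empty => rw [linProd_zero, serMul_one_left (constantCoeff_linProd t), Multiset.zero_product, Multiset.map_zero,
      linProd_zero]
  | cons a s ih =>
    rw [Multiset.cons_product, Multiset.map_add, linProd_add, linProd_cons,
      serMul_mul (constantCoeff_lin a) (constantCoeff_linProd s) (constantCoeff_linProd t), ih,
      serMul_comm (constantCoeff_lin a) (constantCoeff_linProd t), serMul_linProd_lin, Multiset.map_map]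
    simp only [Function.comp_def, mul_comm a]

theorem prod_product_map_mul (s t : Multiset R) :
    ((s ×ˢ t).map fun p => p.1 * p.2).prod = s.prod ^ Multiset.card t * t.prod ^ Multiset.card s := by
  induction s using Multiset.induction_on with
  | empty => simp
  | cons a s ih =>
    rw [Multiset.cons_product, Multiset.map_add, Multiset.prod_add, ih, Multiset.map_map]
    simp only [Function.comp_def, Multiset.prod_cons, Multiset.card_cons]
    rw [Multiset.prod_map_mul, Multiset.map_const', Multiset.prod_replicate, Multiset.map_id']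
    ring

end transfer

theorem exists_linProd (r : ℕ) : ∀ {R : Type u} [CommRing R] (A : PowerSeries R),
    PowerSeries.constantCoeff A = 1 → (∀ i, r < i → PowerSeries.coeff i A = 0) →
    ∃ (R' : Type u) (_ : CommRing R') (g : R →+* R'), Function.Injective g ∧
      ∃ s : Multiset R', Multiset.card s = r ∧ PowerSeries.map g A = linProd s := by
  induction r with
  | zero =>
    intro R _ A h0 h
    refine ⟨R, inferInstance, RingHom.id R, fun _ _ e => e, 0, rfl, ?_⟩
    ext n
    rcases n with _ | n
    · simp [linProd, h0]
    · rw [PowerSeries.coeff_map, RingHom.id_apply, h _ (Nat.succ_pos n)]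
      simp [linProd]
  | succ r ih =>
    intro R _ A h0 h
    rcases subsingleton_or_nontrivial R with _ | _
    · exact ⟨R, inferInstance, RingHom.id R, fun _ _ e => e, Multiset.replicate (r + 1) 0,
        Multiset.card_replicate _ _, PowerSeries.ext fun n => Subsingleton.elim _ _⟩
    let p : Polynomial R := ∑ k ∈ range (r + 1 + 1),
      Polynomial.C ((-1) ^ k * PowerSeries.coeff k A) * Polynomial.X ^ (r + 1 - k)
    have hcoeff : p.coeff (r + 1) = 1 := by
      rw [Polynomial.finsetSum_coeff, sum_eq_single 0]
      · simp [h0]
      · intro k hk hk0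
        rw [mem_range] at hk
        rw [Polynomial.coeff_C_mul_X_pow, if_neg (by omega)]
      · simp
    have hle : p.natDegree ≤ r + 1 :=
      Polynomial.natDegree_sum_le_of_forall_le _ _ fun k _ =>
        (Polynomial.natDegree_C_mul_X_pow_le _ _).trans (Nat.sub_le _ _)
    have hm : p.Monic := Polynomial.monic_of_natDegree_le_of_coeff_eq_one _ hle hcoeff
    have hd : p.degree ≠ 0 := fun hd => by
      have := Polynomial.le_natDegree_of_ne_zero (p := p) (n := r + 1) (by rw [hcoeff]; exact one_ne_zero)
      rw [Polynomial.natDegree_eq_of_degree_eq_some (show p.degree = ((0 : ℕ) : WithBot ℕ) from hd)] at this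
      omega
    let g₁ := AdjoinRoot.of p
    let ρ := AdjoinRoot.root p
    have hg₁ : Function.Injective g₁ := fun a b hab => by
      have h' := AdjoinRoot.mk_eq_mk.1 hab
      by_contra hne
      rw [← map_sub] at h'
      refine hm.not_dvd_of_natDegree_lt (fun e => hne (sub_eq_zero.1 (Polynomial.C_eq_zero.1 e))) ?_ h'
      rw [Polynomial.natDegree_C]
      exact lt_of_lt_of_le (Nat.succ_pos r) (Polynomial.le_natDegree_of_ne_zero (by rw [hcoeff]; exact one_ne_zero))
    let B : PowerSeries (AdjoinRoot p) :=
      PowerSeries.invOfUnit (lin ρ) 1 * PowerSeries.map g₁ A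
    have hAB : lin ρ * B = PowerSeries.map g₁ A := by
      rw [← mul_assoc, PowerSeries.mul_invOfUnit _ 1 (by simp), one_mul]
    have hB0 : PowerSeries.constantCoeff B = 1 := by
      have := congrArg PowerSeries.constantCoeff hAB
      rwa [map_mul, constantCoeff_lin, one_mul, constantCoeff_map_one g₁ h0] at this
    have hrec : ∀ i, PowerSeries.coeff (i + 1) B = g₁ (PowerSeries.coeff (i + 1) A) - ρ * PowerSeries.coeff i B := by
      intro i
      have := congrArg (PowerSeries.coeff (i + 1)) hAB
      rw [coeff_lin_mul, PowerSeries.coeff_map] at this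
      rw [← this]; ring
    have hBeq : ∀ i, (-1) ^ i * PowerSeries.coeff i B =
        ∑ k ∈ range (i + 1), g₁ ((-1) ^ k * PowerSeries.coeff k A) * ρ ^ (i - k) := by
      intro i
      induction i with
      | zero => simp [hB0, h0]
      | succ i ihi =>
        rw [sum_range_succ, Nat.sub_self, pow_zero, mul_one, hrec, map_mul g₁ ((-1) ^ (i + 1)), map_pow g₁,
          map_neg, map_one]
        have : ∑ k ∈ range (i + 1), g₁ ((-1) ^ k * PowerSeries.coeff k A) * ρ ^ (i + 1 - k) =
            ρ * ((-1) ^ i * PowerSeries.coeff i B) := by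
          rw [ihi, mul_sum]
          refine sum_congr rfl fun k hk => ?_
          rw [mem_range] at hk
          rw [show i + 1 - k = (i - k) + 1 by omega, pow_succ]
          ring
        rw [this, pow_succ]
        ring
    have htop : PowerSeries.coeff (r + 1) B = 0 := by
      have hz : ∑ k ∈ range (r + 1 + 1), g₁ ((-1) ^ k * PowerSeries.coeff k A) * ρ ^ (r + 1 - k) = 0 := by
        have := AdjoinRoot.mk_self (f := p)
        simpa only [p, map_sum, map_mul, map_pow, AdjoinRoot.mk_C, AdjoinRoot.mk_X] using this
      rw [← hBeq] at hz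
      exact (isUnit_one.neg.pow _).mul_right_eq_zero.1 hz
    have hBv : ∀ i, r < i → PowerSeries.coeff i B = 0 := by
      intro i hi
      induction i with
      | zero => omega
      | succ i ihi =>
        rcases Nat.lt_or_ge r i with hr | hr
        · rw [hrec, h _ (by omega), map_zero, ihi hr, mul_zero, sub_zero]
        · rw [show i + 1 = r + 1 by omega]; exact htop
    obtain ⟨R', _, g₂, hg₂, s, hs, hBs⟩ := ih B hB0 hBv
    refine ⟨R', inferInstance, g₂.comp g₁, hg₂.comp hg₁, g₂ ρ ::ₘ s, by rw [Multiset.card_cons, hs], ?_⟩
    rw [PowerSeries.map_comp, RingHom.comp_apply, ← hAB, map_mul, hBs,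
      show PowerSeries.map g₂ (lin ρ) = lin (g₂ ρ) by simp [lin]]
    simp [linProd]

end Groth.Agent.Lambda
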