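import Groth.Agent.Lambda.Ext
import Groth.Agent.Lambda.SerMul
import Groth.Agent.Lambda.Filtration
import Mathlib.RingTheory.Polynomial.Vieta

/-!
# The λ-structure of the elementary extension
-/

set_option autoImplicit false

open Finset LambdaRing

namespace Groth.Agent.Lambda.Ext

open Groth.Agent.Lambda

universe v

section universal

variable {m : ℕ}

/-- The term attached to a subset. -/
noncomputable def subTerm (S : Finset (Fin m)) : Polynomial (MvPolynomial (Fin m) ℤ) :=
  Polynomial.C (∏ a ∈ S, MvPolynomial.X a) * Polynomial.X ^ (m - S.card)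

/-- The product over subsets of even size. -/
noncomputable def evenProd (m : ℕ) : PowerSeries (Polynomial (MvPolynomial (Fin m) ℤ)) :=
  ∏ S ∈ (univ : Finset (Fin m)).powerset.filter fun S => Even S.card, lin (subTerm S)

/-- The product over subsets of odd size. -/
noncomputable def oddProd (m : ℕ) : PowerSeries (Polynomial (MvPolynomial (Fin m) ℤ)) :=
  ∏ S ∈ (univ : Finset (Fin m)).powerset.filter fun S => ¬ Even S.card, lin (subTerm S)

open scoped symmDiff in
theorem eval_evenProd_eq (a : Fin m) :
    PowerSeries.map (Polynomial.evalRingHom (MvPolynomial.X a)) (evenProd m) =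
      PowerSeries.map (Polynomial.evalRingHom (MvPolynomial.X a)) (oddProd m) := by
  have key : ∀ S : Finset (Fin m), a ∉ S →
      (subTerm (insert a S)).eval (MvPolynomial.X a) = (subTerm S).eval (MvPolynomial.X a) := by
    intro S hS
    have hlt : S.card < m := by
      have := Finset.card_le_univ (insert a S)
      rw [card_insert_of_notMem hS, Fintype.card_fin] at this
      omega
    simp only [subTerm, Polynomial.eval_mul, Polynomial.eval_C, Polynomial.eval_pow, Polynomial.eval_X,
      prod_insert hS, card_insert_of_notMem hS]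
    rw [show m - S.card = (m - (S.card + 1)) + 1 by omega, pow_succ]
    ring
  have hins : ∀ S : Finset (Fin m), a ∈ S → (S.erase a).card + 1 = S.card := fun S h => card_erase_add_one h
  simp only [evenProd, oddProd, map_prod, lin, map_add, map_one, map_mul, PowerSeries.map_C, PowerSeries.map_X,
    Polynomial.coe_evalRingHom]
  refine prod_nbij' (fun S => if a ∈ S then S.erase a else insert a S)
    (fun S => if a ∈ S then S.erase a else insert a S) ?_ ?_ ?_ ?_ ?_
  · intro S hS
    simp only [mem_filter, mem_powerset, subset_univ, true_and] at hS ⊢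
    split_ifs with h
    · rw [← hins S h, Nat.even_add_one] at hS; exact hS
    · rw [card_insert_of_notMem h, Nat.even_add_one]; exact not_not.2 hS
  · intro S hS
    simp only [mem_filter, mem_powerset, subset_univ, true_and] at hS ⊢
    split_ifs with h
    · rw [← hins S h, Nat.even_add_one, not_not] at hS; exact hS
    · rw [card_insert_of_notMem h, Nat.even_add_one]; exact hS
  · intro S _
    by_cases h : a ∈ S <;> simp [h, insert_erase]
  · intro S _
    by_cases h : a ∈ S <;> simp [h, insert_erase]
  · intro S _
    by_cases h : a ∈ S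
    · simp only [if_pos h]
      rw [← key (S.erase a) (notMem_erase a S), insert_erase h]
    · simp only [if_neg h]
      rw [key S h]

theorem prod_dvd_coeff_sub (n : ℕ) :
    (∏ a : Fin m, (Polynomial.X - Polynomial.C (MvPolynomial.X a : MvPolynomial (Fin m) ℤ))) ∣
      PowerSeries.coeff n (evenProd m) - PowerSeries.coeff n (oddProd m) := by
  set D := PowerSeries.coeff n (evenProd m) - PowerSeries.coeff n (oddProd m) with hD
  rcases eq_or_ne D 0 with h0 | h0
  · rw [h0]; exact dvd_zero _
  have hroots : (univ : Finset (Fin m)).val.map (MvPolynomial.X : Fin m → MvPolynomial (Fin m) ℤ) ≤ D.roots := by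
    refine (Multiset.le_iff_subset ((Multiset.nodup_map_iff_of_injective MvPolynomial.X_injective).2 univ.nodup)).2 ?_
    intro x hx
    obtain ⟨a, -, rfl⟩ := Multiset.mem_map.1 hx
    rw [Polynomial.mem_roots h0, Polynomial.IsRoot, hD, Polynomial.eval_sub, ← Polynomial.coe_evalRingHom,
      ← PowerSeries.coeff_map, ← PowerSeries.coeff_map, eval_evenProd_eq, sub_self]
  have := (Multiset.prod_X_sub_C_dvd_iff_le_roots h0 _).2 hroots
  rwa [Multiset.map_map] at this

end universal

theorem rescale_lin {R : Type*} [CommRing R] (c w : R) : PowerSeries.rescale c (lin w) = lin (c * w) := by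
  simp only [lin, map_add, map_one, map_mul, PowerSeries.rescale_X]
  rw [show PowerSeries.rescale c (PowerSeries.C w) = PowerSeries.C w by
    ext k; rw [PowerSeries.coeff_rescale, PowerSeries.coeff_C]; split_ifs with h <;> simp [h]]
  ring

theorem map_lin {R S : Type*} [CommRing R] [CommRing S] (f : R →+* S) (w : R) :
    PowerSeries.map f (lin w) = lin (f w) := by simp [lin]

/-- `λ_t(a x^i)` read through `φ`. -/
noncomputable def term {K A : Type*} [CommRing K] [LambdaOps K] [CommRing A] (φ : K →+* A) (x : A) (i : ℕ)
    (a : K) : PowerSeries A :=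
  PowerSeries.rescale (x ^ i) (PowerSeries.map φ (lamSeries a))

section term

variable {K A : Type v} [CommRing K] [LambdaOps K] [CommRing A] (φ : K →+* A) (x : A)

theorem term_zero (i : ℕ) : term φ x i (0 : K) = 1 := by simp [term]

theorem term_add (i : ℕ) (a b : K) : term φ x i (a + b) = term φ x i a * term φ x i b := by
  simp [term, lamSeries_add]

theorem term_neg_mul (i : ℕ) (a : K) : term φ x i (-a) * term φ x i a = 1 := by
  rw [← term_add, neg_add_cancel, term_zero]

theorem isUnit_term (i : ℕ) (a : K) : IsUnit (term φ x i a) :=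
  IsUnit.of_mul_eq_one_right _ (term_neg_mul φ x i a)

theorem term_sum {ι : Type*} (i : ℕ) (s : Finset ι) (f : ι → K) :
    term φ x i (∑ j ∈ s, f j) = ∏ j ∈ s, term φ x i (f j) := by
  simp [term, lamSeries_sum]

theorem map_term {A' : Type v} [CommRing A'] (g : A →+* A') (i : ℕ) (a : K) :
    PowerSeries.map g (term φ x i a) = term (g.comp φ) (g x) i a := by
  rw [term, term, ← PowerSeries.rescale_map, map_pow, PowerSeries.map_comp, RingHom.comp_apply]

theorem term_comp {K' : Type v} [CommRing K'] [LambdaOps K'] {h : K →+* K'} (hh : IsLambdaHom h)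
    (ψ : K' →+* A) (i : ℕ) (a : K) : term (ψ.comp h) x i a = term ψ x i (h a) := by
  rw [term, term, PowerSeries.map_comp, RingHom.comp_apply, lamSeries_map hh]

theorem constantCoeff_term (i : ℕ) (a : K) : PowerSeries.constantCoeff (term φ x i a) = 1 := by
  rw [← PowerSeries.coeff_zero_eq_constantCoeff_apply, term, PowerSeries.coeff_rescale, PowerSeries.coeff_map,
    coeff_lamSeries, LambdaOps.lam_zero, map_one, pow_zero, mul_one]

/-- The lines case of the vanishing on `p · K[T]`. -/
theorem prod_term_lines {P : PosStructure K} {m : ℕ} (w : Fin m → K) (hw : ∀ a, P.IsLine (w a))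
    (hx : ∏ a, (x - φ (w a)) = 0) {b : K} (hb : b ∈ lineGroup P) (j : ℕ) :
    ∏ k ∈ range (m + 1), term φ x (j + (m - k))
      ((-1) ^ k * (∑ S ∈ powersetCard k (univ : Finset (Fin m)), ∏ a ∈ S, w a) * b) = 1 := by
  induction hb using AddSubgroup.closure_induction with
  | zero => exact prod_eq_one fun k _ => by rw [mul_zero, term_zero]
  | add a c _ _ ha hc => simp only [mul_add, term_add, prod_mul_distrib, ha, hc, mul_one]
  | neg a _ ha =>
    have h : (∏ k ∈ range (m + 1), term φ x (j + (m - k))
        ((-1) ^ k * (∑ S ∈ powersetCard k (univ : Finset (Fin m)), ∏ a ∈ S, w a) * -a)) * 1 = 1 := by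
      conv_lhs => arg 2; rw [← ha]
      rw [← prod_mul_distrib]
      exact prod_eq_one fun k _ => by rw [mul_neg, term_neg_mul]
    rwa [mul_one] at h
  | mem v hv =>
    let θ : Polynomial (MvPolynomial (Fin m) ℤ) →+* A :=
      Polynomial.eval₂RingHom
        (MvPolynomial.aeval fun a => φ (w a) : MvPolynomial (Fin m) ℤ →ₐ[ℤ] A).toRingHom x
    have hlineprod : ∀ S : Finset (Fin m), P.IsLine ((∏ a ∈ S, w a) * v) := by
      intro S
      induction S using Finset.induction_on with
      | empty => simpa using hv
      | insert a S ha ih => rw [prod_insert ha, mul_assoc]; exact isLine_mul (hw a) ih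
    let c : A := φ v * x ^ j
    let q : Finset (Fin m) → PowerSeries A := fun S => lin (c * θ (subTerm S))
    have hq : ∀ k, term φ x (j + (m - k)) ((∑ S ∈ powersetCard k (univ : Finset (Fin m)), ∏ a ∈ S, w a) * v) =
        ∏ S ∈ powersetCard k (univ : Finset (Fin m)), q S := by
      intro k
      rw [sum_mul, term_sum]
      refine prod_congr rfl fun S hS => ?_
      rw [term, lamSeries_eq_lin (isLine_lam (hlineprod S)), map_lin, rescale_lin]
      simp only [q, c, θ, subTerm, Polynomial.coe_eval₂RingHom, Polynomial.eval₂_mul, Polynomial.eval₂_C,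
        Polynomial.eval₂_X_pow, AlgHom.toRingHom_eq_coe, RingHom.coe_coe, map_prod, MvPolynomial.aeval_X,
        (mem_powersetCard.1 hS).2, pow_add, map_mul]
      ring_nf
    have heo : ∏ S ∈ (univ : Finset (Fin m)).powerset.filter (fun S => Even S.card), q S =
        ∏ S ∈ (univ : Finset (Fin m)).powerset.filter (fun S => ¬ Even S.card), q S := by
      have hz : θ (∏ a : Fin m, (Polynomial.X - Polynomial.C (MvPolynomial.X a))) = 0 := by
        rw [← hx, map_prod]
        exact prod_congr rfl fun a _ => by simp [θ]
      have h : PowerSeries.rescale c (PowerSeries.map θ (evenProd m)) =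
          PowerSeries.rescale c (PowerSeries.map θ (oddProd m)) := by
        ext n
        obtain ⟨d, hd⟩ := prod_dvd_coeff_sub (m := m) n
        rw [PowerSeries.coeff_rescale, PowerSeries.coeff_rescale, PowerSeries.coeff_map, PowerSeries.coeff_map]
        refine congrArg _ (sub_eq_zero.1 ?_)
        rw [← map_sub, hd, map_mul, hz, zero_mul]
      simpa only [evenProd, oddProd, map_prod, map_lin, rescale_lin] using h
    have hgroup : ∀ p : ℕ → Prop, ∀ [DecidablePred p],
        ∏ S ∈ (univ : Finset (Fin m)).powerset.filter (fun S => p S.card), q S =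
          ∏ k ∈ (range (m + 1)).filter p, ∏ S ∈ powersetCard k (univ : Finset (Fin m)), q S := by
      intro p _
      rw [prod_filter, prod_powerset, card_univ, Fintype.card_fin, prod_filter]
      refine prod_congr rfl fun k _ => ?_
      split_ifs with h
      · exact prod_congr rfl fun S hS => by rw [if_pos]; rwa [(mem_powersetCard.1 hS).2]
      · exact prod_eq_one fun S hS => by rw [if_neg]; rwa [(mem_powersetCard.1 hS).2]
    rw [hgroup (fun k => Even k), hgroup (fun k => ¬ Even k)] at heo
    rw [← prod_filter_mul_prod_filter_not (range (m + 1)) fun k => Even k]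
    have he : ∏ k ∈ (range (m + 1)).filter (fun k => Even k), term φ x (j + (m - k))
        ((-1) ^ k * (∑ S ∈ powersetCard k (univ : Finset (Fin m)), ∏ a ∈ S, w a) * v) =
        ∏ k ∈ (range (m + 1)).filter (fun k => Even k), ∏ S ∈ powersetCard k (univ : Finset (Fin m)), q S :=
      prod_congr rfl fun k hk => by rw [(mem_filter.1 hk).2.neg_one_pow, one_mul, hq]
    have ho : (∏ k ∈ (range (m + 1)).filter (fun k => ¬ Even k), term φ x (j + (m - k))
        ((-1) ^ k * (∑ S ∈ powersetCard k (univ : Finset (Fin m)), ∏ a ∈ S, w a) * v)) *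
        ∏ k ∈ (range (m + 1)).filter (fun k => ¬ Even k), ∏ S ∈ powersetCard k (univ : Finset (Fin m)), q S = 1 := by
      rw [← prod_mul_distrib]
      exact prod_eq_one fun k hk => by
        rw [← hq, (Nat.not_even_iff_odd.1 (mem_filter.1 hk).2).neg_one_pow, neg_one_mul, neg_mul, term_neg_mul]
    rw [he, heo, mul_comm, ho]

end term

variable {K : Type v} [CommRing K] [LambdaOps K] {P : PosStructure K} {e : K} {r : ℕ}

local notation "Ke" => AdjoinRoot (KRR.extPoly P e)
local notation "φ" => AdjoinRoot.of (KRR.extPoly P e)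
local notation "ℓ" => AdjoinRoot.root (KRR.extPoly P e)

section kill

variable (hK : HasSplitting K P)

include hK

theorem prod_term_extPoly (he : e ∈ P.pos) (b : K) (j : ℕ) :
    ∏ k ∈ range ((P.aug e).toNat + 1),
      term φ ℓ (j + ((P.aug e).toNat - k)) ((-1) ^ k * LambdaOps.lam k e * b) = 1 := by
  obtain ⟨L₁, g₁, hL₁, hg₁, s, hs, hse⟩ := exists_split_pos hK he
  obtain ⟨L, g₂, -, hg₂, hsplit⟩ := exists_split hL₁ [g₁ b]
  have hg : IsExtension P L.posStr (g₂.comp g₁) := isExtension_comp hg₁ hg₂
  obtain ⟨w, hw⟩ := exists_fin_map (s.map g₂) (m := (P.aug e).toNat)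
    (by rw [Multiset.card_map, card_split hg₁ hs hse])
  have hwl : ∀ a, L.posStr.IsLine (w a) := fun a => by
    have : w a ∈ s.map g₂ := hw ▸ Multiset.mem_map_of_mem _ (mem_univ a)
    obtain ⟨u, hu, hua⟩ := Multiset.mem_map.1 this
    exact hua ▸ isLine_map hg₂ (hs u hu)
  have hlam : ∀ k, (g₂.comp g₁) (LambdaOps.lam k e) =
      ∑ S ∈ powersetCard k (univ : Finset (Fin (P.aug e).toNat)), ∏ a ∈ S, w a := fun k => by
    rw [RingHom.comp_apply, map_lam_split hg₁ hs hse, map_multiset_esymm, ← hw, Finset.esymm_map_val]
  have hp' : (KRR.extPoly P e).map (g₂.comp g₁) = ∏ a, (Polynomial.X - Polynomial.C (w a)) := by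
    rw [show (∏ a, (Polynomial.X - Polynomial.C (w a))) =
        ((univ.val.map w).map fun u => Polynomial.X - Polynomial.C u).prod by rw [Multiset.map_map]; rfl,
      Multiset.prod_X_sub_X_eq_sum_esymm, KRR.extPoly, Polynomial.map_sum]
    simp only [Multiset.card_map, card_val, card_univ, Fintype.card_fin]
    refine sum_congr rfl fun k _ => ?_
    rw [Polynomial.map_mul, Polynomial.map_C, Polynomial.map_pow, Polynomial.map_X, map_mul, map_pow, map_neg,
      map_one, hlam, Finset.esymm_map_val, map_mul, map_pow, map_neg, map_one, mul_assoc]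
  let gh : Ke →+* AdjoinRoot ((KRR.extPoly P e).map (g₂.comp g₁)) :=
    AdjoinRoot.map (g₂.comp g₁) _ _ dvd_rfl
  have hm : (KRR.extPoly P e).Monic := by
    obtain ⟨r, hr⟩ : ∃ r : ℕ, P.aug e = r + 1 := ⟨(P.aug e).toNat - 1, by have := P.aug_pos e he; omega⟩
    exact extPoly_eq hr ▸ monic_Sp e (r + 1)
  have hinj : Function.Injective gh := (injective_iff_map_eq_zero gh).2 fun z hz => by
    obtain ⟨q, rfl⟩ := AdjoinRoot.mk_surjective z
    have : gh (AdjoinRoot.mk _ q) = AdjoinRoot.mk _ (q.map (g₂.comp g₁)) := by
      simp only [gh, AdjoinRoot.map, AdjoinRoot.lift_mk]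
      rw [← Polynomial.eval₂_map, ← AdjoinRoot.algebraMap_eq, ← Polynomial.aeval_def, AdjoinRoot.aeval_eq]
    rw [this, AdjoinRoot.mk_eq_zero] at hz
    exact AdjoinRoot.mk_eq_zero.2 ((Polynomial.map_dvd_map _ hg.injective hm).1 hz)
  refine PowerSeries.map_injective gh hinj ?_
  rw [map_prod, map_one]
  have hcomp : gh.comp φ = (AdjoinRoot.of ((KRR.extPoly P e).map (g₂.comp g₁))).comp (g₂.comp g₁) :=
    RingHom.ext fun a => by simp [gh, AdjoinRoot.map]
  have hroot : gh ℓ = AdjoinRoot.root ((KRR.extPoly P e).map (g₂.comp g₁)) := by simp [gh, AdjoinRoot.map]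
  simp only [map_term, hcomp, hroot, term_comp _ hg.isLambdaHom, map_mul, map_pow, map_neg, map_one, hlam]
  refine prod_term_lines _ _ w hwl ?_ (hsplit _ (by simp)) j
  have h0 := AdjoinRoot.mk_self (f := (KRR.extPoly P e).map (g₂.comp g₁))
  simpa only [hp', map_prod, map_sub, AdjoinRoot.mk_X, AdjoinRoot.mk_C] using h0

theorem lamSeries_mul (a b : K) : lamSeries (a * b) = serMul (lamSeries a) (lamSeries b) := by
  obtain ⟨L, g, -, hg, hab⟩ := exists_split hK [a, b]
  refine PowerSeries.map_injective g hg.injective ?_
  rw [map_serMul, lamSeries_map hg.isLambdaHom, lamSeries_map hg.isLambdaHom, lamSeries_map hg.isLambdaHom, map_mul]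
  have key : ∀ x ∈ lineGroup L.posStr, ∀ y ∈ lineGroup L.posStr,
      lamSeries (x * y) = serMul (lamSeries x) (lamSeries y) := by
    intro x hx
    induction hx using AddSubgroup.closure_induction with
    | zero =>
      intro y _
      rw [zero_mul, lamSeries_zero, serMul_one_left (constantCoeff_lamSeries y)]
    | add x x' _ _ h h' =>
      intro y hy
      rw [add_mul, lamSeries_add, lamSeries_add, h y hy, h' y hy,
        serMul_mul (constantCoeff_lamSeries x) (constantCoeff_lamSeries x') (constantCoeff_lamSeries y)]
    | neg x _ h =>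
      intro y hy
      refine (isUnit_lamSeries (x * y)).mul_right_cancel ?_
      conv_rhs => rw [h y hy]
      rw [neg_mul, lamSeries_neg_mul,
        ← serMul_mul (constantCoeff_lamSeries (-x)) (constantCoeff_lamSeries x) (constantCoeff_lamSeries y),
        lamSeries_neg_mul, serMul_one_left (constantCoeff_lamSeries y)]
    | mem u hu =>
      intro y hy
      induction hy using AddSubgroup.closure_induction with
      | zero =>
        rw [mul_zero, lamSeries_zero, serMul_comm (constantCoeff_lamSeries u) (map_one _),
          serMul_one_left (constantCoeff_lamSeries u)]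
      | add y y' _ _ h h' =>
        rw [mul_add, lamSeries_add, lamSeries_add, h, h',
          serMul_comm (constantCoeff_lamSeries u) (constantCoeff_mul_one (constantCoeff_lamSeries y)
            (constantCoeff_lamSeries y')),
          serMul_mul (constantCoeff_lamSeries y) (constantCoeff_lamSeries y') (constantCoeff_lamSeries u),
          serMul_comm (constantCoeff_lamSeries u) (constantCoeff_lamSeries y),
          serMul_comm (constantCoeff_lamSeries u) (constantCoeff_lamSeries y')]
      | neg y _ h =>
        refine (isUnit_lamSeries (u * y)).mul_right_cancel ?_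
        conv_rhs => rw [h]
        rw [mul_neg, lamSeries_neg_mul, serMul_comm (constantCoeff_lamSeries u) (constantCoeff_lamSeries (-y)),
          serMul_comm (constantCoeff_lamSeries u) (constantCoeff_lamSeries y),
          ← serMul_mul (constantCoeff_lamSeries (-y)) (constantCoeff_lamSeries y) (constantCoeff_lamSeries u),
          lamSeries_neg_mul, serMul_one_left (constantCoeff_lamSeries u)]
      | mem w hw =>
        rw [lamSeries_eq_lin (isLine_lam hu), lamSeries_eq_lin (isLine_lam hw),
          lamSeries_eq_lin (isLine_lam (isLine_mul hu hw)), serMul_lin]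
  exact key _ (hab a (by simp)) _ (hab b (by simp))

end kill

/-- `λ_t` on `K[T]`, read in `K_e`. -/
noncomputable def lamTilde (P : PosStructure K) (e : K) (q : Polynomial K) :
    PowerSeries (AdjoinRoot (KRR.extPoly P e)) :=
  ∏ i ∈ range (q.natDegree + 1), term (AdjoinRoot.of (KRR.extPoly P e)) (AdjoinRoot.root (KRR.extPoly P e)) i (q.coeff i)

theorem lamTilde_eq {q : Polynomial K} {N : ℕ} (hN : q.natDegree < N) :
    lamTilde P e q = ∏ i ∈ range N, term φ ℓ i (q.coeff i) :=
  prod_subset (range_mono hN) fun i _ hi => by
    rw [mem_range] at hi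
    rw [Polynomial.coeff_eq_zero_of_natDegree_lt (by omega), term_zero]

theorem lamTilde_add (p q : Polynomial K) : lamTilde P e (p + q) = lamTilde P e p * lamTilde P e q := by
  have h := Polynomial.natDegree_add_le p q
  rw [lamTilde_eq (N := p.natDegree + q.natDegree + 1) (by omega),
    lamTilde_eq (q := p) (N := p.natDegree + q.natDegree + 1) (by omega),
    lamTilde_eq (q := q) (N := p.natDegree + q.natDegree + 1) (by omega), ← prod_mul_distrib]
  exact prod_congr rfl fun i _ => by rw [Polynomial.coeff_add, term_add]

theorem lamTilde_zero : lamTilde P e (0 : Polynomial K) = 1 :=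
  prod_eq_one fun i _ => by rw [Polynomial.coeff_zero, term_zero]

theorem lamTilde_monomial (a : K) (i : ℕ) : lamTilde P e (Polynomial.monomial i a) = term φ ℓ i a := by
  rw [lamTilde_eq (N := i + 1) (lt_of_le_of_lt (Polynomial.natDegree_monomial_le a) (Nat.lt_succ_self i)),
    prod_eq_single i]
  · rw [Polynomial.coeff_monomial, if_pos rfl]
  · intro k _ hk; rw [Polynomial.coeff_monomial, if_neg hk.symm, term_zero]
  · simp

theorem lamTilde_sum {ι : Type*} (s : Finset ι) (q : ι → Polynomial K) :
    lamTilde P e (∑ i ∈ s, q i) = ∏ i ∈ s, lamTilde P e (q i) := by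
  classical
  induction s using Finset.induction_on with
  | empty => rw [sum_empty, prod_empty, lamTilde_zero]
  | insert a s ha ih => rw [sum_insert ha, prod_insert ha, lamTilde_add, ih]

theorem coeff_zero_lamTilde (q : Polynomial K) : PowerSeries.constantCoeff (lamTilde P e q) = 1 := by
  rw [lamTilde, map_prod]
  exact prod_eq_one fun i _ => constantCoeff_term _ _ _ _

theorem coeff_one_lamTilde (q : Polynomial K) :
    PowerSeries.coeff 1 (lamTilde P e q) = AdjoinRoot.mk (KRR.extPoly P e) q := by
  induction q using Polynomial.induction_on' with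
  | add p q hp hq =>
    rw [lamTilde_add, ← psi_one_eq (constantCoeff_mul_one (coeff_zero_lamTilde p) (coeff_zero_lamTilde q)),
      psi_mul (coeff_zero_lamTilde p) (coeff_zero_lamTilde q), psi_one_eq (coeff_zero_lamTilde p),
      psi_one_eq (coeff_zero_lamTilde q), hp, hq, map_add]
  | monomial i a =>
    rw [lamTilde_monomial, term, PowerSeries.coeff_rescale, PowerSeries.coeff_map, coeff_lamSeries,
      LambdaOps.lam_one, pow_one, ← Polynomial.C_mul_X_pow_eq_monomial, map_mul, map_pow, AdjoinRoot.mk_C,
      AdjoinRoot.mk_X, mul_comm]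

variable (hK : HasSplitting K P) (he : e ∈ P.pos)

include hK he

theorem lamTilde_mul_extPoly (q : Polynomial K) : lamTilde P e (KRR.extPoly P e * q) = 1 := by
  induction q using Polynomial.induction_on' with
  | add p q hp hq => rw [mul_add, lamTilde_add, hp, hq, one_mul]
  | monomial j b =>
    have hp : KRR.extPoly P e * Polynomial.monomial j b = ∑ k ∈ range ((P.aug e).toNat + 1),
        Polynomial.monomial (j + ((P.aug e).toNat - k)) ((-1) ^ k * LambdaOps.lam k e * b) := by
      rw [KRR.extPoly, sum_mul]
      refine sum_congr rfl fun k _ => ?_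
      rw [Polynomial.C_mul_X_pow_eq_monomial, Polynomial.monomial_mul_monomial, add_comm]
    rw [hp, lamTilde_sum]
    rw [← prod_term_extPoly hK he b j]
    refine prod_congr rfl fun k _ => ?_
    exact lamTilde_monomial _ _

theorem lamTilde_congr {p q : Polynomial K}
    (h : AdjoinRoot.mk (KRR.extPoly P e) p = AdjoinRoot.mk (KRR.extPoly P e) q) :
    lamTilde P e p = lamTilde P e q := by
  obtain ⟨d, hd⟩ := AdjoinRoot.mk_eq_mk.1 h
  rw [show p = q + KRR.extPoly P e * d by rw [← hd]; ring, lamTilde_add, lamTilde_mul_extPoly hK he, mul_one]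

/-- The λ-operations on `K_e`. -/
@[instance_reducible]
noncomputable def extOps : LambdaOps (AdjoinRoot (KRR.extPoly P e)) where
  lam n z := PowerSeries.coeff n (lamTilde P e (AdjoinRoot.mk_surjective z).choose)
  lam_zero z := by rw [PowerSeries.coeff_zero_eq_constantCoeff_apply, coeff_zero_lamTilde]
  lam_one z := by rw [coeff_one_lamTilde]; exact (AdjoinRoot.mk_surjective z).choose_spec
  lam_add k z z' := by
    rw [lamTilde_congr hK he (q := (AdjoinRoot.mk_surjective z).choose + (AdjoinRoot.mk_surjective z').choose)
      (by rw [map_add, (AdjoinRoot.mk_surjective z).choose_spec, (AdjoinRoot.mk_surjective z').choose_spec,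
        (AdjoinRoot.mk_surjective (z + z')).choose_spec]), lamTilde_add, PowerSeries.coeff_mul,
      Nat.sum_antidiagonal_eq_sum_range_succ_mk]

theorem extOps_lamSeries (q : Polynomial K) :
    @lamSeries _ _ (extOps hK he) (AdjoinRoot.mk (KRR.extPoly P e) q) = lamTilde P e q := by
  refine PowerSeries.ext fun n => ?_
  unfold LambdaRing.lamSeries
  rw [PowerSeries.coeff_mk]
  change PowerSeries.coeff n (lamTilde P e _) = _
  rw [lamTilde_congr hK he (AdjoinRoot.mk_surjective (AdjoinRoot.mk (KRR.extPoly P e) q)).choose_spec]

theorem lamTilde_mul (p q : Polynomial K) :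
    lamTilde P e (p * q) = serMul (lamTilde P e p) (lamTilde P e q) := by
  induction p using Polynomial.induction_on' with
  | add a b ha hb =>
    rw [add_mul, lamTilde_add, lamTilde_add, ha, hb,
      serMul_mul (coeff_zero_lamTilde a) (coeff_zero_lamTilde b) (coeff_zero_lamTilde q)]
  | monomial i a =>
    induction q using Polynomial.induction_on' with
    | add c d hc hd =>
      rw [mul_add, lamTilde_add, lamTilde_add, hc, hd,
        serMul_comm (coeff_zero_lamTilde _) (constantCoeff_mul_one (coeff_zero_lamTilde c) (coeff_zero_lamTilde d)),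
        serMul_mul (coeff_zero_lamTilde c) (coeff_zero_lamTilde d) (coeff_zero_lamTilde _),
        serMul_comm (coeff_zero_lamTilde (Polynomial.monomial i a)) (coeff_zero_lamTilde c),
        serMul_comm (coeff_zero_lamTilde (Polynomial.monomial i a)) (coeff_zero_lamTilde d)]
    | monomial j b =>
      rw [Polynomial.monomial_mul_monomial, lamTilde_monomial, lamTilde_monomial, lamTilde_monomial, term, term, term,
        serMul_rescale _ _ (constantCoeff_map_one _ (constantCoeff_lamSeries a))
          (constantCoeff_map_one _ (constantCoeff_lamSeries b)), ← map_serMul, ← lamSeries_mul hK, pow_add]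

end Groth.Agent.Lambda.Ext
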