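import Groth.Agent.Lambda.ExtLam
import Groth.Agent.Lambda.Det

/-!
# The positive structure of the elementary extension
-/

set_option autoImplicit false

open Finset LambdaRing

namespace Groth.Agent.Lambda.Ext

open Groth.Agent.Lambda

universe v

variable {A : Type v} [CommRing A] [LambdaOps A]

/-- `λ_t z` is a polynomial of degree `ε z ≥ 1` with unit top coefficient. -/
def PosPred (ε : A →+* ℤ) (z : A) : Prop :=
  ∃ n : ℕ, 1 ≤ n ∧ ε z = n ∧ (∀ i, n < i → LambdaOps.lam i z = 0) ∧ IsUnit (LambdaOps.lam n z)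

theorem PosPred.add {ε : A →+* ℤ} {z w : A} (hz : PosPred ε z) (hw : PosPred ε w) : PosPred ε (z + w) := by
  obtain ⟨n, hn, hεz, hz0, hzu⟩ := hz
  obtain ⟨m, hm, hεw, hw0, hwu⟩ := hw
  refine ⟨n + m, by omega, by rw [map_add, hεz, hεw]; push_cast; rfl, fun i hi => ?_, ?_⟩
  · rw [LambdaOps.lam_add]
    refine sum_eq_zero fun k hk => ?_
    rw [mem_range] at hk
    rcases Nat.lt_or_ge n k with h | h
    · rw [hz0 k h, zero_mul]
    · rw [hw0 _ (by omega), mul_zero]
  · rw [LambdaOps.lam_add, sum_eq_single n]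
    · rw [Nat.add_sub_cancel_left]; exact hzu.mul hwu
    · intro k hk hne
      rw [mem_range] at hk
      rcases Nat.lt_or_ge n k with h | h
      · rw [hz0 k h, zero_mul]
      · rw [hw0 _ (by omega), mul_zero]
    · intro h; exact absurd (mem_range.2 (by omega)) h

theorem PosPred.mul {ε : A →+* ℤ} (hmul : ∀ z w : A, lamSeries (z * w) = serMul (lamSeries z) (lamSeries w))
    {z w : A} (hz : PosPred ε z) (hw : PosPred ε w) : PosPred ε (z * w) := by
  obtain ⟨n, hn, hεz, hz0, hzu⟩ := hz
  obtain ⟨m, hm, hεw, hw0, hwu⟩ := hw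
  obtain ⟨A₁, _, g₁, hg₁, s, hs, hzs⟩ := exists_linProd n (lamSeries z) (constantCoeff_lamSeries z)
    fun i hi => by rw [coeff_lamSeries]; exact hz0 i hi
  obtain ⟨A₂, _, g₂, hg₂, t, ht, hwt⟩ := exists_linProd m (PowerSeries.map g₁ (lamSeries w))
    (constantCoeff_map_one _ (constantCoeff_lamSeries w))
    fun i hi => by rw [PowerSeries.coeff_map, coeff_lamSeries, hw0 i hi, map_zero]
  have hs' : PowerSeries.map (g₂.comp g₁) (lamSeries z) = linProd (s.map g₂) := by
    rw [PowerSeries.map_comp, RingHom.comp_apply, hzs, linProd, linProd, map_multiset_prod, Multiset.map_map,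
      Multiset.map_map]
    exact congrArg Multiset.prod (Multiset.map_congr rfl fun u _ => map_lin g₂ u)
  have hw' : PowerSeries.map (g₂.comp g₁) (lamSeries w) = linProd t := by
    rw [PowerSeries.map_comp, RingHom.comp_apply, hwt]
  have hzw : ∀ i, g₂.comp g₁ (LambdaOps.lam i (z * w)) = ((s.map g₂ ×ˢ t).map fun p => p.1 * p.2).esymm i := by
    intro i
    rw [← coeff_lamSeries, ← PowerSeries.coeff_map, hmul, map_serMul, hs', hw', serMul_linProd, coeff_linProd]
  have hcard : Multiset.card ((s.map g₂ ×ˢ t).map fun p => p.1 * p.2) = n * m := by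
    rw [Multiset.card_map, Multiset.card_product, Multiset.card_map, hs, ht]
  refine ⟨n * m, Nat.one_le_iff_ne_zero.2 (Nat.mul_ne_zero (by omega) (by omega)),
    by rw [map_mul, hεz, hεw]; push_cast; rfl, fun i hi => (hg₂.comp hg₁) ?_, ?_⟩
  · change g₂.comp g₁ _ = g₂.comp g₁ 0
    rw [hzw, map_zero, Multiset.esymm, Multiset.powersetCard_eq_empty _ (by rw [hcard]; exact hi)]
    simp
  · have h : LambdaOps.lam (n * m) (z * w) = LambdaOps.lam n z ^ m * LambdaOps.lam m w ^ n := by
      refine (hg₂.comp hg₁) ?_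
      change g₂.comp g₁ _ = g₂.comp g₁ _
      rw [hzw, ← hcard, esymm_card, prod_product_map_mul, ht, Multiset.card_map, hs, map_mul, map_pow, map_pow,
        ← coeff_lamSeries z, ← coeff_lamSeries w, ← PowerSeries.coeff_map, ← PowerSeries.coeff_map, hs', hw',
        coeff_linProd, coeff_linProd, show n = Multiset.card (s.map g₂) by rw [Multiset.card_map, hs], ← ht,
        esymm_card, esymm_card]
    rw [h]
    exact (hzu.pow m).mul (hwu.pow n)

variable {K : Type v} [CommRing K] [LambdaOps K] {P : PosStructure K} {e : K}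

/-- The augmentation of `K_e`. -/
noncomputable def extAug (hK : HasSplitting K P) (he : e ∈ P.pos) : AdjoinRoot (KRR.extPoly P e) →+* ℤ :=
  AdjoinRoot.lift P.aug 1 (by
    rw [KRR.extPoly, Polynomial.eval₂_finsetSum]
    have h : ∑ i ∈ range ((P.aug e).toNat + 1), (-1 : ℤ) ^ i * (((P.aug e).toNat.choose i : ℕ) : ℤ) = 0 := by
      rw [Int.alternating_sum_range_choose, if_neg]
      have := P.aug_pos e he
      omega
    refine (sum_congr rfl fun i _ => ?_).trans h
    rw [Polynomial.eval₂_mul, Polynomial.eval₂_C, Polynomial.eval₂_X_pow, one_pow, mul_one, map_mul, map_pow,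
      map_neg, map_one, aug_lam hK he])

theorem extAug_of (hK : HasSplitting K P) (he : e ∈ P.pos) (a : K) :
    extAug hK he (AdjoinRoot.of (KRR.extPoly P e) a) = P.aug a :=
  AdjoinRoot.lift_of _

theorem extAug_root (hK : HasSplitting K P) (he : e ∈ P.pos) :
    extAug hK he (AdjoinRoot.root (KRR.extPoly P e)) = 1 :=
  AdjoinRoot.lift_root _

theorem exists_ext (hK : HasSplitting K P) (he : e ∈ P.pos) :
    ∃ (inst : LambdaOps (AdjoinRoot (KRR.extPoly P e))) (Pe : @PosStructure _ _ inst),
      (∀ (i : ℕ) (x : K), @LambdaOps.lam _ _ inst i (AdjoinRoot.of (KRR.extPoly P e) x) =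
        AdjoinRoot.of (KRR.extPoly P e) (LambdaOps.lam i x)) ∧
      (∀ i : ℕ, 2 ≤ i → @LambdaOps.lam _ _ inst i (AdjoinRoot.root (KRR.extPoly P e)) = 0) ∧
      @IsExtension K _ _ _ _ inst P Pe (AdjoinRoot.of (KRR.extPoly P e)) ∧
      @PosStructure.IsLine _ _ inst Pe (AdjoinRoot.root (KRR.extPoly P e)) ∧
      (2 ≤ P.aug e → AdjoinRoot.of (KRR.extPoly P e) e - AdjoinRoot.root (KRR.extPoly P e) ∈
        (@PosStructure.pos _ _ inst Pe)) := by
  obtain ⟨r, hr⟩ : ∃ r : ℕ, P.aug e = r + 1 := ⟨(P.aug e).toNat - 1, by have := P.aug_pos e he; omega⟩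
  letI inst := extOps hK he
  let φ := AdjoinRoot.of (KRR.extPoly P e)
  let ℓ := AdjoinRoot.root (KRR.extPoly P e)
  let ε := extAug hK he
  have hterm : ∀ (i : ℕ) (a : K), lamSeries (φ a * ℓ ^ i) = term φ ℓ i a := fun i a => by
    rw [← lamTilde_monomial, ← extOps_lamSeries hK he, ← Polynomial.C_mul_X_pow_eq_monomial, map_mul, map_pow,
      AdjoinRoot.mk_C, AdjoinRoot.mk_X]
  have hof : ∀ (i : ℕ) (x : K), LambdaOps.lam i (φ x) = φ (LambdaOps.lam i x) := fun i x => by
    have h := congrArg (PowerSeries.coeff i) (hterm 0 x)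
    rw [pow_zero, mul_one, coeff_lamSeries, term, PowerSeries.coeff_rescale, PowerSeries.coeff_map, coeff_lamSeries,
      pow_zero, one_pow, one_mul] at h
    exact h
  have hroot : ∀ i : ℕ, 2 ≤ i → LambdaOps.lam i ℓ = 0 := fun i hi => by
    have h := congrArg (PowerSeries.coeff i) (hterm 1 1)
    rw [map_one φ, one_mul, pow_one, coeff_lamSeries, term, PowerSeries.coeff_rescale, PowerSeries.coeff_map,
      coeff_lamSeries, lam_one_of_pos P i hi, map_zero, mul_zero] at h
    exact h
  have hmul : ∀ z w : AdjoinRoot (KRR.extPoly P e),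
      lamSeries (z * w) = serMul (lamSeries z) (lamSeries w) := by
    intro z w
    obtain ⟨p, rfl⟩ := AdjoinRoot.mk_surjective z
    obtain ⟨q, rfl⟩ := AdjoinRoot.mk_surjective w
    rw [← map_mul, extOps_lamSeries hK he, extOps_lamSeries hK he, extOps_lamSeries hK he, lamTilde_mul hK he]
  have hℓu : IsUnit ℓ := by
    have h := root_rel (e := e) (P := P) hr
    rw [sum_range_succ, Nat.sub_self, pow_zero, mul_one] at h
    have hu : IsUnit (φ (cc e (r + 1))) := by
      refine IsUnit.map φ (IsUnit.mul (isUnit_one.neg.pow _) ?_)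
      have := P.isUnit_lam e he
      rwa [toNat_aug hr] at this
    rw [eq_neg_of_add_eq_zero_right h, IsUnit.neg_iff] at hu
    refine isUnit_of_dvd_unit (Finset.dvd_sum fun k hk => ?_) hu
    rw [mem_range] at hk
    exact Dvd.dvd.mul_left (dvd_pow_self ℓ (by omega)) _
  have hpos_of : ∀ a ∈ P.pos, PosPred ε (φ a) := fun a ha => by
    refine ⟨(P.aug a).toNat, by have := P.aug_pos a ha; omega, ?_, fun i hi => ?_, ?_⟩
    · rw [toNat_cast ha]; exact extAug_of hK he a
    · rw [hof, lam_eq_zero_of_toNat_lt ha hi, map_zero]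
    · rw [hof]; exact (P.isUnit_lam a ha).map φ
  have hℓpos : PosPred ε ℓ := ⟨1, le_rfl, by rw [Nat.cast_one]; exact extAug_root hK he, fun i hi => hroot i hi,
    by rw [LambdaOps.lam_one]; exact hℓu⟩
  have h1 : PosPred ε (1 : AdjoinRoot (KRR.extPoly P e)) := by
    have := hpos_of 1 (isLine_one P).1
    rwa [map_one] at this
  have hq : 2 ≤ P.aug e → PosPred ε (φ e - ℓ) := by
    intro h2
    have hlam : ∀ i, LambdaOps.lam i (φ e - ℓ) = φ ((-1) ^ i) * AdjoinRoot.mk (KRR.extPoly P e) (Sp e i) :=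
      fun i => lam_sub_root hof hroot i
    have hSp : ∀ i, AdjoinRoot.mk (KRR.extPoly P e) (Sp e (r + 1 + i)) = 0 := by
      intro i
      induction i with
      | zero => rw [Nat.add_zero, ← extPoly_eq hr]; exact AdjoinRoot.mk_self
      | succ i ih =>
        rw [← Nat.add_assoc, Sp_succ, map_add, map_mul, ih, mul_zero, zero_add, cc,
          P.lam_eq_zero e he _ (by omega), mul_zero, map_zero, map_zero]
    refine ⟨r, by omega, ?_, fun i hi => ?_, ?_⟩
    · rw [map_sub, show ε (φ e) = P.aug e from extAug_of hK he e, show ε ℓ = 1 from extAug_root hK he, hr]; ring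
    · obtain ⟨d, rfl⟩ : ∃ d, i = r + 1 + d := ⟨i - (r + 1), by omega⟩
      rw [hlam, hSp, mul_zero]
    · rw [hlam]
      refine IsUnit.mul (IsUnit.map φ (isUnit_one.neg.pow _)) ?_
      have h := hSp 0
      rw [Nat.add_zero, Sp_succ, map_add, map_mul, AdjoinRoot.mk_C, AdjoinRoot.mk_X] at h
      have hu : IsUnit (φ (cc e (r + 1))) := by
        refine IsUnit.map φ (IsUnit.mul (isUnit_one.neg.pow _) ?_)
        have := P.isUnit_lam e he
        rwa [toNat_aug hr] at this
      rw [eq_neg_of_add_eq_zero_right h, IsUnit.neg_iff] at hu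
      exact isUnit_of_mul_isUnit_right hu
  refine ⟨inst,
    { aug := ε
      aug_surjective := fun n => ⟨(n : AdjoinRoot (KRR.extPoly P e)), map_intCast ε n⟩
      pos := {z | PosPred ε z}
      add_mem := fun _ _ hz hw => hz.add hw
      mul_mem := fun _ _ hz hw => PosPred.mul hmul hz hw
      natCast_mem := fun n hn => by
        have := hpos_of (n : K) (P.natCast_mem n hn)
        rwa [map_natCast] at this
      exists_sub := fun z => by
        obtain ⟨q, rfl⟩ := AdjoinRoot.mk_surjective z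
        induction q using Polynomial.induction_on' with
        | add p q hp hq =>
          obtain ⟨a, b, ha, hb, hab⟩ := hp
          obtain ⟨c, d, hc, hd, hcd⟩ := hq
          exact ⟨a + c, b + d, ha.add hc, hb.add hd, by rw [map_add, hab, hcd]; ring⟩
        | monomial j x =>
          obtain ⟨a, b, ha, hb, rfl⟩ := P.exists_sub x
          have hj : PosPred ε (ℓ ^ j) := by
            induction j with
            | zero => rw [pow_zero]; exact h1
            | succ j ihj => rw [pow_succ]; exact PosPred.mul hmul ihj hℓpos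
          exact ⟨φ a * ℓ ^ j, φ b * ℓ ^ j, PosPred.mul hmul (hpos_of a ha) hj, PosPred.mul hmul (hpos_of b hb) hj,
            by rw [← Polynomial.C_mul_X_pow_eq_monomial, map_mul, map_pow, AdjoinRoot.mk_C, AdjoinRoot.mk_X,
              map_sub, sub_mul]⟩
      aug_pos := fun z ⟨n, hn, hε, _⟩ => by rw [hε]; omega
      lam_eq_zero := fun z ⟨n, hn, hε, h0, _⟩ i hi => h0 i (by omega)
      isUnit_lam := fun z ⟨n, hn, hε, _, hu⟩ => by rwa [hε, Int.toNat_natCast] },
    hof, hroot, ⟨fun i x => (hof i x).symm, ?_, fun x => extAug_of hK he x, hpos_of⟩,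
    ⟨hℓpos, extAug_root hK he⟩, hq⟩
  have : Nontrivial K := P.aug.domain_nontrivial
  refine (injective_iff_map_eq_zero _).2 fun a ha => ?_
  by_contra hne
  have hd : KRR.extPoly P e ∣ Polynomial.C a := by rw [← AdjoinRoot.mk_eq_zero, AdjoinRoot.mk_C]; exact ha
  rw [extPoly_eq hr] at hd
  refine (monic_Sp e (r + 1)).not_dvd_of_natDegree_lt (Polynomial.C_ne_zero.2 hne) ?_ hd
  rw [Polynomial.natDegree_C, natDegree_Sp]
  exact Nat.succ_pos r

end Groth.Agent.Lambda.Ext
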