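import Groth.Agent.Lambda.Ops
import Groth.Agent.Lambda.Universal
import Groth.Agent.Lambda.Poly
import Mathlib.RingTheory.Flat.TorsionFree
import Mathlib.RingTheory.TensorProduct.Free
import Mathlib.RingTheory.Flat.Basic

/-!
# λ-rings in the strict sense and their Adams operations
-/

set_option autoImplicit false

open Finset LambdaRing

namespace Groth.Agent.Lambda

universe u

variable {K : Type u} [CommRing K] [LambdaOps K]

/-- The first `N` values `λ^1 x, …, λ^N x`. -/
def lamVec (N : ℕ) (x : K) : Fin N → K := fun i => LambdaOps.lam ((i : ℕ) + 1) x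

theorem psi_lamVec {N k : ℕ} (x : K) (h : k ≤ N) : psi (ser (lamVec N x)) k = adamsOp k x := by
  rw [adamsOp_eq_psi]
  exact psi_ser_eq (constantCoeff_lamSeries x) (fun i => (coeff_lamSeries x _).symm) h

theorem isSpecial_of_adams [Algebra ℚ K]
    (h1 : ∀ k : ℕ, 1 ≤ k → adamsOp k (1 : K) = 1)
    (hmul : ∀ k : ℕ, 1 ≤ k → ∀ x y : K, adamsOp k (x * y) = adamsOp k x * adamsOp k y)
    (hcomp : ∀ k k' : ℕ, 1 ≤ k → 1 ≤ k' → ∀ x : K, adamsOp k (adamsOp k' x) = adamsOp (k * k') x) :
    IsSpecial K where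
  lam_one_eq_zero n hn := by
    have e : lamSeries (1 : K) = lin 1 := by
      refine ext_psi (constantCoeff_lamSeries _) (constantCoeff_lin _) fun k => ?_
      rw [← adamsOp_eq_psi, h1 _ (by omega), psi_lin, one_pow]
    obtain ⟨m, rfl⟩ : ∃ m, n = m + 2 := ⟨n - 2, by omega⟩
    rw [← coeff_lamSeries, e]
    simp [lin, PowerSeries.coeff_X]
  lam_mul n P hP x y := by
    have key := aeval_mulPoly hP le_rfl (lamVec n x) (lamVec n y)
    simp only [Fin.castLE_refl] at key
    refine Eq.trans ?_ key.symm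
    rw [lam_eq_fc, cmul]
    exact fc_congr _ _ _ fun k hk => by
      rw [psi_lamVec x (by omega), psi_lamVec y (by omega), hmul _ (by omega)]
  lam_lam i j Q hQ x := by
    have key := aeval_compPoly hQ le_rfl (lamVec (i * j) x)
    simp only [Fin.castLE_refl] at key
    refine Eq.trans ?_ key.symm
    rw [lam_eq_fc, ccomp]
    refine fc_congr _ _ _ fun k hk => ?_
    let f : K →+* K :=
      { adamsHom (k + 1) with
        map_one' := h1 (k + 1) (Nat.succ_pos k)
        map_mul' := hmul (k + 1) (Nat.succ_pos k) }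
    have hf : adamsOp (k + 1) (LambdaOps.lam i x) = f (LambdaOps.lam i x) := rfl
    rw [hf, lam_eq_fc, map_fc]
    refine fc_congr _ _ _ fun m hm => ?_
    rw [psi_lamVec x (Nat.mul_le_mul hm hk)]
    change adamsOp (k + 1) (adamsOp (m + 1) x) = _
    rw [hcomp _ _ (by omega) (by omega), mul_comm]

theorem adamsOp_one_of_special (hK : IsSpecial K) (k : ℕ) : adamsOp (k + 1) (1 : K) = 1 := by
  rw [adamsOp_of_linear hK.lam_one_eq_zero, one_pow]

open MvPolynomial in
theorem adamsOp_mul_of_special (hK : IsSpecial K) (k : ℕ) (x y : K) :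
    adamsOp k (x * y) = adamsOp k x * adamsOp k y := by
  choose P hP using exists_isMulPoly
  let v (m : ℕ) (h : m ≤ k) : Fin m ⊕ Fin m → Fin k ⊕ Fin k := Sum.map (Fin.castLE h) (Fin.castLE h)
  let d : Fin k → MvPolynomial (Fin k ⊕ Fin k) ℤ := fun i => rename (v _ i.2) (P ((i : ℕ) + 1))
  have hZ : psi (ser d) k =
      psi (ser fun i : Fin k => (X (Sum.inl i) : MvPolynomial (Fin k ⊕ Fin k) ℤ)) k *
      psi (ser fun i : Fin k => (X (Sum.inr i) : MvPolynomial (Fin k ⊕ Fin k) ℤ)) k := by
    refine toQ_injective _ ?_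
    rw [map_mul, map_psi_ser, map_psi_ser, map_psi_ser]
    simp only [toQ, map_X]
    set a : Fin k → MvPolynomial (Fin k ⊕ Fin k) ℚ := fun i => X (Sum.inl i)
    set b : Fin k → MvPolynomial (Fin k ⊕ Fin k) ℚ := fun i => X (Sum.inr i)
    rcases k with _ | k
    · simp [psi]
    refine Eq.trans (psi_ser_eq (constantCoeff_fromPsi fun m => psi (ser a) m * psi (ser b) m)
      (fun i => ?_) le_rfl) (psi_fromPsi _ _)
    rw [fromPsi, PowerSeries.coeff_mk]
    refine Eq.trans ?_ (aeval_mulPoly (hP ((i : ℕ) + 1)) i.2 a b)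
    change MvPolynomial.map (algebraMap ℤ ℚ) (rename (v _ i.2) (P ((i : ℕ) + 1))) = _
    rw [map_rename, ← aeval_map_algebraMap ℚ]
    refine AlgHom.congr_fun (φ₁ := rename (v _ i.2)) (algHom_ext fun j => ?_) _
    cases j <;> simp [v, a, b]
  let g := (aeval (Sum.elim (lamVec k x) (lamVec k y)) : MvPolynomial (Fin k ⊕ Fin k) ℤ →ₐ[ℤ] K).toRingHom
  have := congrArg g hZ
  rw [map_mul, map_psi_ser, map_psi_ser, map_psi_ser] at this
  simp only [g, AlgHom.toRingHom_eq_coe, RingHom.coe_coe, aeval_X, Sum.elim_inl, Sum.elim_inr] at this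
  rw [psi_lamVec x le_rfl, psi_lamVec y le_rfl] at this
  rw [← this, ← psi_lamVec (x * y) le_rfl]
  congr 2
  funext i
  rw [lamVec, hK.lam_mul _ _ (hP ((i : ℕ) + 1)) x y]
  simp only [d, aeval_rename]
  congr 2
  funext j
  cases j <;> rfl

/-- For a λ-ring in the strict sense, `ψ^k` (`k ≥ 1`) as a ring endomorphism. -/
noncomputable def adamsRingHom (hK : IsSpecial K) (k : ℕ) : K →+* K :=
  { adamsHom (k + 1) with
    map_one' := adamsOp_one_of_special hK k
    map_mul' := adamsOp_mul_of_special hK (k + 1) }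

theorem adamsRingHom_apply (hK : IsSpecial K) (k : ℕ) (x : K) :
    adamsRingHom hK k x = adamsOp (k + 1) x := rfl

open MvPolynomial in
theorem adamsOp_adamsOp_of_special (hK : IsSpecial K) (k k' : ℕ) (hk : 1 ≤ k) (hk' : 1 ≤ k') (x : K) :
    adamsOp k (adamsOp k' x) = adamsOp (k * k') x := by
  choose Q hQ using exists_isCompPoly
  obtain ⟨l, rfl⟩ : ∃ l, k = l + 1 := ⟨k - 1, by omega⟩
  obtain ⟨l', rfl⟩ : ∃ l', k' = l' + 1 := ⟨k' - 1, by omega⟩
  have hle : ∀ (i : Fin (l' + 1)) (j : Fin (l + 1)), ((i : ℕ) + 1) * ((j : ℕ) + 1) ≤ (l + 1) * (l' + 1) :=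
    fun i j => (Nat.mul_le_mul i.2 j.2).trans (mul_comm _ _).le
  let d : Fin (l' + 1) → Fin (l + 1) → MvPolynomial (Fin ((l + 1) * (l' + 1))) ℤ :=
    fun i j => rename (Fin.castLE (hle i j)) (Q ((i : ℕ) + 1) ((j : ℕ) + 1))
  let e : Fin (l' + 1) → MvPolynomial (Fin ((l + 1) * (l' + 1))) ℤ := fun i => psi (ser (d i)) (l + 1)
  have hZ : psi (ser e) (l' + 1) =
      psi (ser fun i => (X i : MvPolynomial (Fin ((l + 1) * (l' + 1))) ℤ)) ((l + 1) * (l' + 1)) := by
    refine toQ_injective _ ?_
    rw [map_psi_ser, map_psi_ser]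
    simp only [e, map_psi_ser]
    simp only [toQ, map_X]
    set a : Fin ((l + 1) * (l' + 1)) → MvPolynomial (Fin ((l + 1) * (l' + 1))) ℚ := fun i => X i
    refine Eq.trans (psi_ser_eq (constantCoeff_fromPsi fun m => psi (ser a) (m * (l + 1)))
      (fun i => ?_) le_rfl) ?_
    · rw [fromPsi, PowerSeries.coeff_mk]
      refine Eq.trans (psi_ser_eq
        (constantCoeff_fromPsi fun k => fc (fun m => psi (ser a) (m * k)) ((i : ℕ) + 1)) (fun j => ?_) le_rfl)
        (psi_fromPsi _ _)
      rw [fromPsi, PowerSeries.coeff_mk]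
      refine Eq.trans ?_ (aeval_compPoly (hQ ((i : ℕ) + 1) ((j : ℕ) + 1)) (hle i j) a)
      change MvPolynomial.map (algebraMap ℤ ℚ) (rename (Fin.castLE (hle i j)) (Q ((i : ℕ) + 1) ((j : ℕ) + 1))) = _
      rw [map_rename, ← aeval_map_algebraMap ℚ]
      refine AlgHom.congr_fun (φ₁ := rename (Fin.castLE (hle i j))) (algHom_ext fun m => ?_) _
      simp [a]
    · exact (psi_fromPsi _ _).trans (congrArg (psi (ser a)) (mul_comm _ _))
  let g := (aeval (lamVec ((l + 1) * (l' + 1)) x) :
    MvPolynomial (Fin ((l + 1) * (l' + 1))) ℤ →ₐ[ℤ] K).toRingHom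
  have := congrArg g hZ
  rw [map_psi_ser, map_psi_ser] at this
  simp only [e, map_psi_ser] at this
  simp only [g, AlgHom.toRingHom_eq_coe, RingHom.coe_coe, aeval_X] at this
  rw [psi_lamVec x le_rfl] at this
  rw [← this, ← adamsRingHom_apply hK, ← psi_lamVec x (le_refl (l' + 1)), map_psi_ser]
  congr 2
  funext i
  change adamsOp (l + 1) (LambdaOps.lam ((i : ℕ) + 1) x) = _
  rw [← psi_lamVec _ (le_refl (l + 1))]
  congr 2
  funext j
  rw [lamVec, hK.lam_lam _ _ _ (hQ ((i : ℕ) + 1) ((j : ℕ) + 1)) x]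
  simp only [d, aeval_rename]
  rfl

theorem isSpecial_of_injective {K' : Type u} [CommRing K'] [LambdaOps K'] (f : K →+* K')
    (hf : IsLambdaHom f) (hinj : Function.Injective f) (h : IsSpecial K') : IsSpecial K where
  lam_one_eq_zero n hn := hinj (by rw [hf, map_one, map_zero, h.lam_one_eq_zero n hn])
  lam_mul n P hP x y := hinj (by
    rw [hf, map_mul, h.lam_mul n P hP]
    refine Eq.trans ?_ (AlgHom.congr_fun (MvPolynomial.comp_aeval _ f.toIntAlgHom) P).symm
    congr 2
    funext i
    cases i <;> simp [hf _ _, RingHom.toIntAlgHom])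
  lam_lam i j Q hQ x := hinj (by
    rw [hf, hf, h.lam_lam i j Q hQ]
    refine Eq.trans ?_ (AlgHom.congr_fun (MvPolynomial.comp_aeval _ f.toIntAlgHom) Q).symm
    congr 2
    funext m
    simp [hf _ _, RingHom.toIntAlgHom])

attribute [local instance] BinomialRing.toIsAddTorsionFree in
theorem adamsOp_of_binomial [BinomialRing K] (hKb : IsBinomial K) (k : ℕ) (x : K) :
    adamsOp (k + 1) x = x := by
  have rec_ : ∀ n : ℕ, Ring.choose x (n + 1) * ((n : K) + 1) = (x - n) * Ring.choose x n := by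
    intro n
    refine nsmul_right_injective (Nat.factorial_ne_zero n) ?_
    simp only [nsmul_eq_mul]
    have e0 := Ring.descPochhammer_eq_factorial_smul_choose x (n + 1)
    have e1 := Ring.descPochhammer_eq_factorial_smul_choose x n
    rw [descPochhammer_succ_right, Polynomial.smeval_mul, e1] at e0
    simp only [nsmul_eq_mul, Polynomial.smeval_sub, Polynomial.smeval_X, Polynomial.smeval_natCast,
      pow_one, pow_zero, Nat.factorial_succ, Nat.cast_mul, Nat.cast_succ, mul_one] at e0
    linear_combination -e0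
  rw [adamsOp_eq_psi]
  refine psi_succ_eq (constantCoeff_lamSeries x) (fun _ => x) (fun n => ?_) k
  simp only [coeff_lamSeries, hKb _ x]
  induction n with
  | zero => simp [Ring.choose_one_right]
  | succ n ih =>
    rw [sum_range_succ' (n := n + 1)]
    have h2 : ∀ m ∈ range (n + 1),
        (-1 : K) ^ (m + 1) * x * Ring.choose x (n + 1 - (m + 1)) = -((-1) ^ m * x * Ring.choose x (n - m)) := by
      intro m _
      rw [Nat.succ_sub_succ, pow_succ]
      ring
    rw [sum_congr rfl h2, sum_neg_distrib, ← ih, rec_ (n + 1)]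
    simp only [Nat.sub_zero, pow_zero]
    push_cast
    ring

theorem lambdaOps_ext {L L' : LambdaOps K} (h : L.lam = L'.lam) : L = L' := by
  cases L
  cases L'
  cases h
  rfl

theorem exists_lambdaOps_rat (K : Type u) [CommRing K] [Algebra ℚ K]
    (ψ : ℕ → K →+ K) (hψ : ψ 1 = AddMonoidHom.id K) :
    ∃! L : LambdaOps K, ∀ k : ℕ, 1 ≤ k → ∀ x : K, @adamsOp K _ L k x = ψ k x := by
  let L : LambdaOps K :=
    { lam := fun n x => fc (fun k => ψ k x) n
      lam_zero := fun x => fc_zero _
      lam_one := fun x => by simp [fc_succ, fc_zero, hψ]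
      lam_add := fun k x y => by
        have e : (fun j => ψ j (x + y)) = (fun j => ψ j x) + fun j => ψ j y := funext fun j => map_add _ x y
        have h := congrArg (PowerSeries.coeff k) (fromPsi_add (fun j => ψ j x) fun j => ψ j y)
        rw [← e, PowerSeries.coeff_mul, Finset.Nat.sum_antidiagonal_eq_sum_range_succ_mk] at h
        simpa [fromPsi] using h }
  refine ⟨L, fun k hk x => ?_, fun L' hL' => ?_⟩
  · obtain ⟨m, rfl⟩ : ∃ m, k = m + 1 := ⟨k - 1, by omega⟩
    exact psi_fromPsi (fun j => ψ j x) m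
  · refine lambdaOps_ext ?_
    funext n x
    rw [@lam_eq_fc K _ L' _ n x]
    exact fc_congr _ _ n fun i _ => hL' (i + 1) (by omega) x

attribute [local instance] BinomialRing.toIsAddTorsionFree in
theorem isSpecial_of_binomial [BinomialRing K] (hKb : IsBinomial K) : IsSpecial K := by
  have : Module.Flat ℤ K := by
    have : IsAddTorsionFree K := inferInstance
    exact inferInstance
  let Q := TensorProduct ℤ ℚ K
  obtain ⟨L, hL, -⟩ := exists_lambdaOps_rat Q (fun _ => AddMonoidHom.id Q) rfl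
  letI := L
  let f : K →+* Q := (Algebra.TensorProduct.includeRight : K →ₐ[ℤ] Q).toRingHom
  have hinj : Function.Injective f :=
    Algebra.TensorProduct.includeRight_injective Int.cast_injective
  have hf : IsLambdaHom f := fun i x => by
    have : PowerSeries.map f (lamSeries x) = lamSeries (f x) := by
      refine ext_psi ?_ (constantCoeff_lamSeries _) fun k => ?_
      · rw [← PowerSeries.coeff_zero_eq_constantCoeff_apply, PowerSeries.coeff_map]
        simp [LambdaOps.lam_zero]
      · rw [← psi_map f (constantCoeff_lamSeries x), ← adamsOp_eq_psi, ← adamsOp_eq_psi,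
          adamsOp_of_binomial hKb, hL (k + 1) (by omega)]
        rfl
    simpa using congrArg (PowerSeries.coeff i) this
  refine isSpecial_of_injective f hf hinj (isSpecial_of_adams (fun k hk => ?_) (fun k hk a b => ?_)
    fun k k' hk hk' a => ?_)
  · exact hL k hk 1
  · rw [hL k hk, hL k hk, hL k hk]; rfl
  · rw [hL k hk, hL k' hk', hL (k * k') (Nat.one_le_iff_ne_zero.2 (by positivity))]; rfl

end Groth.Agent.Lambda
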