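import Groth.Agent.Lambda.GammaPsi
import Groth.Agent.Lambda.Special

/-!
# The free λ-ring on a set of generators, in γ-coordinates

`FQ σ = ℚ[Y_(s,n)]`, `Y_(s,n) = γ^(n+1)(x_s)`; the integral form `FZ σ` is closed under the `λ^i` and has the
universal property `evZ_lam` among λ-rings in the strict sense.
-/

set_option autoImplicit false

open Finset LambdaRing MvPolynomial

namespace Groth.Agent.Lambda.Free

open Groth.Agent.Lambda

/-- `ℚ[Y_(s,n)]`. -/
abbrev FQ (σ : Type) : Type := MvPolynomial (σ × ℕ) ℚ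

/-- `ℤ[Y_(s,n)]`. -/
abbrev FZ (σ : Type) : Type := MvPolynomial (σ × ℕ) ℤ

variable {σ : Type}

/-- `γ_t(x_s)`. -/
noncomputable def G (s : σ) : PowerSeries (FQ σ) :=
  PowerSeries.mk fun n => match n with
    | 0 => 1
    | n + 1 => X (s, n)

@[simp] theorem constantCoeff_G (s : σ) : PowerSeries.constantCoeff (G s) = 1 := by
  rw [← PowerSeries.coeff_zero_eq_constantCoeff_apply, G, PowerSeries.coeff_mk]

theorem coeff_G (s : σ) (n : ℕ) : PowerSeries.coeff (n + 1) (G s) = X (s, n) := by simp [G]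

/-- `π_k(x_s)`. -/
noncomputable def pi' (s : σ) (k : ℕ) : FQ σ := psi (G s) k

/-- `ψ^j(x_s)`. -/
noncomputable def psx (s : σ) (j : ℕ) : FQ σ := ∑ k ∈ range (j + 1), (j.choose k : FQ σ) * pi' s k

/-- `ψ^j(π_k(x_s))`. -/
noncomputable def psiPi (j : ℕ) (s : σ) (k : ℕ) : FQ σ :=
  ∑ l ∈ range (k + 1), (-1 : FQ σ) ^ (k - l) * (k.choose l : FQ σ) * psx s (j * l)

/-- `ψ^j`. -/
noncomputable def Psi (j : ℕ) : FQ σ →ₐ[ℚ] FQ σ := aeval fun v : σ × ℕ => fc (psiPi j v.1) (v.2 + 1)

theorem psx_zero (s : σ) : psx s 0 = 0 := by simp [psx, pi', psi]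

theorem Psi_pi (j : ℕ) (s : σ) (k : ℕ) : Psi j (pi' s k) = psiPi j s k := by
  rcases k with _ | k
  · simp [pi', psi, psiPi, psx_zero]
  have h : PowerSeries.map (Psi j).toRingHom (G s) = fromPsi (psiPi j s) := by
    ext n
    rcases n with _ | n
    · simp
    · rw [PowerSeries.coeff_map, coeff_G, fromPsi, PowerSeries.coeff_mk]
      simp [Psi]
  exact (psi_map (Psi j).toRingHom (constantCoeff_G s) (k + 1)).trans (by rw [h, psi_fromPsi])

theorem pi_eq (s : σ) (k : ℕ) :
    pi' s k = ∑ l ∈ range (k + 1), (-1 : FQ σ) ^ (k - l) * (k.choose l : FQ σ) * psx s l :=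
  (binom_inv' (pi' s) k).symm

theorem Psi_psx (j : ℕ) (s : σ) (i : ℕ) : Psi j (psx s i) = psx s (j * i) := by
  simp only [psx, map_sum, map_mul, map_natCast, Psi_pi, psiPi]
  exact binom_inv (fun l => psx s (j * l)) i

theorem X_eq_fc (s : σ) (n : ℕ) : (X (s, n) : FQ σ) = fc (pi' s) (n + 1) := by
  rw [← coeff_G]
  conv_lhs => rw [← fromPsi_psi (constantCoeff_G s)]
  simp [fromPsi, pi']
  rfl

theorem algHom_ext_pi {A : Type*} [CommRing A] [Algebra ℚ A] {f g : FQ σ →ₐ[ℚ] A}
    (h : ∀ s k, f (pi' s k) = g (pi' s k)) : f = g := by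
  refine MvPolynomial.algHom_ext fun v => ?_
  rw [X_eq_fc, ← AlgHom.coe_toRingHom, ← AlgHom.coe_toRingHom, map_fc, map_fc]
  simp only [AlgHom.coe_toRingHom, h]

theorem Psi_comp (a b : ℕ) : (Psi a).comp (Psi b) = Psi (σ := σ) (a * b) := by
  refine algHom_ext_pi fun s k => ?_
  rw [AlgHom.comp_apply, Psi_pi, Psi_pi, psiPi, psiPi, map_sum]
  refine sum_congr rfl fun l _ => ?_
  rw [map_mul, map_mul, map_pow, map_neg, map_one, map_natCast, Psi_psx, mul_assoc a b l]

theorem Psi_one : Psi (σ := σ) 1 = AlgHom.id ℚ (FQ σ) := by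
  refine algHom_ext_pi fun s k => ?_
  rw [Psi_pi, psiPi, AlgHom.id_apply]
  simp only [one_mul]
  exact (pi_eq s k).symm

/-- The family of Adams operations (index `0` is irrelevant). -/
noncomputable def psiFam (σ : Type) (k : ℕ) : FQ σ →+ FQ σ := (Psi k).toRingHom.toAddMonoidHom

theorem psiFam_one (σ : Type) : psiFam σ 1 = AddMonoidHom.id (FQ σ) := by
  ext x
  simp [psiFam, Psi_one]

/-- The λ-structure of `FQ σ`. -/
noncomputable scoped instance opsQ : LambdaOps (FQ σ) :=
  (exists_lambdaOps_rat (FQ σ) (psiFam σ) (psiFam_one σ)).exists.choose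

theorem adamsOp_eq (k : ℕ) (f : FQ σ) : adamsOp (k + 1) f = Psi (k + 1) f :=
  (exists_lambdaOps_rat (FQ σ) (psiFam σ) (psiFam_one σ)).exists.choose_spec (k + 1) (by omega) f

theorem isSpecialQ : IsSpecial (FQ σ) :=
  isSpecial_of_adams
    (fun k hk => by obtain ⟨m, rfl⟩ : ∃ m, k = m + 1 := ⟨k - 1, by omega⟩; rw [adamsOp_eq, map_one])
    (fun k hk x y => by
      obtain ⟨m, rfl⟩ : ∃ m, k = m + 1 := ⟨k - 1, by omega⟩
      rw [adamsOp_eq, adamsOp_eq, adamsOp_eq, map_mul])
    (fun k k' hk hk' x => by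
      obtain ⟨m, rfl⟩ : ∃ m, k = m + 1 := ⟨k - 1, by omega⟩
      obtain ⟨m', rfl⟩ : ∃ m', k' = m' + 1 := ⟨k' - 1, by omega⟩
      have : (m + 1) * (m' + 1) = (m + 1) * m' + m + 1 := by ring
      rw [adamsOp_eq, adamsOp_eq, this, adamsOp_eq, ← this, ← AlgHom.comp_apply, Psi_comp])

theorem adamsOp_X0 (s : σ) (k : ℕ) : adamsOp k (X (s, 0) : FQ σ) = psx s k := by
  rcases k with _ | k
  · simp [psx_zero]
  have h : (X (s, 0) : FQ σ) = psx s 1 := by
    simp [psx, pi', sum_range_succ, psi_one_eq (constantCoeff_G s), coeff_G]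
    simp [psi]
  rw [adamsOp_eq, h, Psi_psx, mul_one]

theorem gammaSeries_X0 (s : σ) : gammaSeries (X (s, 0) : FQ σ) = G s := by
  refine ext_psi ?_ (constantCoeff_G s) fun k => ?_
  · rw [← PowerSeries.coeff_zero_eq_constantCoeff_apply, coeff_gammaSeries, gamma_zero]
  rw [psi_gammaSeries]
  simp only [adamsOp_X0]
  exact (pi_eq s (k + 1)).symm

theorem gamma_X0 (s : σ) (n : ℕ) : gamma (n + 1) (X (s, 0) : FQ σ) = X (s, n) := by
  rw [← coeff_gammaSeries, gammaSeries_X0, coeff_G]

theorem range_aeval_subset {τ : Type*} (P : MvPolynomial τ ℤ) (f : τ → FQ σ)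
    (hf : ∀ t, f t ∈ (toQ (σ × ℕ)).range) : aeval f P ∈ (toQ (σ × ℕ)).range := by
  choose g hg using hf
  refine ⟨aeval g P, ?_⟩
  rw [← funext hg]
  exact MvPolynomial.comp_aeval_apply g (toQ (σ × ℕ)).toIntAlgHom P

theorem lam_neg_eq {K : Type*} [CommRing K] [LambdaOps K] (n : ℕ) (x : K) :
    LambdaOps.lam (n + 1) (-x) =
      -∑ i ∈ range (n + 1), LambdaOps.lam (i + 1) x * LambdaOps.lam (n - i) (-x) := by
  have h := LambdaOps.lam_add (n + 1) x (-x)
  rw [add_neg_cancel, sum_range_succ', LambdaOps.lam_zero, one_mul, Nat.sub_zero] at h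
  have h0 : LambdaOps.lam (n + 1) (0 : K) = 0 := by
    rw [← coeff_lamSeries, lamSeries_zero, PowerSeries.coeff_one, if_neg (Nat.succ_ne_zero n)]
  rw [h0] at h
  simp only [Nat.add_sub_add_right] at h
  exact eq_neg_of_add_eq_zero_right h.symm

theorem lam_X0_mem (s : σ) (n : ℕ) : LambdaOps.lam n (X (s, 0) : FQ σ) ∈ (toQ (σ × ℕ)).range := by
  rcases n with _ | n
  · rw [LambdaOps.lam_zero]; exact one_mem _
  rw [lam_eq_sum_gamma]
  refine Subring.sum_mem _ fun j _ => mul_mem (mul_mem (pow_mem (neg_mem (one_mem _)) _) (natCast_mem _ _)) ?_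
  rw [gamma_X0]
  exact ⟨X (s, j), map_X _ _⟩

/-- The elements all of whose `λ^n` are integral form a subring. -/
noncomputable def integralSub (σ : Type) : Subring (FQ σ) where
  carrier := {f | ∀ n, LambdaOps.lam n f ∈ (toQ (σ × ℕ)).range}
  zero_mem' n := by
    rw [← coeff_lamSeries, lamSeries_zero, PowerSeries.coeff_one]
    split_ifs
    · exact one_mem _
    · exact zero_mem _
  one_mem' n := by
    rcases n with _ | _ | n
    · rw [LambdaOps.lam_zero]; exact one_mem _
    · rw [LambdaOps.lam_one]; exact one_mem _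
    · rw [isSpecialQ.lam_one_eq_zero _ (by omega)]; exact zero_mem _
  add_mem' {a b} ha hb n := by
    rw [LambdaOps.lam_add]
    exact Subring.sum_mem _ fun i _ => mul_mem (ha i) (hb _)
  neg_mem' {a} ha n := by
    induction n using Nat.strong_induction_on with
    | _ n ih =>
      rcases n with _ | n
      · rw [LambdaOps.lam_zero]; exact one_mem _
      rw [lam_neg_eq]
      exact neg_mem (Subring.sum_mem _ fun i hi => mul_mem (ha _) (ih _ (by omega)))
  mul_mem' {a b} ha hb n := by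
    obtain ⟨P, hP⟩ := exists_isMulPoly n
    rw [isSpecialQ.lam_mul n P hP]
    exact range_aeval_subset P _ fun t => by cases t <;> simp [ha _, hb _]

theorem lam_toQ_mem (n : ℕ) (f : FZ σ) : LambdaOps.lam n (toQ (σ × ℕ) f) ∈ (toQ (σ × ℕ)).range := by
  have hX : ∀ v : σ × ℕ, (X v : FQ σ) ∈ integralSub σ := by
    rintro ⟨s, m⟩
    have hl : ∀ i, LambdaOps.lam i (X (s, 0) : FQ σ) ∈ integralSub σ := fun i j => by
      obtain ⟨Q, hQ⟩ := exists_isCompPoly i j
      rw [isSpecialQ.lam_lam i j Q hQ]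
      exact range_aeval_subset Q _ fun t => lam_X0_mem s _
    rw [← gamma_X0, gamma_succ]
    exact Subring.sum_mem _ fun j _ => mul_mem (natCast_mem _ _) (hl _)
  suffices h : toQ (σ × ℕ) f ∈ integralSub σ from h n
  induction f using MvPolynomial.induction_on with
  | C r => rw [toQ, map_C, eq_intCast, map_intCast]; exact intCast_mem _ _
  | add p q hp hq => rw [map_add]; exact add_mem hp hq
  | mul_X p v hp => rw [map_mul, map_X]; exact mul_mem hp (hX v)

/-- `λ^n` on the integral form. -/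
noncomputable def lamZ (n : ℕ) (f : FZ σ) : FZ σ := (lam_toQ_mem n f).choose

theorem toQ_lamZ (n : ℕ) (f : FZ σ) : toQ (σ × ℕ) (lamZ n f) = LambdaOps.lam n (toQ (σ × ℕ) f) :=
  (lam_toQ_mem n f).choose_spec

/-- The λ-structure of `FZ σ`. -/
noncomputable scoped instance opsZ : LambdaOps (FZ σ) where
  lam := lamZ
  lam_zero f := toQ_injective _ (by rw [toQ_lamZ, LambdaOps.lam_zero, map_one])
  lam_one f := toQ_injective _ (by rw [toQ_lamZ, LambdaOps.lam_one])
  lam_add k f g := toQ_injective _ (by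
    rw [toQ_lamZ, map_add, LambdaOps.lam_add, map_sum]
    simp only [map_mul, toQ_lamZ])

theorem isLambdaHom_toQ : IsLambdaHom (toQ (σ × ℕ)) := fun i f => toQ_lamZ i f

theorem isSpecialZ : IsSpecial (FZ σ) :=
  isSpecial_of_injective (toQ (σ × ℕ)) isLambdaHom_toQ (toQ_injective _) isSpecialQ

theorem toQ_gamma (n : ℕ) (f : FZ σ) : toQ (σ × ℕ) (gamma n f) = gamma n (toQ (σ × ℕ) f) := by
  rcases n with _ | n
  · simp
  · simp only [gamma_succ, map_sum, map_mul, map_natCast, isLambdaHom_toQ _ _]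

theorem gammaZ_X0 (s : σ) (n : ℕ) : gamma (n + 1) (X (s, 0) : FZ σ) = X (s, n) := by
  refine toQ_injective _ ?_
  rw [toQ_gamma, toQ, map_X, map_X, gamma_X0]

section ev

variable {A : Type*} [CommRing A] [LambdaOps A]

/-- Evaluation `Y_(s,n) ↦ γ^(n+1)(x_s)`. -/
noncomputable def evZ (x : σ → A) : FZ σ →+* A :=
  (aeval fun v : σ × ℕ => gamma (v.2 + 1) (x v.1) : FZ σ →ₐ[ℤ] A).toRingHom

theorem evZ_X (x : σ → A) (s : σ) (n : ℕ) : evZ x (X (s, n)) = gamma (n + 1) (x s) := by
  simp [evZ]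

theorem evZ_lam (hA : IsSpecial A) (x : σ → A) (n : ℕ) (f : FZ σ) :
    evZ x (LambdaOps.lam n f) = LambdaOps.lam n (evZ x f) := by
  let T : Subring (FZ σ) :=
    { carrier := {f | ∀ n, evZ x (LambdaOps.lam n f) = LambdaOps.lam n (evZ x f)}
      zero_mem' := fun n => by
        rw [map_zero, ← coeff_lamSeries, ← coeff_lamSeries (K := A), lamSeries_zero, lamSeries_zero,
          PowerSeries.coeff_one, PowerSeries.coeff_one]
        split_ifs <;> simp
      one_mem' := fun n => by
        rcases n with _ | _ | n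
        · simp [LambdaOps.lam_zero]
        · simp [LambdaOps.lam_one]
        · rw [isSpecialZ.lam_one_eq_zero _ (by omega), map_one, hA.lam_one_eq_zero _ (by omega), map_zero]
      add_mem' := fun {a b} ha hb n => by
        rw [map_add, LambdaOps.lam_add, LambdaOps.lam_add, map_sum]
        simp only [map_mul, ha _, hb _]
      neg_mem' := fun {a} ha n => by
        induction n using Nat.strong_induction_on with
        | _ n ih =>
          rcases n with _ | n
          · simp [LambdaOps.lam_zero]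
          rw [lam_neg_eq, map_neg, map_neg, lam_neg_eq, map_sum]
          refine congrArg _ (sum_congr rfl fun i hi => ?_)
          rw [map_mul, ha, ih _ (by omega), map_neg]
      mul_mem' := fun {a b} ha hb n => by
        obtain ⟨P, hP⟩ := exists_isMulPoly n
        rw [map_mul, isSpecialZ.lam_mul n P hP, hA.lam_mul n P hP, ← (evZ x).toIntAlgHom_apply,
          MvPolynomial.comp_aeval_apply]
        congr 2
        funext t
        cases t <;> simp [ha _, hb _] }
  have hx : ∀ s i, evZ x (LambdaOps.lam i (X (s, 0) : FZ σ)) = LambdaOps.lam i (x s) := fun s i => by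
    rcases i with _ | i
    · simp [LambdaOps.lam_zero]
    · rw [lam_eq_sum_gamma, lam_eq_sum_gamma, map_sum]
      simp only [map_mul, map_pow, map_neg, map_one, map_natCast, gammaZ_X0, evZ_X]
  have hl : ∀ s i, LambdaOps.lam i (X (s, 0) : FZ σ) ∈ T := fun s i j => by
    obtain ⟨Q, hQ⟩ := exists_isCompPoly i j
    rw [isSpecialZ.lam_lam i j Q hQ, hx, hA.lam_lam i j Q hQ, ← (evZ x).toIntAlgHom_apply,
      MvPolynomial.comp_aeval_apply]
    congr 2
    funext t
    exact hx s _
  suffices h : f ∈ T from h n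
  induction f using MvPolynomial.induction_on with
  | C r => rw [eq_intCast (MvPolynomial.C : ℤ →+* FZ σ)]; exact intCast_mem _ _
  | add p q hp hq => exact add_mem hp hq
  | mul_X p v hp =>
    refine mul_mem hp ?_
    obtain ⟨s, m⟩ := v
    rw [← gammaZ_X0, gamma_succ]
    exact Subring.sum_mem _ fun j _ => mul_mem (natCast_mem _ _) (hl s _)

theorem evZ_gamma (hA : IsSpecial A) (x : σ → A) (n : ℕ) (f : FZ σ) :
    evZ x (gamma n f) = gamma n (evZ x f) := by
  rcases n with _ | n
  · simp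
  · simp only [gamma_succ, map_sum, map_mul, map_natCast, evZ_lam hA]

end ev

end Groth.Agent.Lambda.Free
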