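import Groth.Agent.Lambda.Free
import Groth.Agent.Lambda.Fil
import Mathlib.RingTheory.Polynomial.Pochhammer

/-!
# γ-weights in the free λ-ring

For `y` of weight `≥ m ≥ 1`: `γ^p y` has weight `≥ p` and `≥ m`, and
`γ^m y ≡ (-1)^(m-1) (m-1)! y` modulo weight `> m`.
-/

set_option autoImplicit false

open Finset LambdaRing

namespace Groth.Agent.Lambda.Free

open Groth.Agent.Lambda

variable {σ : Type}

/-- The binomial polynomial. -/
noncomputable def bp (i : ℕ) : Polynomial ℚ :=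
  Polynomial.C (1 / (i.factorial : ℚ)) * descPochhammer ℚ i

theorem eval_bp (i n : ℕ) : (bp i).eval (n : ℚ) = (n.choose i : ℚ) := by
  rw [bp, Polynomial.eval_C_mul, descPochhammer_eval_eq_descFactorial, Nat.descFactorial_eq_factorial_mul_choose,
    Nat.cast_mul, one_div, ← mul_assoc, inv_mul_cancel₀ (by exact_mod_cast Nat.factorial_ne_zero i), one_mul]

theorem natDegree_bp_le (i : ℕ) : (bp i).natDegree ≤ i :=
  (Polynomial.natDegree_C_mul_le _ _).trans (descPochhammer_natDegree ℚ i).le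

theorem coeff_bp (i : ℕ) : (bp i).coeff i = 1 / (i.factorial : ℚ) := by
  rw [bp, Polynomial.coeff_C_mul]
  have h := (monic_descPochhammer ℚ i).coeff_natDegree
  rw [descPochhammer_natDegree] at h
  rw [h, mul_one]

/-- `J ↦ C(lJ, i)`. -/
noncomputable def bpl (l i : ℕ) : Polynomial ℚ := (bp i).comp (Polynomial.C (l : ℚ) * Polynomial.X)

theorem eval_bpl (l i n : ℕ) : (bpl l i).eval (n : ℚ) = ((n * l).choose i : ℚ) := by
  rw [bpl, Polynomial.eval_comp, Polynomial.eval_C_mul, Polynomial.eval_X, ← Nat.cast_mul, eval_bp, mul_comm]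

theorem natDegree_bpl_le (l i : ℕ) : (bpl l i).natDegree ≤ i := by
  refine Polynomial.natDegree_comp_le.trans ?_
  calc (bp i).natDegree * (Polynomial.C (l : ℚ) * Polynomial.X).natDegree
      ≤ i * 1 := Nat.mul_le_mul (natDegree_bp_le i)
        ((Polynomial.natDegree_C_mul_le _ _).trans Polynomial.natDegree_X_le)
    _ = i := mul_one i

theorem coeff_bpl (l i : ℕ) : (bpl l i).coeff i = (l : ℚ) ^ i * (1 / (i.factorial : ℚ)) := by
  rw [bpl, Polynomial.comp_C_mul_X_coeff, coeff_bp, mul_comm]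

theorem wFil_pi (s : σ) (k : ℕ) : pi' s k ∈ (wFil ℚ σ).W k := by
  refine (wFil ℚ σ).psi_mem (constantCoeff_G s) (fun n => ?_) k
  rcases n with _ | n
  · exact (wFil ℚ σ).mem_zero _
  · rw [coeff_G]; exact X_mem_wFil s n

/-- `y` has weight `≥ r` and `ψ^l y ≡ l^r y` modulo weight `> r`. -/
def PCong (l r : ℕ) (y : FQ σ) : Prop :=
  y ∈ (wFil ℚ σ).W r ∧ Psi l y - (l : FQ σ) ^ r * y ∈ (wFil ℚ σ).W (r + 1)

theorem PCong.psi_mem {l r : ℕ} {y : FQ σ} (h : PCong l r y) : Psi l y ∈ (wFil ℚ σ).W r := by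
  rw [← sub_add_cancel (Psi l y) ((l : FQ σ) ^ r * y)]
  exact add_mem ((wFil ℚ σ).anti (Nat.le_succ r) h.2) (Ideal.mul_mem_left _ _ h.1)

theorem pcong_zero_elem (l r : ℕ) : PCong l r (0 : FQ σ) := ⟨zero_mem _, by simp⟩

theorem pcong_one (l : ℕ) : PCong l 0 (1 : FQ σ) := ⟨(wFil ℚ σ).mem_zero _, by simp⟩

theorem PCong.add {l r : ℕ} {x y : FQ σ} (hx : PCong l r x) (hy : PCong l r y) : PCong l r (x + y) :=
  ⟨add_mem hx.1 hy.1, by rw [map_add, mul_add, add_sub_add_comm]; exact add_mem hx.2 hy.2⟩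

theorem PCong.sum {l r : ℕ} {ι : Type*} (t : Finset ι) (x : ι → FQ σ) (h : ∀ i ∈ t, PCong l r (x i)) :
    PCong l r (∑ i ∈ t, x i) := by
  classical
  induction t using Finset.induction_on with
  | empty => rw [sum_empty]; exact pcong_zero_elem l r
  | insert a t ha ih =>
    rw [sum_insert ha]; exact (h a (mem_insert_self a t)).add (ih fun i hi => h i (mem_insert_of_mem hi))

theorem PCong.mul {l r r' : ℕ} {x y : FQ σ} (hx : PCong l r x) (hy : PCong l r' y) :
    PCong l (r + r') (x * y) := by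
  refine ⟨(wFil ℚ σ).mul hx.1 hy.1, ?_⟩
  have h : Psi l (x * y) - (l : FQ σ) ^ (r + r') * (x * y) =
      (Psi l x - (l : FQ σ) ^ r * x) * Psi l y +
        (l : FQ σ) ^ r * (x * (Psi l y - (l : FQ σ) ^ r' * y)) := by
    rw [map_mul, pow_add]; ring
  rw [h]
  refine add_mem ?_ (Ideal.mul_mem_left _ _ ?_)
  · rw [show r + r' + 1 = (r + 1) + r' by omega]; exact (wFil ℚ σ).mul hx.2 hy.psi_mem
  · rw [show r + r' + 1 = r + (r' + 1) by omega]; exact (wFil ℚ σ).mul hx.1 hy.2

theorem PCong.mono {l r r' : ℕ} {y : FQ σ} (h : r ≤ r') (hy : PCong l r' y) : PCong l r y := by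
  rcases h.eq_or_lt with e | e
  · exact e ▸ hy
  · exact ⟨(wFil ℚ σ).anti h hy.1, sub_mem ((wFil ℚ σ).anti e hy.psi_mem)
      (Ideal.mul_mem_left _ _ ((wFil ℚ σ).anti e hy.1))⟩

theorem pcong_algebraMap (l : ℕ) (c : ℚ) : PCong l 0 (algebraMap ℚ (FQ σ) c) :=
  ⟨(wFil ℚ σ).mem_zero _, by rw [AlgHom.commutes, pow_zero, one_mul, sub_self]; exact zero_mem _⟩

theorem PCong.smul {l r : ℕ} {y : FQ σ} (c : ℚ) (hy : PCong l r y) :
    PCong l r (algebraMap ℚ (FQ σ) c * y) := by
  have := (pcong_algebraMap (σ := σ) l c).mul hy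
  rwa [Nat.zero_add] at this

theorem pcong_pi (l : ℕ) (s : σ) (k : ℕ) : PCong l k (pi' s k) := by
  refine ⟨wFil_pi s k, ?_⟩
  rw [Psi_pi, psiPi]
  have hpsx : ∀ m, psx s m - ∑ i ∈ range (k + 1), (m.choose i : FQ σ) * pi' s i ∈ (wFil ℚ σ).W (k + 1) := by
    intro m
    have e1 : psx s m = ∑ i ∈ range (m + k + 1), (m.choose i : FQ σ) * pi' s i := by
      refine sum_subset (range_mono (by omega)) fun i _ hi => ?_
      rw [mem_range] at hi
      rw [Nat.choose_eq_zero_of_lt (by omega), Nat.cast_zero, zero_mul]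
    have hs : range (k + 1) ⊆ range (m + k + 1) := range_mono (by omega)
    rw [e1, ← sum_sdiff hs, add_sub_cancel_right]
    refine Ideal.sum_mem _ fun i hi => Ideal.mul_mem_left _ _ ?_
    rw [mem_sdiff, mem_range, mem_range] at hi
    exact (wFil ℚ σ).anti (by omega) (wFil_pi s i)
  have key : ∑ l' ∈ range (k + 1), (-1 : FQ σ) ^ (k - l') * (k.choose l' : FQ σ) *
      (∑ i ∈ range (k + 1), ((l * l').choose i : FQ σ) * pi' s i) = (l : FQ σ) ^ k * pi' s k := by
    simp only [mul_sum]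
    rw [sum_comm]
    calc ∑ i ∈ range (k + 1), ∑ l' ∈ range (k + 1),
          (-1 : FQ σ) ^ (k - l') * (k.choose l' : FQ σ) * (((l * l').choose i : FQ σ) * pi' s i)
        = ∑ i ∈ range (k + 1), algebraMap ℚ (FQ σ) ((k.factorial : ℚ) * (bpl l i).coeff k) * pi' s i := by
          refine sum_congr rfl fun i hi => ?_
          rw [mem_range] at hi
          rw [← fwdDiff_sum_eval (bpl l i) ((natDegree_bpl_le l i).trans (by omega)), map_sum, sum_mul]
          refine sum_congr rfl fun l' _ => ?_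
          rw [map_mul, map_mul, map_pow, map_neg, map_one, map_natCast, eval_bpl, map_natCast, mul_comm l' l]
          ring
      _ = (l : FQ σ) ^ k * pi' s k := by
          rw [sum_range_succ, sum_eq_zero fun i hi => ?_, zero_add]
          · rw [coeff_bpl, show (k.factorial : ℚ) * ((l : ℚ) ^ k * (1 / (k.factorial : ℚ))) = (l : ℚ) ^ k by
              field_simp, map_pow, map_natCast]
          · rw [mem_range] at hi
            rw [Polynomial.coeff_eq_zero_of_natDegree_lt (lt_of_le_of_lt (natDegree_bpl_le l i) hi), mul_zero,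
              map_zero, zero_mul]
  rw [← key, ← sum_sub_distrib]
  refine Ideal.sum_mem _ fun l' _ => ?_
  rw [← mul_sub]
  exact Ideal.mul_mem_left _ _ (hpsx _)

theorem pcong_coeff_G (l : ℕ) (s : σ) : ∀ n : ℕ, PCong l n (PowerSeries.coeff n (G s))
  | 0 => by simp [pcong_one]
  | n + 1 => by
    have e := newton (constantCoeff_G s) n
    have h : PCong l (n + 1) (∑ k ∈ range (n + 1), (-1) ^ k * psi (G s) (k + 1) *
        PowerSeries.coeff (n - k) (G s)) := by
      refine PCong.sum _ _ fun k hk => ?_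
      have hkn : k < n + 1 := mem_range.1 hk
      have h1 : PCong l (k + 1) ((-1 : FQ σ) ^ k * psi (G s) (k + 1)) := by
        have := (pcong_pi l s (k + 1)).smul ((-1 : ℚ) ^ k)
        rwa [map_pow, map_neg, map_one] at this
      have := h1.mul (pcong_coeff_G l s (n - k))
      rwa [show k + 1 + (n - k) = n + 1 by omega] at this
    rw [← e] at h
    have := h.smul (1 / ((n : ℚ) + 1))
    rwa [rat_succ_mul] at this

theorem pcong_monomial (l : ℕ) (x : σ × ℕ →₀ ℕ) (c : ℚ) :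
    PCong l (Finsupp.weight (wt σ) x) (MvPolynomial.monomial x c : FQ σ) := by
  classical
  induction x using Finsupp.induction generalizing c with
  | zero => rw [map_zero]; exact pcong_algebraMap l c
  | single_add v b f hv hb ih =>
    have h1 : ∀ b : ℕ, PCong l (b * wt σ v) ((MvPolynomial.X v : FQ σ) ^ b) := by
      intro b
      induction b with
      | zero => rw [Nat.zero_mul, pow_zero]; exact pcong_one l
      | succ b ihb =>
        rw [pow_succ, Nat.succ_mul]
        have hX := pcong_coeff_G l v.1 (v.2 + 1)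
        rw [coeff_G] at hX
        exact ihb.mul hX
    have := (h1 b).mul (ih c)
    rw [map_add, Finsupp.weight_single, smul_eq_mul]
    convert this using 2
    rw [MvPolynomial.X_pow_eq_monomial, MvPolynomial.monomial_mul, one_mul]

theorem pcong_of_mem (l m : ℕ) {y : FQ σ} (hy : y ∈ (wFil ℚ σ).W m) : PCong l m y := by
  rw [MvPolynomial.as_sum y]
  exact PCong.sum _ _ fun x hx =>
    PCong.mono (mem_wFil_iff_support.1 hy x hx) (pcong_monomial l x _)

theorem Psi_zero_of_mem {y : FQ σ} (hy : y ∈ (wFil ℚ σ).W 1) : Psi 0 y = 0 := by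
  have hX : ∀ v : σ × ℕ, Psi 0 (MvPolynomial.X v : FQ σ) = 0 := fun v => by
    rw [Psi, MvPolynomial.aeval_X]
    exact Fil.fc_mem_const (I := (⊥ : Ideal (FQ σ)))
      (fun i => by simp [psiPi, Nat.zero_mul, psx_zero]) v.2
  have hconst : ∀ f : FQ σ, Psi 0 f = algebraMap ℚ (FQ σ) (MvPolynomial.constantCoeff f) := by
    intro f
    induction f using MvPolynomial.induction_on with
    | C r => simp
    | add p q hp hq => rw [map_add, map_add, map_add, hp, hq]
    | mul_X p v hp => rw [map_mul, hX, mul_zero, map_mul, MvPolynomial.constantCoeff_X, mul_zero, map_zero]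
  rw [hconst, MvPolynomial.constantCoeff_eq, hy 0 (by simp), map_zero]

theorem adamsOp_eq_Psi {y : FQ σ} (hy : y ∈ (wFil ℚ σ).W 1) (l : ℕ) : adamsOp l y = Psi l y := by
  rcases l with _ | l
  · rw [adamsOp_zero_left, Psi_zero_of_mem hy]
  · exact adamsOp_eq l y

theorem psi_gamma_mem {m : ℕ} (hm : 1 ≤ m) {y : FQ σ} (hy : y ∈ (wFil ℚ σ).W m) (k : ℕ) :
    psi (gammaSeries y) k ∈ (wFil ℚ σ).W m := by
  rw [psi_gammaSeries]
  refine Ideal.sum_mem _ fun l _ => Ideal.mul_mem_left _ _ ?_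
  rw [adamsOp_eq_Psi ((wFil ℚ σ).anti hm hy)]
  exact (pcong_of_mem l m hy).psi_mem

theorem psi_gamma_congr {m : ℕ} (hm : 1 ≤ m) {y : FQ σ} (hy : y ∈ (wFil ℚ σ).W m) :
    psi (gammaSeries y) m - (m.factorial : FQ σ) * y ∈ (wFil ℚ σ).W (m + 1) := by
  have hfac : (m.factorial : FQ σ) * y =
      ∑ l ∈ range (m + 1), (-1 : FQ σ) ^ (m - l) * (m.choose l : FQ σ) * ((l : FQ σ) ^ m * y) := by
    have h := fwdDiff_sum_pow (R := FQ σ) (le_refl m)
    rw [if_pos rfl] at h
    rw [← h, sum_mul]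
    exact sum_congr rfl fun l _ => by ring
  rw [psi_gammaSeries, hfac, ← sum_sub_distrib]
  refine Ideal.sum_mem _ fun l _ => ?_
  rw [← mul_sub, adamsOp_eq_Psi ((wFil ℚ σ).anti hm hy)]
  exact Ideal.mul_mem_left _ _ (pcong_of_mem l m hy).2

section trunc

variable (p : ℕ)

/-- `FQ` modulo weight `≥ p`. -/
abbrev Qp (σ : Type) (p : ℕ) : Type := FQ σ ⧸ (wFil ℚ σ).W p

/-- The reduction map. -/
noncomputable abbrev qmap (σ : Type) (p : ℕ) : FQ σ →+* Qp σ p := Ideal.Quotient.mk _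

/-- `ψ^J (x_s)` truncated. -/
noncomputable def psxJ (s : σ) (l : ℕ) : Polynomial (Qp σ p) :=
  ∑ i ∈ range p, (bpl l i).map (algebraMap ℚ (Qp σ p)) * Polynomial.C (qmap σ p (pi' s i))

/-- `ψ^J (π_k)` truncated. -/
noncomputable def piJ (s : σ) (k : ℕ) : Polynomial (Qp σ p) :=
  ∑ l ∈ range (k + 1), (-1 : Polynomial (Qp σ p)) ^ (k - l) * (k.choose l : Polynomial (Qp σ p)) * psxJ p s l

/-- `ψ^J` truncated. -/
noncomputable def PhiJ : FQ σ →ₐ[ℚ] Polynomial (Qp σ p) :=
  MvPolynomial.aeval fun v : σ × ℕ => fc (piJ p v.1) (v.2 + 1)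

theorem eval_psxJ (s : σ) (l j : ℕ) : (psxJ p s l).eval (j : Qp σ p) = qmap σ p (psx s (j * l)) := by
  have e1 : psx s (j * l) = ∑ i ∈ range (j * l + p + 1), ((j * l).choose i : FQ σ) * pi' s i := by
    refine sum_subset (range_mono (by omega)) fun i _ hi => ?_
    rw [mem_range] at hi
    rw [Nat.choose_eq_zero_of_lt (by omega), Nat.cast_zero, zero_mul]
  have hs : range p ⊆ range (j * l + p + 1) := range_mono (by omega)
  rw [psxJ, Polynomial.eval_finsetSum, e1, map_sum, ← sum_sdiff hs,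
    sum_eq_zero (s := range (j * l + p + 1) \ range p) fun i hi => ?_, zero_add]
  · refine sum_congr rfl fun i _ => ?_
    rw [Polynomial.eval_mul, Polynomial.eval_C, Polynomial.eval_map, Polynomial.eval₂_at_natCast, eval_bpl,
      map_natCast, map_mul, map_natCast]
  · rw [mem_sdiff, mem_range, mem_range] at hi
    rw [map_mul, show qmap σ p (pi' s i) = 0 from
      Ideal.Quotient.eq_zero_iff_mem.2 ((wFil ℚ σ).anti (by omega) (wFil_pi s i)), mul_zero]

theorem eval_PhiJ (j : ℕ) (y : FQ σ) : (PhiJ p y).eval (j : Qp σ p) = qmap σ p (Psi j y) := by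
  refine RingHom.congr_fun (f := (Polynomial.evalRingHom (j : Qp σ p)).comp (PhiJ p).toRingHom)
    (g := (qmap σ p).comp (Psi j).toRingHom) ?_ y
  refine MvPolynomial.ringHom_ext (fun r => ?_) fun v => ?_
  · simp only [RingHom.comp_apply, AlgHom.toRingHom_eq_coe, RingHom.coe_coe, ← MvPolynomial.algebraMap_eq,
      AlgHom.commutes, Polynomial.coe_evalRingHom, Polynomial.algebraMap_apply, Polynomial.eval_C]
    rfl
  · simp only [RingHom.comp_apply, AlgHom.toRingHom_eq_coe, RingHom.coe_coe, PhiJ, Psi, MvPolynomial.aeval_X,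
      map_fc]
    refine fc_congr _ _ _ fun i _ => ?_
    rw [Polynomial.coe_evalRingHom, piJ, Polynomial.eval_finsetSum, psiPi, map_sum]
    refine sum_congr rfl fun l _ => ?_
    simp only [Polynomial.eval_mul, Polynomial.eval_pow, Polynomial.eval_neg, Polynomial.eval_one,
      Polynomial.eval_natCast, eval_psxJ, map_mul, map_pow, map_neg, map_one, map_natCast]

/-- The coefficient of `J^d` has weight `≥ d`. -/
noncomputable def degSub : Subalgebra ℚ (Polynomial (Qp σ p)) where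
  carrier := {f | ∀ d, f.coeff d ∈ ((wFil ℚ σ).W d).map (qmap σ p)}
  zero_mem' d := by simp
  one_mem' d := by
    rcases d with _ | d
    · rw [Polynomial.coeff_one_zero, ← map_one (qmap σ p)]
      exact Ideal.mem_map_of_mem (qmap σ p) ((wFil ℚ σ).mem_zero 1)
    · rw [Polynomial.coeff_one, if_neg (Nat.succ_ne_zero d)]; exact zero_mem _
  add_mem' {a b} ha hb d := by rw [Polynomial.coeff_add]; exact add_mem (ha d) (hb d)
  mul_mem' {a b} ha hb d := by
    rw [Polynomial.coeff_mul]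
    refine Ideal.sum_mem _ fun x hx => ?_
    rw [mem_antidiagonal] at hx
    obtain ⟨u, hu, e1⟩ := (Ideal.mem_map_iff_of_surjective _ Ideal.Quotient.mk_surjective).1 (ha x.1)
    obtain ⟨v, hv, e2⟩ := (Ideal.mem_map_iff_of_surjective _ Ideal.Quotient.mk_surjective).1 (hb x.2)
    rw [← e1, ← e2, ← map_mul, ← hx]
    exact Ideal.mem_map_of_mem _ ((wFil ℚ σ).mul hu hv)
  algebraMap_mem' r d := by
    rw [Polynomial.algebraMap_apply, Polynomial.coeff_C]
    split_ifs with h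
    · subst h
      exact Ideal.mem_map_of_mem (qmap σ p) ((wFil ℚ σ).mem_zero (algebraMap ℚ (FQ σ) r))
    · exact zero_mem _

theorem piJ_mem (s : σ) (k : ℕ) : piJ p s k ∈ degSub p := by
  refine Subalgebra.sum_mem _ fun l _ => mul_mem (mul_mem (pow_mem (neg_mem (one_mem _)) _) (natCast_mem _ _)) ?_
  refine Subalgebra.sum_mem _ fun i _ d => ?_
  rw [Polynomial.coeff_mul_C]
  by_cases h : d ≤ i
  · exact Ideal.mul_mem_left _ _ (Ideal.mem_map_of_mem _ ((wFil ℚ σ).anti h (wFil_pi s i)))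
  · rw [Polynomial.coeff_map,
      Polynomial.coeff_eq_zero_of_natDegree_lt (lt_of_le_of_lt (natDegree_bpl_le l i) (by omega)), map_zero,
      zero_mul]
    exact zero_mem _

theorem fc_mem_subalgebra {B : Type*} [CommRing B] [Algebra ℚ B] (S : Subalgebra ℚ B) {f : ℕ → B}
    (hf : ∀ i, f i ∈ S) : ∀ n, fc f n ∈ S
  | 0 => by rw [fc_zero]; exact one_mem _
  | n + 1 => by
    rw [fc_succ]
    exact mul_mem (S.algebraMap_mem _) (Subalgebra.sum_mem _ fun k _ =>
      mul_mem (mul_mem (pow_mem (neg_mem (one_mem _)) _) (hf _)) (fc_mem_subalgebra S hf (n - k)))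

theorem PhiJ_mem (y : FQ σ) : PhiJ p y ∈ degSub p := by
  induction y using MvPolynomial.induction_on with
  | C r => rw [← MvPolynomial.algebraMap_eq, AlgHom.commutes]; exact (degSub p).algebraMap_mem r
  | add a b ha hb => rw [map_add]; exact add_mem ha hb
  | mul_X a v ha =>
    rw [map_mul, PhiJ, MvPolynomial.aeval_X]
    exact mul_mem ha (fc_mem_subalgebra _ (piJ_mem p v.1) _)

end trunc

theorem psi_gamma_mem_self {y : FQ σ} (hy : y ∈ (wFil ℚ σ).W 1) (p : ℕ) :
    psi (gammaSeries y) (p + 1) ∈ (wFil ℚ σ).W (p + 1) := by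
  rw [← Ideal.Quotient.eq_zero_iff_mem]
  change qmap σ (p + 1) _ = 0
  rw [psi_gammaSeries, map_sum]
  simp only [map_mul, map_pow, map_neg, map_one, map_natCast, adamsOp_eq_Psi hy, ← eval_PhiJ]
  have hc : ∀ d, p + 1 ≤ d → (PhiJ (p + 1) y).coeff d = 0 := fun d hd => by
    obtain ⟨u, hu, e⟩ :=
      (Ideal.mem_map_iff_of_surjective _ Ideal.Quotient.mk_surjective).1 (PhiJ_mem (p + 1) y d)
    rw [← e]
    exact Ideal.Quotient.eq_zero_iff_mem.2 ((wFil ℚ σ).anti hd hu)
  rw [fwdDiff_sum_eval _ (Polynomial.natDegree_le_iff_coeff_eq_zero.2 fun d hd => hc d (by omega)),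
    hc (p + 1) le_rfl, mul_zero]

theorem gamma_eq_fc (y : FQ σ) (n : ℕ) : gamma n y = fc (psi (gammaSeries y)) n := by
  have h0 : PowerSeries.constantCoeff (gammaSeries y) = 1 := by
    rw [← PowerSeries.coeff_zero_eq_constantCoeff_apply, coeff_gammaSeries, gamma_zero]
  rw [← coeff_gammaSeries]
  conv_lhs => rw [← fromPsi_psi h0]
  simp [fromPsi]

theorem gammaQ_mem_self {y : FQ σ} (hy : y ∈ (wFil ℚ σ).W 1) (p : ℕ) : gamma p y ∈ (wFil ℚ σ).W p := by
  rw [gamma_eq_fc]
  exact (wFil ℚ σ).fc_mem (psi_gamma_mem_self hy) p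

theorem gammaQ_mem {m : ℕ} (hm : 1 ≤ m) {y : FQ σ} (hy : y ∈ (wFil ℚ σ).W m) (p : ℕ) :
    gamma (p + 1) y ∈ (wFil ℚ σ).W m := by
  rw [gamma_eq_fc]
  exact Fil.fc_mem_const (fun i => psi_gamma_mem hm hy (i + 1)) p

theorem gammaQ_congr {m : ℕ} {y : FQ σ} (hy : y ∈ (wFil ℚ σ).W (m + 1)) :
    gamma (m + 1) y - (-1 : FQ σ) ^ m * (m.factorial : FQ σ) * y ∈ (wFil ℚ σ).W (m + 2) := by
  have h0 : PowerSeries.constantCoeff (gammaSeries y) = 1 := by
    rw [← PowerSeries.coeff_zero_eq_constantCoeff_apply, coeff_gammaSeries, gamma_zero]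
  have e := newton h0 m
  rw [sum_range_succ, Nat.sub_self, coeff_gammaSeries, coeff_gammaSeries, gamma_zero, mul_one] at e
  have hmem : (gamma (m + 1) y - (-1 : FQ σ) ^ m * (m.factorial : FQ σ) * y) * ((m : FQ σ) + 1) ∈
      (wFil ℚ σ).W (m + 2) := by
    have hrw : (gamma (m + 1) y - (-1 : FQ σ) ^ m * (m.factorial : FQ σ) * y) * ((m : FQ σ) + 1) =
        (∑ k ∈ range m, (-1) ^ k * psi (gammaSeries y) (k + 1) * PowerSeries.coeff (m - k) (gammaSeries y)) +
          (-1 : FQ σ) ^ m * (psi (gammaSeries y) (m + 1) - ((m + 1).factorial : FQ σ) * y) := by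
      rw [sub_mul, e, Nat.factorial_succ]; push_cast; ring
    rw [hrw]
    refine add_mem (Ideal.sum_mem _ fun k hk => ?_)
      (Ideal.mul_mem_left _ _ (psi_gamma_congr (by omega) hy))
    have hkm : k < m := mem_range.1 hk
    obtain ⟨i, hi⟩ : ∃ i, m - k = i + 1 := ⟨m - k - 1, by omega⟩
    rw [hi, coeff_gammaSeries]
    refine (wFil ℚ σ).anti (by omega : m + 2 ≤ (m + 1) + (m + 1)) ((wFil ℚ σ).mul
      (Ideal.mul_mem_left _ _ (psi_gamma_mem (by omega) hy (k + 1))) (gammaQ_mem (by omega) hy i))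
  have := Ideal.mul_mem_left _ (algebraMap ℚ (FQ σ) (1 / ((m : ℚ) + 1))) hmem
  rwa [rat_succ_mul] at this

theorem gammaZ_mem_self {f : FZ σ} (hf : f ∈ (wFil ℤ σ).W 1) (p : ℕ) : gamma p f ∈ (wFil ℤ σ).W p :=
  mem_wFil_of_map (algebraMap ℤ ℚ) Int.cast_injective (by
    change toQ (σ × ℕ) _ ∈ _
    rw [toQ_gamma]
    exact gammaQ_mem_self (map_mem_wFil _ hf) p)

theorem gammaZ_mem {m : ℕ} (hm : 1 ≤ m) {f : FZ σ} (hf : f ∈ (wFil ℤ σ).W m) (p : ℕ) :
    gamma (p + 1) f ∈ (wFil ℤ σ).W m :=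
  mem_wFil_of_map (algebraMap ℤ ℚ) Int.cast_injective (by
    change toQ (σ × ℕ) _ ∈ _
    rw [toQ_gamma]
    exact gammaQ_mem hm (map_mem_wFil _ hf) p)

theorem gammaZ_congr {m : ℕ} {f : FZ σ} (hf : f ∈ (wFil ℤ σ).W (m + 1)) :
    gamma (m + 1) f - (-1 : FZ σ) ^ m * (m.factorial : FZ σ) * f ∈ (wFil ℤ σ).W (m + 2) :=
  mem_wFil_of_map (algebraMap ℤ ℚ) Int.cast_injective (by
    change toQ (σ × ℕ) _ ∈ _
    rw [map_sub, map_mul, map_mul, map_pow, map_neg, map_one, map_natCast, toQ_gamma]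
    exact gammaQ_congr (map_mem_wFil _ hf))

section transfer

variable {A : Type*} [CommRing A] [LambdaOps A]

theorem evZ_mem (F : Fil A) (x : σ → A) (hx : ∀ s i, gamma (i + 1) (x s) ∈ F.W (i + 1)) {d : ℕ} {f : FZ σ}
    (hf : f ∈ (wFil ℤ σ).W d) : evZ x f ∈ F.W d :=
  F.aeval_mem (wt σ) _ (fun v => hx v.1 v.2) f (mem_wFil_iff_support.1 hf)

end transfer

end Groth.Agent.Lambda.Free
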