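import Groth.Agent.Lambda.AugFil

/-!
# The γ-filtration of a λ-ring generated by the `γ^(j+1) x` over an augmented base
-/

set_option autoImplicit false

open Finset LambdaRing

namespace Groth.Agent.Lambda

open scoped Groth.Agent.Lambda.Free
open Groth.Agent.Lambda.Free (FZ evZ evZ_mem evZ_gamma)

universe u v w

/-- The exponent weight. -/
def ewt (e : ℕ →₀ ℕ) : ℕ := e.sum fun j n => (j + 1) * n

theorem ewt_add (e e' : ℕ →₀ ℕ) : ewt (e + e') = ewt e + ewt e' :=
  Finsupp.sum_add_index' (fun _ => Nat.mul_zero _) fun _ _ _ => Nat.mul_add _ _ _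

theorem ewt_pos {e : ℕ →₀ ℕ} (he : e ≠ 0) : 1 ≤ ewt e := by
  obtain ⟨j, hj⟩ := Finsupp.support_nonempty_iff.2 he
  refine le_trans ?_ (Finset.single_le_sum (fun i _ => Nat.zero_le _) hj)
  exact Nat.one_le_iff_ne_zero.2 (Nat.mul_ne_zero (Nat.succ_ne_zero j) (Finsupp.mem_support_iff.1 hj))

variable {B : Type w} [CommRing B] [LambdaOps B]

/-- The monomial in the `γ^(j+1) x`. -/
def gmon (x : B) (e : ℕ →₀ ℕ) : B := e.prod fun j n => gamma (j + 1) x ^ n

theorem gmon_add (x : B) (e e' : ℕ →₀ ℕ) : gmon x (e + e') = gmon x e * gmon x e' :=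
  Finsupp.prod_add_index' (fun _ => pow_zero _) fun _ _ _ => pow_add _ _ _

theorem gmon_mem (F : Fil B) {x : B} (hx : ∀ j, gamma (j + 1) x ∈ F.W (j + 1)) (e : ℕ →₀ ℕ) :
    gmon x e ∈ F.W (ewt e) :=
  F.prod_mem e.support (fun j => gamma (j + 1) x ^ e j) (fun j => (j + 1) * e j) fun j _ => by
    rw [Nat.mul_comm]; exact F.pow_mem (hx j) _

theorem gammaFil_le {K : Type u} [CommRing K] (ε : B →+* K) (F : Fil B)
    (h : ∀ z, ε z = 0 → ∀ p, gamma p z ∈ F.W p) (n : ℕ) : gammaFil ε n ≤ F.W n := by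
  refine Ideal.span_le.2 ?_
  rintro _ ⟨l, hl, hn, rfl⟩
  refine F.anti hn ?_
  clear hn
  induction l with
  | nil => exact F.mem_zero _
  | cons a l ih =>
    simp only [List.map_cons, List.prod_cons, List.sum_cons]
    exact F.mul (h _ (hl a List.mem_cons_self) _) (ih fun p hp => hl p (List.mem_cons_of_mem _ hp))

variable {K : Type u} [CommRing K] [LambdaOps K] [BinomialRing K] [Algebra K B]
  {A : Type v} [CommRing A] [Algebra K A] [Algebra A B] [IsScalarTower K A B]

theorem gamma_mem_of_generated (hKb : IsBinomial K) (hB : IsSpecial B)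
    (εA : A →ₐ[K] K) (εB : B →ₐ[K] K) (hεB : IsAugLambdaAlg K B εB)
    (hεAB : ∀ a : A, εB (algebraMap A B a) = εA a)
    (F : Fil B) {x : B} (hx : εB x = 0) (hxF : ∀ j, gamma (j + 1) x ∈ F.W (j + 1))
    (hA : ∀ a : A, εA a = 0 → ∀ p, gamma p (algebraMap A B a) ∈ F.W p)
    (hgen : Algebra.adjoin A (Set.range fun j : ℕ => gamma (j + 1) x) = ⊤)
    {z : B} (hz : εB z = 0) : ∀ p, gamma p z ∈ F.W p := by
  let f : (ℕ →₀ ℕ) → FZ Bool := fun e => e.prod fun j n => (MvPolynomial.X (true, j)) ^ n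
  have hf : ∀ e, f e ∈ (wFil ℤ Bool).W (ewt e) := fun e =>
    (wFil ℤ Bool).prod_mem e.support _ (fun j => (j + 1) * e j) fun j _ => by
      rw [Nat.mul_comm]; exact (wFil ℤ Bool).pow_mem (X_mem_wFil true j) _
  let a' : A → A := fun a => a - algebraMap K A (εA a)
  have ha' : ∀ a, εA (a' a) = 0 := fun a => by simp [a']
  let y : A → Bool → B := fun a b => bif b then x else algebraMap A B (a' a)
  have hy : ∀ a b i, gamma (i + 1) (y a b) ∈ F.W (i + 1) := by
    rintro a (_|_) i
    · exact hA _ (ha' a) _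
    · exact hxF i
  have hev : ∀ a e, evZ (y a) (f e) = gmon x e := fun a e => by
    simp only [f, Finsupp.prod, gmon, map_prod, map_pow, Free.evZ_X, y, cond_true]
  have hT1 : ∀ a e p, gamma p (algebraMap A B (a' a) * gmon x e) ∈ F.W p := fun a e p => by
    have h0 : evZ (y a) (MvPolynomial.X (false, 0) * f e) = algebraMap A B (a' a) * gmon x e := by
      rw [map_mul, hev, Free.evZ_X, gamma_one]; rfl
    rw [← h0, ← evZ_gamma hB]
    refine evZ_mem F (y a) (hy a) (Free.gammaZ_mem_self ?_ p)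
    exact Ideal.mul_mem_right _ _ (X_mem_wFil false 0)
  have hT2 : ∀ (c : K) e, e ≠ 0 → ∀ p, gamma p (algebraMap K B c * gmon x e) ∈ F.W p := fun c e he p => by
    have hs : ∀ n, PowerSeries.coeff n (gammaSeries (gmon x e) - 1) ∈ F.W n := by
      intro n
      rcases n with _ | n
      · exact F.mem_zero _
      · rw [map_sub, coeff_gammaSeries, PowerSeries.coeff_one, if_neg (Nat.succ_ne_zero n), sub_zero,
          ← hev 0 e, ← evZ_gamma hB]
        exact evZ_mem F (y 0) (hy 0) (Free.gammaZ_mem_self ((wFil ℤ Bool).anti (ewt_pos he) (hf e)) _)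
    rw [gamma_algebraMap_mul hKb hB hεB.isLambdaAlg]
    exact Ideal.sum_mem _ fun i _ => Ideal.mul_mem_left _ _ (coeff_pow_mem_self F hs i p)
  let T : AddSubmonoid B :=
    { carrier := {z | ∀ p, gamma p z ∈ F.W p}
      zero_mem' := fun p => by
        rcases p with _ | p
        · exact F.mem_zero _
        · rw [gamma_succ_zero]; exact zero_mem _
      add_mem' := fun {u v} hu hv p => by
        rw [gamma_add]
        refine Ideal.sum_mem _ fun i hi => ?_
        rw [mem_range] at hi
        conv => arg 1; arg 2; rw [show p = i + (p - i) by omega]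
        exact F.mul (hu i) (hv _) }
  have hzmem : z ∈ (MvPolynomial.aeval fun j : ℕ => gamma (j + 1) x : MvPolynomial ℕ A →ₐ[A] B).range := by
    rw [← Algebra.adjoin_range_eq_range_aeval, hgen]; trivial
  obtain ⟨P, hP⟩ := hzmem
  rw [AlgHom.toRingHom_eq_coe, RingHom.coe_coe] at hP
  suffices h : z ∈ T from h
  have hmon : ∀ e a, MvPolynomial.aeval (fun j : ℕ => gamma (j + 1) x) (MvPolynomial.monomial e a) =
      algebraMap A B a * gmon x e := fun e a => MvPolynomial.aeval_monomial _ _ _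
  have hεmon : ∀ e, e ≠ 0 → εB (gmon x e) = 0 := fun e he => by
    obtain ⟨j, hj⟩ := Finsupp.support_nonempty_iff.2 he
    rw [gmon, Finsupp.prod, map_prod]
    refine prod_eq_zero hj ?_
    rw [map_pow, show εB (gamma (j + 1) x) = gamma (j + 1) (εB x) from map_gamma_hom εB.toRingHom hεB.map_lam _ _,
      hx, gamma_succ_zero, zero_pow (Finsupp.mem_support_iff.1 hj)]
  have hsum : z = ∑ e ∈ P.support, algebraMap A B (MvPolynomial.coeff e P) * gmon x e := by
    rw [← hP]
    conv_lhs => rw [P.as_sum, map_sum]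
    exact sum_congr rfl fun e _ => hmon _ _
  have hc0 : εA (MvPolynomial.coeff 0 P) = 0 := by
    have h := congrArg εB hsum
    rw [hz, map_sum, sum_eq_single 0] at h
    · rw [map_mul, hεAB, gmon, Finsupp.prod_zero_index, map_one, mul_one] at h
      exact h.symm
    · intro e _ he; rw [map_mul, hεmon e he, mul_zero]
    · intro h0; rw [MvPolynomial.notMem_support_iff.1 h0, map_zero, zero_mul, map_zero]
  rw [hsum]
  refine AddSubmonoid.sum_mem T fun e _ => ?_
  by_cases he : e = 0
  · subst he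
    rw [gmon, Finsupp.prod_zero_index, mul_one]
    exact hA _ hc0
  · rw [show MvPolynomial.coeff e P = a' (MvPolynomial.coeff e P) + algebraMap K A (εA (MvPolynomial.coeff e P)) by
      simp [a'], map_add, ← IsScalarTower.algebraMap_apply K A B, add_mul]
    exact add_mem (hT1 _ e) (hT2 _ e he)

end Groth.Agent.Lambda
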