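import Groth.Agent.Lambda.Ops
import Mathlib.RingTheory.PowerSeries.Substitution
import Mathlib.RingTheory.PowerSeries.WellKnown
import Mathlib.Algebra.Polynomial.Coeff

/-!
# The γ-operations of a pre-λ-ring: `γ_t(x) = λ_(t/(1-t))(x)`
-/

set_option autoImplicit false

open Finset PowerSeries LambdaRing

namespace Groth.Agent.Lambda

universe u

variable {K : Type u} [CommRing K]

/-- The series `t / (1 - t)`. -/
noncomputable def gSer : PowerSeries K := PowerSeries.X * PowerSeries.mk 1

theorem hasSubst_gSer : PowerSeries.HasSubst (gSer (K := K)) :=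
  PowerSeries.HasSubst.of_constantCoeff_zero' (by simp [gSer])

theorem coeff_gSer_pow (n d : ℕ) :
    PowerSeries.coeff (n + 1) ((gSer : PowerSeries K) ^ d) = if d = 0 then 0 else (n.choose (d - 1) : K) := by
  rcases d with _ | e
  · simp
  rw [gSer, mul_pow, PowerSeries.coeff_X_pow_mul', mk_one_pow_eq_mk_choose_add, if_neg (Nat.succ_ne_zero e)]
  by_cases h : e + 1 ≤ n + 1
  · rw [if_pos h, PowerSeries.coeff_mk, show e + (n + 1 - (e + 1)) = n by omega, Nat.add_sub_cancel]
  · rw [if_neg h, Nat.choose_eq_zero_of_lt (by omega), Nat.cast_zero]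

theorem isUnit_mk_one : IsUnit (PowerSeries.mk 1 : PowerSeries K) :=
  IsUnit.of_mul_eq_one _ (mk_one_mul_one_sub_eq_one K)

variable [LambdaOps K]

/-- `γ_t(x)`. -/
noncomputable def gammaSeries (x : K) : PowerSeries K := PowerSeries.mk fun k => gamma k x

@[simp] theorem coeff_gammaSeries (x : K) (k : ℕ) : PowerSeries.coeff k (gammaSeries x) = gamma k x := by
  simp [gammaSeries]

@[simp] theorem gamma_zero (x : K) : gamma 0 x = 1 := by simp [gamma]

theorem gamma_succ (x : K) (n : ℕ) :
    gamma (n + 1) x = ∑ j ∈ range (n + 1), (n.choose j : K) * LambdaOps.lam (j + 1) x := by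
  rw [gamma, if_neg (Nat.succ_ne_zero n), sum_range_succ']
  simp

theorem gamma_one (x : K) : gamma 1 x = x := by
  rw [gamma_succ]; simp [LambdaOps.lam_one]

theorem gammaSeries_eq_subst (x : K) : gammaSeries x = PowerSeries.subst gSer (lamSeries x) := by
  ext n
  rw [coeff_gammaSeries, PowerSeries.coeff_subst' hasSubst_gSer]
  rcases n with _ | n
  · rw [finsum_eq_single _ 0]
    · simp [gamma_zero, LambdaOps.lam_zero]
    · intro d hd
      simp [gSer, mul_pow, PowerSeries.coeff_X_pow_mul', hd]
  · rw [finsum_eq_sum_of_support_subset _ (s := range (n + 2)), gamma_succ, sum_range_succ' _ (n + 1)]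
    · rw [coeff_gSer_pow, if_pos rfl, smul_zero, add_zero]
      refine sum_congr rfl fun j _ => ?_
      rw [coeff_gSer_pow, if_neg (Nat.succ_ne_zero j), coeff_lamSeries, Nat.add_sub_cancel, smul_eq_mul,
        mul_comm]
    · intro d hd
      by_contra h
      simp only [coe_range, Set.mem_Iio, not_lt] at h
      apply hd
      change PowerSeries.coeff d (lamSeries x) • PowerSeries.coeff (n + 1) (gSer ^ d) = 0
      rw [coeff_gSer_pow, if_neg (by omega), Nat.choose_eq_zero_of_lt (by omega), Nat.cast_zero, smul_zero]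

theorem gammaSeries_add (x y : K) : gammaSeries (x + y) = gammaSeries x * gammaSeries y := by
  rw [gammaSeries_eq_subst, gammaSeries_eq_subst, gammaSeries_eq_subst, lamSeries_add,
    PowerSeries.subst_mul hasSubst_gSer]

theorem gamma_add (k : ℕ) (x y : K) :
    gamma k (x + y) = ∑ i ∈ range (k + 1), gamma i x * gamma (k - i) y := by
  rw [← coeff_gammaSeries, gammaSeries_add, PowerSeries.coeff_mul,
    Nat.sum_antidiagonal_eq_sum_range_succ_mk]
  simp

@[simp] theorem gammaSeries_zero : gammaSeries (0 : K) = 1 := by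
  rw [gammaSeries_eq_subst, lamSeries_zero, ← PowerSeries.coe_substAlgHom hasSubst_gSer, map_one]

theorem isUnit_gammaSeries (x : K) : IsUnit (gammaSeries x) :=
  PowerSeries.isUnit_iff_constantCoeff.2 (by rw [← coeff_zero_eq_constantCoeff_apply]; simp)

theorem gammaSeries_multiset_sum (s : Multiset K) : gammaSeries s.sum = (s.map gammaSeries).prod := by
  induction s using Multiset.induction_on with
  | empty => simp
  | cons a s ih => rw [Multiset.sum_cons, gammaSeries_add, ih, Multiset.map_cons, Multiset.prod_cons]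

section linear

variable (h1 : ∀ k : ℕ, 2 ≤ k → LambdaOps.lam k (1 : K) = 0)
include h1

theorem gamma_linear (u : K) (hu : ∀ j : ℕ, 2 ≤ j → LambdaOps.lam j u = 0) (n : ℕ) :
    gamma (n + 1) u = u := by
  rw [gamma_succ, sum_eq_single 0]
  · simp [LambdaOps.lam_one]
  · intro j _ hj; rw [hu (j + 1) (by omega), mul_zero]
  · simp

theorem gammaSeries_one : gammaSeries (1 : K) = PowerSeries.mk 1 := by
  ext n
  rcases n with _ | n
  · simp
  · simp [gamma_linear h1 1 h1]

theorem gammaSeries_sub_one {u : K} (hu : ∀ j : ℕ, 2 ≤ j → LambdaOps.lam j u = 0) :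
    gammaSeries (u - 1) = lin (u - 1) := by
  refine (isUnit_gammaSeries (1 : K)).mul_right_cancel ?_
  rw [← gammaSeries_add, sub_add_cancel, gammaSeries_one h1]
  ext n
  rcases n with _ | n
  · simp [gamma_zero]
  · rw [coeff_lin_mul]; simp [gamma_linear h1 u hu]

theorem lamSeries_natCast (m : ℕ) : lamSeries (m : K) = lin 1 ^ m := by
  induction m with
  | zero => simp
  | succ m ih => rw [Nat.cast_succ, lamSeries_add, ih, lamSeries_eq_lin h1, pow_succ]

theorem gammaSeries_natCast (m : ℕ) : gammaSeries (m : K) = PowerSeries.mk 1 ^ m := by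
  induction m with
  | zero => simp
  | succ m ih => rw [Nat.cast_succ, gammaSeries_add, ih, gammaSeries_one h1, pow_succ]

theorem coeff_lin_one_pow (n k : ℕ) : PowerSeries.coeff k (lin (1 : K) ^ n) = (n.choose k : K) := by
  have : (lin (1 : K)) = ((1 + Polynomial.X : Polynomial K) : PowerSeries K) := by simp [lin]
  rw [this, ← Polynomial.coe_pow, Polynomial.coeff_coe, Polynomial.coeff_one_add_X_pow]

theorem gamma_eq_lam (n : ℕ) (x : K) : gamma n x = LambdaOps.lam n (x + (n : K) - 1) := by
  rcases n with _ | n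
  · simp [LambdaOps.lam_zero]
  rw [show x + ((n + 1 : ℕ) : K) - 1 = x + (n : K) by push_cast; ring, ← coeff_lamSeries, lamSeries_add,
    lamSeries_natCast h1, PowerSeries.coeff_mul, Nat.sum_antidiagonal_eq_sum_range_succ_mk, gamma_succ,
    sum_range_succ' _ (n + 1)]
  simp only [coeff_lin_one_pow h1, coeff_lamSeries, Nat.sub_zero, Nat.choose_succ_self, Nat.cast_zero,
    mul_zero, add_zero]
  refine sum_congr rfl fun j hj => ?_
  rw [mem_range] at hj
  rw [mul_comm, show n + 1 - (j + 1) = n - j by omega, Nat.choose_symm (by omega)]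

theorem lam_sub_one_eq (n : ℕ) (z : K) :
    LambdaOps.lam n (z - 1) = (-1 : K) ^ n * ∑ i ∈ range (n + 1), (-1 : K) ^ i * LambdaOps.lam i z := by
  induction n with
  | zero => simp [LambdaOps.lam_zero]
  | succ n ih =>
    have h : lamSeries z = lin 1 * lamSeries (z - 1) := by
      rw [← lamSeries_eq_lin h1, ← lamSeries_add, add_sub_cancel]
    have hc := congrArg (PowerSeries.coeff (n + 1)) h
    rw [coeff_lin_mul, coeff_lamSeries, coeff_lamSeries, coeff_lamSeries, one_mul, ih] at hc
    rw [sum_range_succ, mul_add, neg_one_pow_mul_self, pow_succ]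
    linear_combination -hc

theorem gammaSeries_sum_sub_card (s : Multiset K) (hs : ∀ u ∈ s, ∀ j : ℕ, 2 ≤ j → LambdaOps.lam j u = 0) :
    gammaSeries (s.sum - (Multiset.card s : K)) = linProd (s.map fun u => u - 1) := by
  induction s using Multiset.induction_on with
  | empty => simp [linProd]
  | cons a s ih =>
    rw [Multiset.sum_cons, Multiset.card_cons, Nat.cast_succ,
      show a + s.sum - ((Multiset.card s : K) + 1) = (a - 1) + (s.sum - (Multiset.card s : K)) by ring,
      gammaSeries_add, gammaSeries_sub_one h1 (hs a (Multiset.mem_cons_self a s)),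
      ih fun u hu => hs u (Multiset.mem_cons_of_mem hu)]
    simp [linProd]

theorem gamma_sum_sub_card (s : Multiset K) (hs : ∀ u ∈ s, ∀ j : ℕ, 2 ≤ j → LambdaOps.lam j u = 0) (k : ℕ) :
    gamma k (s.sum - (Multiset.card s : K)) = (s.map fun u => u - 1).esymm k := by
  rw [← coeff_gammaSeries, gammaSeries_sum_sub_card h1 s hs, coeff_linProd]

/-- `γ^k(e - m)` when `λ^i e = 0` for `i > m`. -/
theorem gamma_sub_natCast (e : K) (m : ℕ) (he : ∀ i : ℕ, m < i → LambdaOps.lam i e = 0) (k : ℕ) :
    gamma k (e - (m : K)) = ∑ i ∈ range (m + 1),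
      if i ≤ k then LambdaOps.lam i e * ((-1 : K) ^ (k - i) * ((m - i).choose (k - i) : K)) else 0 := by
  have hinv : ∀ i : ℕ, PowerSeries.mk 1 ^ i * (1 - PowerSeries.X : PowerSeries K) ^ i = 1 := fun i => by
    rw [← mul_pow, mk_one_mul_one_sub_eq_one, one_pow]
  have hl : lamSeries e = ∑ i ∈ range (m + 1), PowerSeries.C (LambdaOps.lam i e) * PowerSeries.X ^ i := by
    ext n
    simp only [coeff_lamSeries, map_sum, PowerSeries.coeff_C_mul, PowerSeries.coeff_X_pow, mul_ite, mul_one,
      mul_zero, Finset.sum_ite_eq, mem_range]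
    by_cases h : n < m + 1
    · rw [if_pos h]
    · rw [if_neg h, he n (by omega)]
  have hg : gammaSeries (e - (m : K)) = ∑ i ∈ range (m + 1),
      PowerSeries.C (LambdaOps.lam i e) * (PowerSeries.X ^ i * (1 - PowerSeries.X) ^ (m - i)) := by
    refine (isUnit_gammaSeries (m : K)).mul_right_cancel ?_
    rw [← gammaSeries_add, sub_add_cancel, gammaSeries_natCast h1, gammaSeries_eq_subst, hl,
      ← PowerSeries.coe_substAlgHom hasSubst_gSer, map_sum, Finset.sum_mul]
    refine sum_congr rfl fun i hi => ?_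
    have hCC : ∀ a : K, PowerSeries.substAlgHom hasSubst_gSer (PowerSeries.C a) = PowerSeries.C a :=
      fun a => (PowerSeries.substAlgHom hasSubst_gSer).commutes a
    rw [map_mul, map_pow, PowerSeries.substAlgHom_X, hCC, gSer, mul_pow]
    rw [mem_range] at hi
    have hm : PowerSeries.mk (1 : ℕ → K) ^ m = PowerSeries.mk 1 ^ i * PowerSeries.mk 1 ^ (m - i) := by
      rw [← pow_add, Nat.add_sub_cancel' (by omega : i ≤ m)]
    rw [hm]
    linear_combination -(PowerSeries.C (LambdaOps.lam i e) * PowerSeries.X ^ i * PowerSeries.mk 1 ^ i) * hinv (m - i)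
  rw [← coeff_gammaSeries, hg, map_sum]
  refine sum_congr rfl fun i _ => ?_
  rw [PowerSeries.coeff_C_mul, PowerSeries.coeff_X_pow_mul']
  have hneg : (1 - PowerSeries.X : PowerSeries K) = PowerSeries.rescale (-1 : K) (lin 1) := by
    ext n
    rcases n with _ | _ | n <;> simp [lin, PowerSeries.coeff_X, PowerSeries.coeff_rescale]
  rw [hneg, ← map_pow, PowerSeries.coeff_rescale, coeff_lin_one_pow h1]
  split_ifs <;> simp

end linear

end Groth.Agent.Lambda
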