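import Groth.Agent.Lambda.Free
import Groth.Agent.Lambda.Fil
import Mathlib.RingTheory.MvPowerSeries.Inverse

/-!
# `ℚ[u_1, …, u_d]` with line elements, and the divisibility `λ_(-1)N ∣ λ^q(λ_(-1)N)`
-/

set_option autoImplicit false

open Finset LambdaRing MvPolynomial

namespace Groth.Agent.Lambda.Line

open Groth.Agent.Lambda

/-- `ℚ[u_1, …, u_d]`. -/
abbrev LQ (d : ℕ) : Type := MvPolynomial (Fin d) ℚ

variable {d : ℕ}

/-- `ψ^k`. -/
noncomputable def Psi (k : ℕ) : LQ d →ₐ[ℚ] LQ d := aeval fun i => X i ^ k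

/-- The family of Adams operations. -/
noncomputable def psiFam (d k : ℕ) : LQ d →+ LQ d := (Psi k).toRingHom.toAddMonoidHom

theorem psiFam_one (d : ℕ) : psiFam d 1 = AddMonoidHom.id (LQ d) := by
  refine AddMonoidHom.ext fun x => ?_
  simp [psiFam, Psi, aeval_X_left_apply]

/-- The λ-structure. -/
noncomputable scoped instance opsL : LambdaOps (LQ d) :=
  (exists_lambdaOps_rat (LQ d) (psiFam d) (psiFam_one d)).exists.choose

theorem adamsOp_eq (k : ℕ) (f : LQ d) : adamsOp (k + 1) f = Psi (k + 1) f :=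
  (exists_lambdaOps_rat (LQ d) (psiFam d) (psiFam_one d)).exists.choose_spec (k + 1) (by omega) f

theorem isSpecialL : IsSpecial (LQ d) :=
  isSpecial_of_adams
    (fun k hk => by obtain ⟨m, rfl⟩ : ∃ m, k = m + 1 := ⟨k - 1, by omega⟩; rw [adamsOp_eq, map_one])
    (fun k hk x y => by
      obtain ⟨m, rfl⟩ : ∃ m, k = m + 1 := ⟨k - 1, by omega⟩
      rw [adamsOp_eq, adamsOp_eq, adamsOp_eq, map_mul])
    (fun k k' hk hk' x => by
      obtain ⟨m, rfl⟩ : ∃ m, k = m + 1 := ⟨k - 1, by omega⟩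
      obtain ⟨m', rfl⟩ : ∃ m', k' = m' + 1 := ⟨k' - 1, by omega⟩
      have : (m + 1) * (m' + 1) = (m + 1) * m' + m + 1 := by ring
      rw [adamsOp_eq, adamsOp_eq, this, adamsOp_eq, ← this, ← AlgHom.comp_apply]
      congr 1
      exact algHom_ext fun i => by simp [Psi, ← pow_mul])

theorem lam_sum_X (i : ℕ) : LambdaOps.lam i (∑ a, (X a : LQ d)) = esymm (Fin d) ℚ i := by
  have h : lamSeries (∑ a, (X a : LQ d)) = linProd (univ.val.map (X : Fin d → LQ d)) := by
    refine ext_psi (constantCoeff_lamSeries _) (constantCoeff_linProd _) fun k => ?_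
    rw [← adamsOp_eq_psi, adamsOp_eq, psi_linProd, map_sum, Multiset.map_map, sum_map_val]
    exact sum_congr rfl fun a _ => by simp [Psi]
  rw [← coeff_lamSeries, h, coeff_linProd, esymm_eq_multiset_esymm]

theorem lam_sum_X_eq_zero (i : ℕ) (hi : d < i) : LambdaOps.lam i (∑ a, (X a : LQ d)) = 0 := by
  rw [lam_sum_X, esymm, powersetCard_eq_empty.2 (by simpa using hi), sum_empty]

/-- `∏ (1 - u_a)`. -/
noncomputable def lamMinus (d : ℕ) : LQ d := ∏ a, (1 - X a)

theorem sum_alt_esymm : ∑ i ∈ range (d + 1), (-1 : LQ d) ^ i * esymm (Fin d) ℚ i = lamMinus d := by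
  rw [lamMinus, prod_congr rfl fun a _ => (by ring : (1 : LQ d) - X a = -X a + 1), prod_add, sum_powerset,
    card_univ, Fintype.card_fin]
  refine sum_congr rfl fun i _ => ?_
  rw [esymm, mul_sum]
  refine sum_congr rfl fun t ht => ?_
  rw [prod_const_one, mul_one, prod_neg, (mem_powersetCard.1 ht).2]

theorem lamMinus_ne_zero : lamMinus d ≠ 0 := fun h => by
  simpa [lamMinus] using congrArg constantCoeff h

theorem dvd_lam_lamMinus (q : ℕ) : lamMinus d ∣ LambdaOps.lam (q + 1) (lamMinus d) := by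
  rw [← Ideal.mem_span_singleton, lam_eq_fc]
  refine Fil.fc_mem_const (fun k => ?_) q
  rw [Ideal.mem_span_singleton, adamsOp_eq, lamMinus, map_prod]
  exact prod_dvd_prod_of_dvd _ _ fun a _ =>
    ⟨∑ j ∈ range (k + 1), X a ^ j, by rw [map_sub, map_one, Psi, aeval_X, mul_neg_geom_sum]⟩

theorem constantCoeff_subst1 (p : LQ d) : constantCoeff (subst1 ℚ d p) = constantCoeff p := by
  refine RingHom.congr_fun (f := constantCoeff.comp (subst1 ℚ d).toRingHom) (g := constantCoeff) ?_ p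
  refine ringHom_ext (fun r => ?_) fun i => ?_
  · simp [subst1]
  · simp only [RingHom.comp_apply, AlgHom.toRingHom_eq_coe, RingHom.coe_coe, subst1, aeval_X, constantCoeff_X]
    rw [esymm, map_sum]
    refine sum_eq_zero fun t ht => ?_
    obtain ⟨a, ha⟩ := card_pos.1 (by rw [(mem_powersetCard.1 ht).2]; omega : 0 < t.card)
    rw [map_prod]
    exact prod_eq_zero ha (constantCoeff_X _ a)

theorem dvd_of_map_dvd {σ : Type*} {p q : MvPolynomial σ ℤ} (hp : constantCoeff p = 1)
    (h : MvPolynomial.map (Int.castRingHom ℚ) p ∣ MvPolynomial.map (Int.castRingHom ℚ) q) : p ∣ q := by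
  obtain ⟨H, hH⟩ := h
  let P : MvPowerSeries σ ℤ := p
  let Hs : MvPowerSeries σ ℤ := (q : MvPowerSeries σ ℤ) * MvPowerSeries.invOfUnit P 1
  have hinv : P * MvPowerSeries.invOfUnit P 1 = 1 :=
    MvPowerSeries.mul_invOfUnit P 1 (by
      rw [← MvPowerSeries.coeff_zero_eq_constantCoeff_apply, MvPolynomial.coeff_coe, ← constantCoeff_eq, hp,
        Units.val_one])
  have hcoe : ∀ r : MvPolynomial σ ℤ, MvPowerSeries.map (Int.castRingHom ℚ) (r : MvPowerSeries σ ℤ) =
      ((MvPolynomial.map (Int.castRingHom ℚ) r : MvPolynomial σ ℚ) : MvPowerSeries σ ℚ) := fun r => by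
    ext x
    rw [MvPowerSeries.coeff_map, MvPolynomial.coeff_coe, MvPolynomial.coeff_coe, MvPolynomial.coeff_map]
  have hHs : MvPowerSeries.map (Int.castRingHom ℚ) Hs = (H : MvPowerSeries σ ℚ) := by
    have e : MvPowerSeries.map (Int.castRingHom ℚ) P *
        MvPowerSeries.map (Int.castRingHom ℚ) (MvPowerSeries.invOfUnit P 1) = 1 := by
      rw [← map_mul, hinv, map_one]
    calc MvPowerSeries.map (Int.castRingHom ℚ) Hs
        = (MvPowerSeries.map (Int.castRingHom ℚ) P * (H : MvPowerSeries σ ℚ)) *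
            MvPowerSeries.map (Int.castRingHom ℚ) (MvPowerSeries.invOfUnit P 1) := by
          rw [map_mul, hcoe, hH, MvPolynomial.coe_mul, hcoe]
      _ = (H : MvPowerSeries σ ℚ) := by rw [mul_right_comm, e, one_mul]
  have hrange : H ∈ (MvPolynomial.map (Int.castRingHom ℚ) : MvPolynomial σ ℤ →+* _).range := by
    rw [H.as_sum]
    refine Subring.sum_mem _ fun x _ => ⟨monomial x (MvPowerSeries.coeff x Hs), ?_⟩
    rw [map_monomial, ← MvPowerSeries.coeff_map, hHs, MvPolynomial.coeff_coe]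
  obtain ⟨H', rfl⟩ := hrange
  exact ⟨H', map_injective _ Int.cast_injective (by rw [hH, map_mul])⟩

open scoped Groth.Agent.Lambda.Free
open Groth.Agent.Lambda.Free (FZ evZ evZ_lam)

/-- From γ-coordinates to the first `d` λ-coordinates. -/
noncomputable def theta (d : ℕ) : FZ Unit →+* MvPolynomial (Fin d) ℤ :=
  (aeval fun v : Unit × ℕ => ∑ j : Fin d, (v.2.choose j : MvPolynomial (Fin d) ℤ) * X j :
    FZ Unit →ₐ[ℤ] MvPolynomial (Fin d) ℤ).toRingHom

variable {K : Type*} [CommRing K] [LambdaOps K]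

theorem aeval_theta {w : K} (hw : ∀ i, d < i → LambdaOps.lam i w = 0) (f : FZ Unit) :
    aeval (fun i : Fin d => LambdaOps.lam ((i : ℕ) + 1) w) (theta d f) = evZ (fun _ => w) f := by
  refine RingHom.congr_fun
    (f := (aeval fun i : Fin d => LambdaOps.lam ((i : ℕ) + 1) w : MvPolynomial (Fin d) ℤ →ₐ[ℤ] K).toRingHom.comp
      (theta d)) (g := evZ fun _ => w) (ringHom_ext' (RingHom.ext_int _ _) fun v => ?_) f
  obtain ⟨_, n⟩ := v
  simp only [RingHom.comp_apply, AlgHom.toRingHom_eq_coe, RingHom.coe_coe, theta, aeval_X, map_sum, map_mul,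
    map_natCast, Free.evZ_X, gamma_succ]
  rw [Fin.sum_univ_eq_sum_range (fun j => (n.choose j : K) * LambdaOps.lam (j + 1) w) d]
  trans ∑ j ∈ range (d + (n + 1)), (n.choose j : K) * LambdaOps.lam (j + 1) w
  · refine sum_subset (range_mono (Nat.le_add_right d _)) fun j _ hj => ?_
    rw [mem_range] at hj
    rw [hw _ (by omega), mul_zero]
  · refine (sum_subset (range_mono (Nat.le_add_left _ d)) fun j _ hj => ?_).symm
    rw [mem_range] at hj
    rw [Nat.choose_eq_zero_of_lt (by omega), Nat.cast_zero, zero_mul]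

/-- `λ_(-1)` of the generator. -/
noncomputable def freeMinus (d : ℕ) : FZ Unit :=
  ∑ i ∈ range (d + 1), (-1 : FZ Unit) ^ i * LambdaOps.lam i (X ((), 0) : FZ Unit)

theorem evZ_freeMinus (hK : IsSpecial K) (w : K) :
    evZ (fun _ => w) (freeMinus d) = ∑ i ∈ range (d + 1), (-1 : K) ^ i * LambdaOps.lam i w := by
  simp only [freeMinus, map_sum, map_mul, map_pow, map_neg, map_one, evZ_lam hK, Free.evZ_X, zero_add, gamma_one]

theorem dvd_theta (q : ℕ) : theta d (freeMinus d) ∣ theta d (LambdaOps.lam (q + 1) (freeMinus d)) := by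
  have hw := lam_sum_X_eq_zero (d := d)
  have hsub : ∀ f, subst1 ℚ d (MvPolynomial.map (Int.castRingHom ℚ) (theta d f)) =
      evZ (fun _ => ∑ a, (X a : LQ d)) f := fun f => by
    rw [← aeval_theta hw, subst1, ← algebraMap_int_eq, aeval_map_algebraMap]
    exact congrArg (fun g => aeval g (theta d f)) (funext fun i => (lam_sum_X _).symm)
  have hM : subst1 ℚ d (MvPolynomial.map (Int.castRingHom ℚ) (theta d (freeMinus d))) = lamMinus d := by
    rw [hsub, evZ_freeMinus isSpecialL]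
    simp only [lam_sum_X, sum_alt_esymm]
  have hc : constantCoeff (theta d (freeMinus d)) = 1 := by
    have h := congrArg constantCoeff hM
    rw [constantCoeff_subst1, constantCoeff_map] at h
    simpa [lamMinus] using h
  refine dvd_of_map_dvd hc ?_
  set G := MvPolynomial.map (Int.castRingHom ℚ) (theta d (LambdaOps.lam (q + 1) (freeMinus d))) with hG
  set M := MvPolynomial.map (Int.castRingHom ℚ) (theta d (freeMinus d)) with hM'
  obtain ⟨H, hH⟩ : subst1 ℚ d M ∣ subst1 ℚ d G := by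
    have h : subst1 ℚ d G = LambdaOps.lam (q + 1) (subst1 ℚ d M) := by
      rw [hG, hM', hsub, hsub, evZ_lam isSpecialL]
    rw [h, hM]
    exact dvd_lam_lamMinus q
  have hsymm : H.IsSymmetric := by
    intro e
    have h1 : ∀ p : LQ d, rename e (subst1 ℚ d p) = subst1 ℚ d p := fun p => by
      rw [subst1_eq]; exact (esymmAlgHom (Fin d) ℚ d p).2 e
    have := congrArg (rename e) hH
    rw [map_mul, h1, h1, hH] at this
    exact (mul_left_cancel₀ (hM ▸ lamMinus_ne_zero) this).symm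
  obtain ⟨H', hH'⟩ := esymmAlgHom_surjective (σ := Fin d) ℚ (Fintype.card_fin d).le ⟨H, hsymm⟩
  refine ⟨H', subst1_injective ℚ d ?_⟩
  rw [map_mul, hH, subst1_eq ℚ d H', hH']

theorem dvd_lam_alt (hK : IsSpecial K) {N : K} (hN : ∀ i, d < i → LambdaOps.lam i N = 0) (q : ℕ) :
    (∑ i ∈ range (d + 1), (-1 : K) ^ i * LambdaOps.lam i N) ∣
      LambdaOps.lam (q + 1) (∑ i ∈ range (d + 1), (-1 : K) ^ i * LambdaOps.lam i N) := by
  have h := map_dvd (aeval fun i : Fin d => LambdaOps.lam ((i : ℕ) + 1) N) (dvd_theta (d := d) q)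
  rwa [aeval_theta hN, aeval_theta hN, evZ_lam hK, evZ_freeMinus hK] at h

end Groth.Agent.Lambda.Line
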