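import Groth.Agent.Lambda.AugFil
import Mathlib.Algebra.MvPolynomial.Division
import Groth.Agent.Lambda.LineRing
import Groth.Agent.Lambda.Alt

/-!
# Dividing `γ^(d+i)(x · λ_(-1)N)` by `λ_(-1)N`
-/

set_option autoImplicit false

open Finset LambdaRing MvPolynomial

namespace Groth.Agent.Lambda.AltDiv

open Groth.Agent.Lambda
open scoped Groth.Agent.Lambda.Free Groth.Agent.Lambda.Line
open Groth.Agent.Lambda.Free (FZ evZ evZ_lam evZ_gamma evZ_X evZ_mem)
open Groth.Agent.Lambda.Line (LQ lamMinus)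

universe u v

/-- `Σ u_a - d`. -/
noncomputable def uv (d : ℕ) : LQ d := (∑ a, X a) - (d : LQ d)

/-- γ-coordinates up to `d`. -/
noncomputable def theta' (d : ℕ) : FZ Unit →+* MvPolynomial (Fin d) ℤ :=
  (aeval fun v : Unit × ℕ => if h : v.2 < d then (X ⟨v.2, h⟩ : MvPolynomial (Fin d) ℤ) else 0 :
    FZ Unit →ₐ[ℤ] MvPolynomial (Fin d) ℤ).toRingHom

/-- `u_a ↦ u_a - 1`. -/
noncomputable def shift (d : ℕ) : LQ d →ₐ[ℚ] LQ d := aeval fun a => X a - 1

theorem shift_injective (d : ℕ) : Function.Injective (shift d) := by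
  have h : (aeval fun a => (X a + 1 : LQ d)).comp (shift d) = AlgHom.id ℚ (LQ d) :=
    algHom_ext fun a => by simp [shift]
  intro p q hpq
  have := congrArg (aeval fun a => (X a + 1 : LQ d)) hpq
  rwa [← AlgHom.comp_apply, ← AlgHom.comp_apply, h] at this

theorem gamma_uv (d k : ℕ) :
    gamma k (uv d) = ((univ : Finset (Fin d)).val.map fun a => (X a - 1 : LQ d)).esymm k := by
  have hl : ∀ u ∈ (univ : Finset (Fin d)).val.map (X : Fin d → LQ d), ∀ j, 2 ≤ j → LambdaOps.lam j u = 0 := by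
    intro u hu j hj
    obtain ⟨a, -, rfl⟩ := Multiset.mem_map.1 hu
    have h : lamSeries (X a : LQ d) = lin (X a) :=
      ext_psi (constantCoeff_lamSeries _) (constantCoeff_lin _) fun k => by
        rw [← adamsOp_eq_psi, Line.adamsOp_eq, psi_lin]; simp [Line.Psi]
    rw [← coeff_lamSeries, h]
    obtain ⟨m, rfl⟩ : ∃ m, j = m + 2 := ⟨j - 2, by omega⟩
    simp [lin]
  have h1 : ∀ j, 2 ≤ j → LambdaOps.lam j (1 : LQ d) = 0 := Line.isSpecialL.lam_one_eq_zero
  have h := gamma_sum_sub_card h1 _ hl k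
  rw [Multiset.card_map, card_val, card_univ, Fintype.card_fin, Multiset.map_map] at h
  exact h

theorem evZ_uv (d : ℕ) (f : FZ Unit) :
    evZ (fun _ => uv d) f = shift d (subst1 ℚ d (MvPolynomial.map (Int.castRingHom ℚ) (theta' d f))) := by
  refine RingHom.congr_fun (f := evZ fun _ => uv d)
    (g := (shift d).toRingHom.comp ((subst1 ℚ d).toRingHom.comp
      ((MvPolynomial.map (Int.castRingHom ℚ)).comp (theta' d))))
    (ringHom_ext' (RingHom.ext_int _ _) fun v => ?_) f
  obtain ⟨_, k⟩ := v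
  rw [Free.evZ_X, gamma_uv]
  simp only [RingHom.comp_apply, AlgHom.toRingHom_eq_coe, RingHom.coe_coe, theta', aeval_X]
  split_ifs with h
  · simp [subst1, shift, aeval_esymm_eq_multiset_esymm]
  · simp only [map_zero]
    rw [Multiset.esymm, Multiset.powersetCard_eq_empty _ (by simp; omega)]
    simp

variable {σ : Type} {d : ℕ}

/-- Truncation of the distinguished generator. -/
noncomputable def trunc (d : ℕ) : FZ (Option σ) →+* FZ (Option σ) :=
  (aeval fun v : Option σ × ℕ => if v.1 = none ∧ d ≤ v.2 then (0 : FZ (Option σ)) else X v :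
    FZ (Option σ) →ₐ[ℤ] FZ (Option σ)).toRingHom

theorem trunc_mem {m : ℕ} {f : FZ (Option σ)} (hf : f ∈ (wFil ℤ (Option σ)).W m) :
    trunc d f ∈ (wFil ℤ (Option σ)).W m := by
  refine (wFil ℤ (Option σ)).aeval_mem (wt (Option σ)) _ (fun v => ?_) f (mem_wFil_iff_support.1 hf)
  split_ifs
  · exact zero_mem _
  · exact X_mem_wFil v.1 v.2

/-- The universal element `n`. -/
noncomputable def nn (σ : Type) : FZ (Option σ) := X (none, 0)

theorem trunc_evZ (f g : FZ Unit) (h : evZ (fun _ => uv d) f = evZ (fun _ => uv d) g) :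
    trunc d (evZ (fun _ => nn σ) f) = trunc d (evZ (fun _ => nn σ) g) := by
  have hθ : theta' d f = theta' d g := by
    rw [evZ_uv, evZ_uv] at h
    exact map_injective _ Int.cast_injective (subst1_injective ℚ d (shift_injective d h))
  have key : ∀ f, trunc d (evZ (fun _ => nn σ) f) =
      rename (fun j : Fin d => ((none : Option σ), (j : ℕ))) (theta' d f) := by
    intro f
    refine RingHom.congr_fun (f := (trunc d).comp (evZ fun _ => nn σ))
      (g := (rename (fun j : Fin d => ((none : Option σ), (j : ℕ)))).toRingHom.comp (theta' d))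
      (ringHom_ext' (RingHom.ext_int _ _) fun v => ?_) f
    obtain ⟨_, k⟩ := v
    simp only [RingHom.comp_apply, Free.evZ_X, nn, Free.gammaZ_X0, AlgHom.toRingHom_eq_coe, RingHom.coe_coe,
      trunc, theta', aeval_X, true_and]
    split_ifs with h1 h2 h2
    · omega
    · simp
    · simp
    · omega
  rw [key, key, hθ]

/-- `(-1)^d γ^d(n)`. -/
noncomputable def altU (d : ℕ) : FZ Unit := (-1) ^ d * gamma d (X ((), 0) : FZ Unit)

/-- `λ_(-1)(n + d)`. -/
noncomputable def altL (d : ℕ) : FZ Unit :=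
  ∑ j ∈ range (d + 1), (-1 : FZ Unit) ^ j * LambdaOps.lam j (X ((), 0) + (d : FZ Unit))

theorem evZ_altU (d : ℕ) : evZ (fun _ => uv d) (altU d) = lamMinus d := by
  rw [altU, map_mul, map_pow, map_neg, map_one, evZ_gamma Line.isSpecialL, Free.evZ_X, zero_add, gamma_one, gamma_uv]
  have hc : Multiset.card ((univ : Finset (Fin d)).val.map fun a => (X a - 1 : LQ d)) = d := by simp
  conv_lhs => arg 2; arg 2; rw [← hc]
  rw [esymm_card, lamMinus, prod_map_val]
  rw [show (-1 : LQ d) ^ d = ∏ _a : Fin d, (-1 : LQ d) by simp, ← prod_mul_distrib]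
  exact prod_congr rfl fun a _ => by ring

theorem evZ_altL (d : ℕ) : evZ (fun _ => uv d) (altL d) = lamMinus d := by
  simp only [altL, map_sum, map_mul, map_pow, map_neg, map_one, evZ_lam Line.isSpecialL, map_add, map_natCast,
    Free.evZ_X, zero_add, gamma_one, uv, sub_add_cancel, Line.lam_sum_X, Line.sum_alt_esymm]

/-- The truncated `λ_(-1)`. -/
noncomputable def altM (σ : Type) (d : ℕ) : FZ (Option σ) := evZ (fun _ => nn σ) (altU d)

theorem altM_eq (hd : 1 ≤ d) : altM σ d = (-1) ^ d * X (none, d - 1) := by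
  obtain ⟨e, rfl⟩ : ∃ e, d = e + 1 := ⟨d - 1, by omega⟩
  rw [altM, altU, map_mul, map_pow, map_neg, map_one, evZ_gamma Free.isSpecialZ, Free.evZ_X, nn, zero_add,
    gamma_one, Free.gammaZ_X0, Nat.add_sub_cancel]

theorem dvd_trunc_lam (hd : 1 ≤ d) (q : ℕ) :
    (X (none, d - 1) : FZ (Option σ)) ∣ trunc d (LambdaOps.lam (q + 1) (altM σ d)) := by
  obtain ⟨e, rfl⟩ : ∃ e, d = e + 1 := ⟨d - 1, by omega⟩
  rw [altM, ← evZ_lam Free.isSpecialZ]
  set G := theta' (e + 1) (LambdaOps.lam (q + 1) (altU (e + 1))) with hG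
  have key : trunc (e + 1) (evZ (fun _ => nn σ) (LambdaOps.lam (q + 1) (altU (e + 1)))) =
      rename (fun j : Fin (e + 1) => ((none : Option σ), (j : ℕ))) G := by
    refine RingHom.congr_fun (f := (trunc (e + 1)).comp (evZ fun _ => nn σ))
      (g := (rename (fun j : Fin (e + 1) => ((none : Option σ), (j : ℕ)))).toRingHom.comp (theta' (e + 1)))
      (ringHom_ext' (RingHom.ext_int _ _) fun v => ?_) _
    obtain ⟨_, k⟩ := v
    simp only [RingHom.comp_apply, Free.evZ_X, nn, Free.gammaZ_X0, AlgHom.toRingHom_eq_coe, RingHom.coe_coe,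
      trunc, theta', aeval_X, true_and]
    split_ifs with h1 h2 h2
    · omega
    · simp
    · simp
    · omega
  rw [key]
  suffices h : (X ⟨e, Nat.lt_succ_self e⟩ : MvPolynomial (Fin (e + 1)) ℤ) ∣ G by
    have := map_dvd (rename fun j : Fin (e + 1) => ((none : Option σ), (j : ℕ))) h
    simpa using this
  obtain ⟨H, hH⟩ : lamMinus (e + 1) ∣ shift (e + 1) (subst1 ℚ (e + 1) (MvPolynomial.map (Int.castRingHom ℚ) G)) := by
    rw [hG, ← evZ_uv, evZ_lam Line.isSpecialL, evZ_altU]
    exact Line.dvd_lam_lamMinus q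
  obtain ⟨H₁, hH₁⟩ : ∃ H₁, shift (e + 1) H₁ = H :=
    ⟨aeval (fun a => (X a + 1 : LQ (e + 1))) H, by
      rw [shift, ← AlgHom.comp_apply, show (aeval fun a => (X a - 1 : LQ (e + 1))).comp
        (aeval fun a => (X a + 1 : LQ (e + 1))) = AlgHom.id ℚ _ from algHom_ext fun a => by simp,
        AlgHom.id_apply]⟩
  have hG' : subst1 ℚ (e + 1) (MvPolynomial.map (Int.castRingHom ℚ) G) =
      ((-1) ^ (e + 1) * ∏ a, X a) * H₁ := by
    refine shift_injective (e + 1) ?_
    rw [hH, map_mul, hH₁]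
    congr 1
    rw [lamMinus, show (-1 : LQ (e + 1)) ^ (e + 1) = ∏ _a : Fin (e + 1), (-1 : LQ (e + 1)) by simp,
      ← prod_mul_distrib, map_prod]
    exact prod_congr rfl fun a _ => by simp [shift]
  have hsym : H₁.IsSymmetric := by
    intro π
    have h1 : ∀ p : LQ (e + 1), rename π (subst1 ℚ (e + 1) p) = subst1 ℚ (e + 1) p := fun p => by
      rw [subst1_eq]; exact (esymmAlgHom (Fin (e + 1)) ℚ (e + 1) p).2 π
    have := congrArg (rename π) hG'
    rw [h1, map_mul, map_mul, map_prod, map_pow, map_neg, map_one] at this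
    simp only [rename_X] at this
    rw [Equiv.prod_comp π (fun a => (X a : LQ (e + 1))), hG'] at this
    refine (mul_left_cancel₀ ?_ this).symm
    exact mul_ne_zero (pow_ne_zero _ (neg_ne_zero.2 one_ne_zero)) (prod_ne_zero_iff.2 fun a _ => X_ne_zero a)
  obtain ⟨H₂, hH₂⟩ := esymmAlgHom_surjective (σ := Fin (e + 1)) ℚ (Fintype.card_fin (e + 1)).le ⟨H₁, hsym⟩
  have hGQ : MvPolynomial.map (Int.castRingHom ℚ) G =
      X ⟨e, Nat.lt_succ_self e⟩ * ((-1) ^ (e + 1) * H₂) := by
    refine subst1_injective ℚ (e + 1) ?_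
    rw [hG', map_mul, map_mul, map_pow, map_neg, map_one, subst1_eq ℚ (e + 1) H₂, hH₂]
    have he : subst1 ℚ (e + 1) (X ⟨e, Nat.lt_succ_self e⟩) = ∏ a, X a := by
      rw [subst1, aeval_X, esymm]
      have hu : powersetCard (e + 1) (univ : Finset (Fin (e + 1))) = {univ} := by
        conv_lhs => arg 1; rw [← Fintype.card_fin (e + 1), ← card_univ]
        exact powersetCard_self _
      rw [hu, sum_singleton]
    rw [he]
    ring
  rw [MvPolynomial.as_sum G]
  refine dvd_sum fun m hm => X_dvd_monomial.2 (Or.inr fun h0 => ?_)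
  have := congrArg (MvPolynomial.coeff m) hGQ
  rw [coeff_map, coeff_X_mul', if_neg (Finsupp.notMem_support_iff.2 h0)] at this
  exact MvPolynomial.mem_support_iff.1 hm (Int.cast_injective (this.trans Int.cast_zero.symm))

theorem dvd_trunc_gamma (hd : 1 ≤ d) (f : FZ (Option σ)) (q : ℕ) :
    (X (none, d - 1) : FZ (Option σ)) ∣ trunc d (gamma (q + 1) (f * altM σ d)) := by
  rw [gamma_succ, map_sum]
  refine dvd_sum fun j _ => ?_
  rw [map_mul]
  refine Dvd.dvd.mul_left ?_ _
  obtain ⟨P, hP⟩ := exists_isMulPoly (j + 1)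
  rw [Free.isSpecialZ.lam_mul (j + 1) P hP, MvPolynomial.as_sum P, map_sum, map_sum]
  refine dvd_sum fun m hm => ?_
  rw [MvPolynomial.aeval_monomial, map_mul]
  refine Dvd.dvd.mul_left ?_ _
  obtain ⟨t, ht⟩ : ∃ t : Fin (j + 1), m (Sum.inr t) ≠ 0 := by
    by_contra hcon
    simp only [not_exists, not_not] at hcon
    have h := congrArg Prod.snd (hP.2 (MvPolynomial.mem_support_iff.1 hm))
    rw [Finsupp.weight_apply, Finsupp.sum, Prod.snd_sum] at h
    rw [Finset.sum_eq_zero fun i _ => ?_] at h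
    · exact absurd h (by simp only; omega)
    · cases i with
      | inl a => simp
      | inr a => simp [hcon a]
  refine dvd_trans ?_ (map_dvd (trunc d) (Finset.dvd_prod_of_mem _ (Finsupp.mem_support_iff.2 ht)))
  rw [map_pow]
  exact dvd_pow (dvd_trunc_lam hd t) ht

theorem mem_of_X_mul_mem {τ : Type} {a : ℕ} {v : τ × ℕ} {p : FZ τ}
    (h : X v * p ∈ (wFil ℤ τ).W (a + (v.2 + 1))) : p ∈ (wFil ℤ τ).W a := by
  classical
  intro m hm
  have := h (m + Finsupp.single v 1) (by rw [map_add, Finsupp.weight_single]; simp [wt]; omega)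
  rw [coeff_X_mul', if_pos (by simp), add_tsub_cancel_right] at this
  exact this

theorem trunc_rename_some (f : FZ σ) :
    trunc d (rename (fun v : σ × ℕ => (some v.1, v.2)) f) = rename (fun v : σ × ℕ => (some v.1, v.2)) f := by
  refine RingHom.congr_fun (f := (trunc d).comp (rename fun v : σ × ℕ => (some v.1, v.2)).toRingHom)
    (g := (rename fun v : σ × ℕ => (some v.1, v.2)).toRingHom) (ringHom_ext' (RingHom.ext_int _ _) fun v => ?_) f
  simp [trunc]

theorem rename_some_mem {m : ℕ} {f : FZ σ} (hf : f ∈ (wFil ℤ σ).W m) :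
    rename (fun v : σ × ℕ => (some v.1, v.2)) f ∈ (wFil ℤ (Option σ)).W m :=
  by
    rw [show rename (fun v : σ × ℕ => (some v.1, v.2)) =
      (aeval fun v : σ × ℕ => (X (some v.1, v.2) : FZ (Option σ))) from algHom_ext fun v => by simp]
    exact (wFil ℤ (Option σ)).aeval_mem (wt σ) _ (fun v => X_mem_wFil (some v.1) v.2) f (mem_wFil_iff_support.1 hf)

theorem altM_mem (hd : 1 ≤ d) : altM σ d ∈ (wFil ℤ (Option σ)).W d := by
  obtain ⟨e, rfl⟩ : ∃ e, d = e + 1 := ⟨d - 1, by omega⟩
  rw [altM_eq hd, Nat.add_sub_cancel]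
  exact Ideal.mul_mem_left _ _ (X_mem_wFil none e)

theorem exists_quotient (hd : 1 ≤ d) (i : ℕ) {f : FZ σ} (hf : f ∈ (wFil ℤ σ).W i) :
    ∃ H : FZ (Option σ), H ∈ (wFil ℤ (Option σ)).W (i + 1) ∧
      trunc d (gamma (d + i) (rename (fun v : σ × ℕ => (some v.1, v.2)) f * altM σ d) -
        (-1) ^ (d + i - 1) * ((d + i - 1).factorial : FZ (Option σ)) *
          (rename (fun v : σ × ℕ => (some v.1, v.2)) f * altM σ d)) = altM σ d * H := by
  obtain ⟨q, hq⟩ : ∃ q, d + i = q + 1 := ⟨d + i - 1, by omega⟩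
  rw [hq, Nat.add_sub_cancel]
  set f' := rename (fun v : σ × ℕ => (some v.1, v.2)) f
  have hmem : f' * altM σ d ∈ (wFil ℤ (Option σ)).W (q + 1) := by
    rw [← hq, add_comm]; exact (wFil ℤ _).mul (rename_some_mem hf) (altM_mem hd)
  set D := gamma (q + 1) (f' * altM σ d) - (-1) ^ q * (q.factorial : FZ (Option σ)) * (f' * altM σ d) with hD
  have hDmem : trunc d D ∈ (wFil ℤ (Option σ)).W (q + 2) := trunc_mem (Free.gammaZ_congr hmem)
  have htM : trunc d (altM σ d) = altM σ d := by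
    rw [altM_eq hd, map_mul, map_pow, map_neg, map_one, trunc]
    simp [show ¬ d ≤ d - 1 by omega]
  have hdvd : (X (none, d - 1) : FZ (Option σ)) ∣ trunc d D := by
    rw [hD, map_sub]
    refine dvd_sub (dvd_trunc_gamma hd f' q) ?_
    rw [map_mul (trunc d) _ (f' * altM σ d), map_mul (trunc d) f' (altM σ d), htM, altM_eq hd]
    exact Dvd.dvd.mul_left (Dvd.dvd.mul_left (Dvd.dvd.mul_left dvd_rfl _) _) _
  obtain ⟨H, hH⟩ := hdvd
  refine ⟨(-1) ^ d * H, Ideal.mul_mem_left _ _ (mem_of_X_mul_mem (v := ((none : Option σ), d - 1)) ?_), ?_⟩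
  · rw [← hH]
    rwa [show i + 1 + (d - 1 + 1) = q + 2 by omega]
  · rw [altM_eq hd, hH,
      show ((-1 : FZ (Option σ)) ^ d * X (none, d - 1)) * ((-1) ^ d * H) =
        ((-1) ^ d * (-1) ^ d) * (X (none, d - 1) * H) by ring,
      ← pow_add, ← two_mul, pow_mul, neg_one_sq, one_pow, one_mul]

section eval

variable {K : Type u} [CommRing K] [LambdaOps K] [BinomialRing K] {A : Type v} [CommRing A] [LambdaOps A]
  [Algebra K A] (hKb : IsBinomial K) (hA : IsSpecial A) (ε : A →ₐ[K] K) (hε : IsAugLambdaAlg K A ε)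
  (hd : 1 ≤ d) (N : A) (hN : ∀ k, d < k → LambdaOps.lam k N = 0) (hNε : ε N = (d : K))

/-- `λ_(-1)(N)`. -/
def Malt (d : ℕ) (N : A) : A := ∑ j ∈ range (d + 1), (-1 : A) ^ j * LambdaOps.lam j N

include hA hε hd hN hNε

theorem eval_data (hσ : σ → A) (hσε : ∀ s, ε (hσ s) = 0) :
    evZ (fun o : Option σ => o.elim (N - (d : A)) hσ) (altM σ d) = Malt d N ∧
    (∀ f, evZ (fun o : Option σ => o.elim (N - (d : A)) hσ) (trunc d f) =
      evZ (fun o : Option σ => o.elim (N - (d : A)) hσ) f) ∧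
    ∀ {m : ℕ} {f : FZ (Option σ)}, f ∈ (wFil ℤ (Option σ)).W m →
      evZ (fun o : Option σ => o.elim (N - (d : A)) hσ) f ∈ gammaFil (ε : A →+* K) m := by
  set x : Option σ → A := fun o => o.elim (N - (d : A)) hσ with hx
  have hxε : ∀ o, ε (x o) = 0 := fun o => by
    cases o with
    | none => simp [hx, hNε]
    | some s => simp [hx, hσε s]
  have h1 : ∀ j, 2 ≤ j → LambdaOps.lam j (1 : A) = 0 := hA.lam_one_eq_zero
  have hvan : ∀ k, d ≤ k → gamma (k + 1) (N - (d : A)) = 0 := fun k hk => by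
    rw [gamma_sub_natCast h1 N d hN]
    refine sum_eq_zero fun j hj => ?_
    rw [mem_range] at hj
    rw [Nat.choose_eq_zero_of_lt (show d - j < k + 1 - j by omega), Nat.cast_zero, mul_zero, mul_zero, ite_self]
  have htr : ∀ f, evZ x (trunc d f) = evZ x f := fun f => by
    refine RingHom.congr_fun (f := (evZ x).comp (trunc d)) (g := evZ x)
      (ringHom_ext' (RingHom.ext_int _ _) fun v => ?_) f
    obtain ⟨o, k⟩ := v
    simp only [RingHom.comp_apply, trunc, AlgHom.toRingHom_eq_coe, RingHom.coe_coe, aeval_X]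
    split_ifs with h
    · obtain ⟨rfl, hk⟩ := h
      rw [map_zero, Free.evZ_X]; exact (hvan k hk).symm
    · rfl
  have hev : ∀ f : FZ Unit, evZ x (evZ (fun _ => nn σ) f) = evZ (fun _ => N - (d : A)) f := fun f => by
    refine RingHom.congr_fun (f := (evZ x).comp (evZ fun _ => nn σ)) (g := evZ fun _ => N - (d : A))
      (ringHom_ext' (RingHom.ext_int _ _) fun v => ?_) f
    obtain ⟨_, k⟩ := v
    simp [Free.evZ_X, nn, Free.gammaZ_X0, hx]
  refine ⟨?_, htr, fun {m f} hf => evZ_mem (gammaFilFil (ε : A →+* K)) x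
    (fun o k => gamma_mem_gammaFil _ (hxε o) _) hf⟩
  rw [← htr, altM, ← trunc_evZ (altL d) (altU d) ((evZ_altL d).trans (evZ_altU d).symm), htr, hev]
  simp only [altL, Malt, map_sum, map_mul, map_pow, map_neg, map_one, evZ_lam hA, map_add, map_natCast,
    Free.evZ_X, zero_add, gamma_one, sub_add_cancel]

theorem Malt_mem : Malt d N ∈ gammaFil (ε : A →+* K) d := by
  obtain ⟨h1, _, h3⟩ := eval_data (σ := PEmpty) hA ε hε hd N hN hNε PEmpty.elim (fun s => s.elim)
  exact h1 ▸ h3 (altM_mem hd)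

theorem key_eval (i : ℕ) (x : σ → A) (hx : ∀ s, ε (x s) = 0) {f : FZ σ} (hf : f ∈ (wFil ℤ σ).W i) :
    (∀ a, gamma (a + 1) (evZ x f * Malt d N) ∈ Ideal.span {Malt d N}) ∧
      gamma (d + i) (evZ x f * Malt d N) -
        (-1) ^ (d + i - 1) * ((d + i - 1).factorial : A) * (evZ x f * Malt d N) ∈
        Ideal.span {Malt d N} * gammaFil (ε : A →+* K) (i + 1) := by
  obtain ⟨hM, htr, hmem⟩ := eval_data (σ := σ) hA ε hε hd N hN hNε x hx
  have hev : evZ (fun o : Option σ => o.elim (N - (d : A)) x) (rename (fun v : σ × ℕ => (some v.1, v.2)) f) =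
      evZ x f := by
    refine RingHom.congr_fun (f := (evZ fun o : Option σ => o.elim (N - (d : A)) x).comp
        (rename fun v : σ × ℕ => (some v.1, v.2)).toRingHom)
      (g := evZ x) (ringHom_ext' (RingHom.ext_int _ _) fun v => ?_) f
    simp [Free.evZ]
  obtain ⟨H, hH, heq⟩ := exists_quotient hd i hf
  have hdvd := fun a => dvd_trunc_gamma (σ := σ) hd (rename (fun v : σ × ℕ => (some v.1, v.2)) f) a
  generalize rename (fun v : σ × ℕ => (some v.1, v.2)) f = f' at hev heq hdvd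
  generalize (fun o : Option σ => o.elim (N - (d : A)) x) = y at hM htr hmem hev
  have hγ : ∀ p, gamma p (evZ x f * Malt d N) = evZ y (trunc d (gamma p (f' * altM σ d))) := fun p => by
    rw [htr, evZ_gamma hA, map_mul, hev, hM]
  refine ⟨fun a => ?_, ?_⟩
  · rw [hγ, ← hM, Ideal.mem_span_singleton]
    refine map_dvd (evZ y) (dvd_trans ⟨(-1) ^ d, ?_⟩ (hdvd a))
    rw [altM_eq hd, mul_comm, ← mul_assoc, ← pow_add, ← two_mul, pow_mul, neg_one_sq, one_pow, one_mul]
  · have h := congrArg (evZ y) heq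
    rw [htr, map_sub, evZ_gamma hA] at h
    simp only [map_mul, map_pow, map_neg, map_one, map_natCast, hev, hM] at h
    rw [h]
    exact Ideal.mul_mem_mul (Ideal.mem_span_singleton_self _) (hmem hH)

theorem key_list (i : ℕ) (l : List (ℕ × A)) (hl : ∀ p ∈ l, (ε : A →+* K) p.2 = 0)
    (hn : i ≤ (l.map Prod.fst).sum) :
    (∀ a, gamma (a + 1) ((l.map fun p => gamma p.1 p.2).prod * Malt d N) ∈ Ideal.span {Malt d N}) ∧
      gamma (d + i) ((l.map fun p => gamma p.1 p.2).prod * Malt d N) -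
        (-1) ^ (d + i - 1) * ((d + i - 1).factorial : A) * ((l.map fun p => gamma p.1 p.2).prod * Malt d N) ∈
        Ideal.span {Malt d N} * gammaFil (ε : A →+* K) (i + 1) := by
  let x : Fin l.length → A := fun s => (l[(s : ℕ)]).2
  let g : Fin l.length → FZ (Fin l.length) := fun s => gamma (l[(s : ℕ)]).1 (X (s, 0))
  have hev : evZ x (∏ s, g s) = (l.map fun p => gamma p.1 p.2).prod := by
    rw [map_prod, ← Fin.prod_univ_fun_getElem]
    refine prod_congr rfl fun s _ => ?_
    simp only [g]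
    rw [evZ_gamma hA, Free.evZ_X, zero_add, gamma_one]
  have hf : ∏ s, g s ∈ (wFil ℤ (Fin l.length)).W i := by
    refine (wFil ℤ _).anti (hn.trans (Fin.sum_univ_fun_getElem l Prod.fst).ge)
      ((wFil ℤ _).prod_mem univ g _ fun s _ => ?_)
    simp only [g]
    rcases (l[(s : ℕ)]).1 with _ | j
    · exact (wFil ℤ _).mem_zero _
    · rw [Free.gammaZ_X0]; exact X_mem_wFil s j
  rw [← hev]
  exact key_eval hA ε hε hd N hN hNε i x (fun s => hl _ (List.getElem_mem _)) hf

include hKb

theorem key (i : ℕ) {z : A} (hz : z ∈ gammaFil (ε : A →+* K) i) :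
    (∀ a, gamma (a + 1) (z * Malt d N) ∈ Ideal.span {Malt d N}) ∧
      gamma (d + i) (z * Malt d N) - (-1) ^ (d + i - 1) * ((d + i - 1).factorial : A) * (z * Malt d N) ∈
        Ideal.span {Malt d N} * gammaFil (ε : A →+* K) (i + 1) := by
  obtain ⟨q, hq⟩ : ∃ q, d + i = q + 1 := ⟨d + i - 1, by omega⟩
  rw [hq, Nat.add_sub_cancel]
  let F := gammaFilFil (ε : A →+* K)
  let M := Malt d N
  let I := Ideal.span {M}
  let Q : A → Prop := fun z => z ∈ gammaFil (ε : A →+* K) i ∧ (∀ a, gamma (a + 1) (z * M) ∈ I) ∧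
    gamma (q + 1) (z * M) - (-1) ^ q * (q.factorial : A) * (z * M) ∈ I * gammaFil (ε : A →+* K) (i + 1)
  have hzM : ∀ {z}, z ∈ gammaFil (ε : A →+* K) i → ∀ p, gamma (p + 1) (z * M) ∈ gammaFil (ε : A →+* K) (q + 1) :=
    fun {z} hz p => (gcong_of_mem hKb hA hε.isLambdaAlg
      (show z * M ∈ gammaFil (ε : A →+* K) (q + 1) by
        rw [← hq, add_comm]; exact F.mul hz (Malt_mem hA ε hε hd N hN hNε))).1 p
  have hle : gammaFil (ε : A →+* K) (q + 1) ≤ gammaFil (ε : A →+* K) (i + 1) := F.anti (by omega)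
  have hzero : Q 0 := ⟨zero_mem _, fun a => by rw [zero_mul, gamma_succ_zero]; exact zero_mem _,
    by rw [zero_mul, gamma_succ_zero, mul_zero, sub_zero]; exact zero_mem _⟩
  have hadd : ∀ {x y}, Q x → Q y → Q (x + y) := by
    rintro x y ⟨hx0, hx1, hx2⟩ ⟨hy0, hy1, hy2⟩
    refine ⟨add_mem hx0 hy0, fun a => ?_, ?_⟩
    · rw [add_mul, gamma_add]
      refine Ideal.sum_mem _ fun k hk => ?_
      rcases k with _ | k
      · rw [gamma_zero, one_mul, Nat.sub_zero]; exact hy1 a
      · exact Ideal.mul_mem_right _ _ (hx1 k)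
    · rw [add_mul, gamma_add, sum_range_succ, Nat.sub_self, gamma_zero, mul_one, sum_range_succ', Nat.sub_zero,
        gamma_zero, one_mul,
        show ∀ S : A, S + gamma (q + 1) (y * M) + gamma (q + 1) (x * M) -
            (-1) ^ q * (q.factorial : A) * (x * M + y * M) =
          S + ((gamma (q + 1) (x * M) - (-1) ^ q * (q.factorial : A) * (x * M)) +
            (gamma (q + 1) (y * M) - (-1) ^ q * (q.factorial : A) * (y * M))) from fun S => by ring]
      refine add_mem (Ideal.sum_mem _ fun k hk => ?_) (add_mem hx2 hy2)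
      have hkq : k < q := mem_range.1 hk
      obtain ⟨j, hj⟩ : ∃ j, q + 1 - (k + 1) = j + 1 := ⟨q - k - 1, by omega⟩
      rw [hj]
      exact Ideal.mul_mem_mul (hx1 k) (hle (hzM hy0 j))
  have hsmul : ∀ (c : K) {x}, Q x → Q (algebraMap K A c * x) := by
    rintro c x ⟨hx0, hx1, hx2⟩
    have hs : ∀ n, PowerSeries.coeff n (gammaSeries (x * M) - 1) ∈ I ∧
        PowerSeries.coeff n (gammaSeries (x * M) - 1) ∈ gammaFil (ε : A →+* K) (i + 1) := by
      intro n
      rcases n with _ | n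
      · rw [map_sub, coeff_gammaSeries, gamma_zero, PowerSeries.coeff_zero_one, sub_self]
        exact ⟨zero_mem _, zero_mem _⟩
      · rw [map_sub, coeff_gammaSeries, PowerSeries.coeff_one, if_neg (Nat.succ_ne_zero n), sub_zero]
        exact ⟨hx1 n, hle (hzM hx0 n)⟩
    have hpow : ∀ k n, PowerSeries.coeff n ((gammaSeries (x * M) - 1) ^ (k + 1)) ∈ I := by
      intro k n
      rw [pow_succ, PowerSeries.coeff_mul]
      exact Ideal.sum_mem _ fun y _ => Ideal.mul_mem_left _ _ (hs y.2).1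
    have hpow2 : ∀ k n, PowerSeries.coeff n ((gammaSeries (x * M) - 1) ^ (k + 1 + 1)) ∈
        I * gammaFil (ε : A →+* K) (i + 1) := by
      intro k n
      rw [pow_succ, PowerSeries.coeff_mul]
      exact Ideal.sum_mem _ fun y _ => Ideal.mul_mem_mul (hpow k y.1) (hs y.2).2
    refine ⟨Ideal.mul_mem_left _ _ hx0, fun a => ?_, ?_⟩
    · rw [mul_assoc, gamma_algebraMap_mul hKb hA hε.isLambdaAlg]
      refine Ideal.sum_mem _ fun k _ => Ideal.mul_mem_left _ _ ?_
      rcases k with _ | k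
      · rw [pow_zero, PowerSeries.coeff_one, if_neg (Nat.succ_ne_zero a)]; exact zero_mem _
      · exact hpow k _
    · rw [mul_assoc, gamma_algebraMap_mul hKb hA hε.isLambdaAlg, sum_range_succ', sum_range_succ', pow_zero,
        PowerSeries.coeff_one, if_neg (Nat.succ_ne_zero q), mul_zero, add_zero, zero_add, pow_one,
        Ring.choose_one_right, map_sub, coeff_gammaSeries, PowerSeries.coeff_one, if_neg (Nat.succ_ne_zero q),
        sub_zero,
        show ∀ S : A, S + algebraMap K A c * gamma (q + 1) (x * M) -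
            (-1) ^ q * (q.factorial : A) * (algebraMap K A c * (x * M)) =
          S + algebraMap K A c * (gamma (q + 1) (x * M) - (-1) ^ q * (q.factorial : A) * (x * M)) from
            fun S => by ring]
      exact add_mem (Ideal.sum_mem _ fun k _ => Ideal.mul_mem_left _ _ (hpow2 k _)) (Ideal.mul_mem_left _ _ hx2)
  suffices h : ∀ a, Q (a * z) by
    have h1 := h 1
    rw [one_mul] at h1
    exact ⟨h1.2.1, h1.2.2⟩
  refine Submodule.span_induction (p := fun z _ => ∀ a, Q (a * z)) ?_ ?_ ?_ ?_ hz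
  · rintro _ ⟨l, hl, hn, rfl⟩ a
    have hsplit : a * (l.map fun p => gamma p.1 p.2).prod =
        algebraMap K A (ε a) * (l.map fun p => gamma p.1 p.2).prod +
          algebraMap K A 1 * (((1, a - algebraMap K A (ε a)) :: l).map fun p => gamma p.1 p.2).prod := by
      rw [List.map_cons, List.prod_cons, gamma_one, map_one]; ring
    have hlist : ∀ l : List (ℕ × A), (∀ p ∈ l, (ε : A →+* K) p.2 = 0) → i ≤ (l.map Prod.fst).sum →
        Q (l.map fun p => gamma p.1 p.2).prod := fun l hl hn => by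
      have h := key_list hA ε hε hd N hN hNε i l hl hn
      rw [hq, Nat.add_sub_cancel] at h
      exact ⟨list_prod_mem_gammaFil _ l hl hn, h.1, h.2⟩
    rw [hsplit]
    refine hadd (hsmul _ (hlist l hl hn)) (hsmul _ (hlist _ ?_ ?_))
    · intro p hp
      rcases List.mem_cons.1 hp with rfl | hp
      · simp
      · exact hl p hp
    · rw [List.map_cons, List.sum_cons]; omega
  · intro a; rw [mul_zero]; exact hzero
  · intro x y _ _ hx hy a; rw [mul_add]; exact hadd (hx a) (hy a)
  · intro b x _ hx a; rw [smul_eq_mul, ← mul_assoc]; exact hx (a * b)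

end eval

end Groth.Agent.Lambda.AltDiv
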