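import Groth.Agent.Lambda.LamAltDiv

/-!
# `γ^p(x · λ_(-1)N)` divided by `λ_(-1)N` lies in `Fil^(p - d)`
-/

set_option autoImplicit false

open Finset LambdaRing MvPolynomial

namespace Groth.Agent.Lambda.AltDiv

open Groth.Agent.Lambda
open scoped Groth.Agent.Lambda.Free Groth.Agent.Lambda.Line
open Groth.Agent.Lambda.Free (FZ evZ evZ_lam evZ_gamma evZ_X evZ_mem)

universe u v

variable {σ : Type} {d : ℕ}

theorem exists_quotient_any (hd : 1 ≤ d) (a : ℕ) (f' : FZ (Option σ)) :
    ∃ H : FZ (Option σ), H ∈ (wFil ℤ (Option σ)).W (a + 1 - d) ∧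
      trunc d (gamma (a + 1) (f' * altM σ d)) = altM σ d * H := by
  have hmem : f' * altM σ d ∈ (wFil ℤ (Option σ)).W 1 :=
    Ideal.mul_mem_left _ _ ((wFil ℤ _).anti hd (altM_mem hd))
  have hD := trunc_mem (d := d) (Free.gammaZ_mem_self hmem (a + 1))
  obtain ⟨H, hH⟩ := dvd_trunc_gamma hd f' a
  refine ⟨(-1) ^ d * H, Ideal.mul_mem_left _ _ ?_, ?_⟩
  · by_cases hle : d ≤ a + 1
    · refine mem_of_X_mul_mem (v := ((none : Option σ), d - 1)) ?_
      rw [← hH]
      rwa [show a + 1 - d + (d - 1 + 1) = a + 1 by omega]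
    · rw [show a + 1 - d = 0 by omega]
      exact (wFil ℤ _).mem_zero _
  · rw [hH, altM_eq hd,
      show ((-1 : FZ (Option σ)) ^ d * X (none, d - 1)) * ((-1) ^ d * H) =
        ((-1) ^ d * (-1) ^ d) * (X (none, d - 1) * H) by ring,
      ← pow_add, ← two_mul, pow_mul, neg_one_sq, one_pow, one_mul]

variable {K : Type u} [CommRing K] [LambdaOps K] [BinomialRing K] {A : Type v} [CommRing A] [LambdaOps A]
  [Algebra K A] (hKb : IsBinomial K) (hA : IsSpecial A) (ε : A →ₐ[K] K) (hε : IsAugLambdaAlg K A ε)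
  (hd : 1 ≤ d) (N : A) (hN : ∀ k, d < k → LambdaOps.lam k N = 0) (hNε : ε N = (d : K))

include hA hε hd hN hNε

theorem key_eval_any (x : σ → A) (hx : ∀ s, ε (x s) = 0) (f : FZ σ) (a : ℕ) :
    gamma (a + 1) (evZ x f * Malt d N) ∈ Ideal.span {Malt d N} * gammaFil (ε : A →+* K) (a + 1 - d) := by
  obtain ⟨hM, htr, hmem⟩ := eval_data (σ := σ) hA ε hε hd N hN hNε x hx
  have hev : evZ (fun o : Option σ => o.elim (N - (d : A)) x) (rename (fun v : σ × ℕ => (some v.1, v.2)) f) =
      evZ x f := by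
    refine RingHom.congr_fun (f := (evZ fun o : Option σ => o.elim (N - (d : A)) x).comp
        (rename fun v : σ × ℕ => (some v.1, v.2)).toRingHom)
      (g := evZ x) (ringHom_ext' (RingHom.ext_int _ _) fun v => ?_) f
    simp [Free.evZ]
  obtain ⟨H, hH, heq⟩ := exists_quotient_any hd a (rename (fun v : σ × ℕ => (some v.1, v.2)) f)
  generalize rename (fun v : σ × ℕ => (some v.1, v.2)) f = f' at hev heq
  generalize (fun o : Option σ => o.elim (N - (d : A)) x) = y at hM htr hmem hev
  have h := congrArg (evZ y) heq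
  rw [htr, evZ_gamma hA, map_mul, map_mul, hev, hM] at h
  rw [h]
  exact Ideal.mul_mem_mul (Ideal.mem_span_singleton_self _) (hmem hH)

theorem key_list_any (l : List (ℕ × A)) (hl : ∀ p ∈ l, (ε : A →+* K) p.2 = 0) (a : ℕ) :
    gamma (a + 1) ((l.map fun p => gamma p.1 p.2).prod * Malt d N) ∈
      Ideal.span {Malt d N} * gammaFil (ε : A →+* K) (a + 1 - d) := by
  let x : Fin l.length → A := fun s => (l[(s : ℕ)]).2
  let g : Fin l.length → FZ (Fin l.length) := fun s => gamma (l[(s : ℕ)]).1 (X (s, 0))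
  have hev : evZ x (∏ s, g s) = (l.map fun p => gamma p.1 p.2).prod := by
    rw [map_prod, ← Fin.prod_univ_fun_getElem]
    refine prod_congr rfl fun s _ => ?_
    simp only [g]
    rw [evZ_gamma hA, Free.evZ_X, zero_add, gamma_one]
  rw [← hev]
  exact key_eval_any hA ε hε hd N hN hNε x (fun s => hl _ (List.getElem_mem _)) _ a

include hKb

theorem key_any (z : A) (a : ℕ) :
    gamma (a + 1) (z * Malt d N) ∈ Ideal.span {Malt d N} * gammaFil (ε : A →+* K) (a + 1 - d) := by
  let F := gammaFilFil (ε : A →+* K)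
  let M := Malt d N
  let J : ℕ → Ideal A := fun n => Ideal.span {M} * gammaFil (ε : A →+* K) (n - d)
  have hJ : ∀ n, J n ≤ gammaFil (ε : A →+* K) n := fun n => by
    refine Ideal.mul_le.2 fun m hm w hw => ?_
    obtain ⟨c, rfl⟩ := Ideal.mem_span_singleton'.1 hm
    exact F.anti (by omega : n ≤ d + (n - d))
      (F.mul (Ideal.mul_mem_left _ c (Malt_mem hA ε hε hd N hN hNε)) hw)
  have hmul : ∀ {p q n : ℕ} {u w : A}, n ≤ p + q → u ∈ J p → w ∈ gammaFil (ε : A →+* K) q → u * w ∈ J n := by
    intro p q n u w hn hu hw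
    have h : u * w ∈ Ideal.span {M} * gammaFil (ε : A →+* K) (p - d) * gammaFil (ε : A →+* K) q :=
      Ideal.mul_mem_mul hu hw
    rw [mul_assoc] at h
    exact Ideal.mul_mono_right ((Ideal.mul_le.2 fun a ha b hb => F.mul ha hb).trans (F.anti (by omega))) h
  let Q : A → Prop := fun z => ∀ a, gamma (a + 1) (z * M) ∈ J (a + 1)
  have hadd : ∀ {x y}, Q x → Q y → Q (x + y) := by
    intro x y hx hy a
    rw [add_mul, gamma_add]
    refine Ideal.sum_mem _ fun k hk => ?_
    have hk' : k ≤ a + 1 := Nat.lt_succ_iff.1 (mem_range.1 hk)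
    rcases k with _ | k
    · rw [gamma_zero, one_mul, Nat.sub_zero]; exact hy a
    · rcases Nat.eq_or_lt_of_le hk' with h | h
      · rw [← h, Nat.sub_self, gamma_zero, mul_one]; exact hx k
      · obtain ⟨j, hj⟩ : ∃ j, a + 1 - (k + 1) = j + 1 := ⟨a - k - 1, by omega⟩
        rw [hj]
        exact hmul (by omega) (hx k) (hJ _ (hy j))
  have hsmul : ∀ (c : K) {x}, Q x → Q (algebraMap K A c * x) := by
    intro c x hx a
    have hs : ∀ n, PowerSeries.coeff n (gammaSeries (x * M) - 1) ∈ J n := by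
      intro n
      rcases n with _ | n
      · rw [map_sub, coeff_gammaSeries, gamma_zero, PowerSeries.coeff_zero_one, sub_self]
        exact zero_mem _
      · rw [map_sub, coeff_gammaSeries, PowerSeries.coeff_one, if_neg (Nat.succ_ne_zero n), sub_zero]
        exact hx n
    have hpow : ∀ k n, PowerSeries.coeff n ((gammaSeries (x * M) - 1) ^ (k + 1)) ∈ J n := by
      intro k
      induction k with
      | zero => simpa using hs
      | succ k ih =>
        intro n
        rw [pow_succ, PowerSeries.coeff_mul]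
        exact Ideal.sum_mem _ fun y hy => hmul (by rw [mem_antidiagonal.1 hy]) (ih y.1) (hJ _ (hs y.2))
    rw [mul_assoc, gamma_algebraMap_mul hKb hA hε.isLambdaAlg]
    refine Ideal.sum_mem _ fun k _ => Ideal.mul_mem_left _ _ ?_
    rcases k with _ | k
    · rw [pow_zero, PowerSeries.coeff_one, if_neg (Nat.succ_ne_zero a)]; exact zero_mem _
    · exact hpow k _
  have h1 : Q 1 := fun a => key_list_any hA ε hε hd N hN hNε [] (by simp) a
  have h2 : Q (z - algebraMap K A (ε z)) := fun a => by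
    have h := key_list_any hA ε hε hd N hN hNε [(1, z - algebraMap K A (ε z))]
      (by intro p hp; rw [List.mem_singleton] at hp; subst hp; simp) a
    simpa [gamma_one] using h
  have h3 := hadd (hsmul (ε z) h1) h2
  rw [mul_one, add_sub_cancel] at h3
  exact h3 a

end Groth.Agent.Lambda.AltDiv
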