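import Groth.Prelude.Def_LambdaSp
import Groth.Agent.Lambda.Series

/-!
# Pre-λ-rings: `λ_t` is exponential, the Adams operations are the power sums of `λ_t`
-/

set_option autoImplicit false

open PowerSeries Finset LambdaRing

namespace Groth.Agent.Lambda

universe u

variable {K : Type u} [CommRing K] [LambdaOps K]

@[simp] theorem coeff_lamSeries (x : K) (n : ℕ) :
    coeff n (lamSeries x) = LambdaOps.lam n x := by
  simp [lamSeries]

@[simp] theorem constantCoeff_lamSeries (x : K) : constantCoeff (lamSeries x) = 1 := by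
  rw [← coeff_zero_eq_constantCoeff_apply, coeff_lamSeries, LambdaOps.lam_zero]

theorem lamSeries_add (x y : K) : lamSeries (x + y) = lamSeries x * lamSeries y := by
  ext n
  rw [coeff_lamSeries, LambdaOps.lam_add, coeff_mul, Nat.sum_antidiagonal_eq_sum_range_succ_mk]
  simp

theorem isUnit_lamSeries (x : K) : IsUnit (lamSeries x) :=
  PowerSeries.isUnit_iff_constantCoeff.2 (by simp)

@[simp] theorem lamSeries_zero : lamSeries (0 : K) = 1 := by
  have h := lamSeries_add (0 : K) 0
  rw [add_zero] at h
  exact (isUnit_lamSeries 0).mul_left_cancel (by rw [mul_one]; exact h.symm)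

theorem lamSeries_neg_mul (x : K) : lamSeries (-x) * lamSeries x = 1 := by
  rw [← lamSeries_add, neg_add_cancel, lamSeries_zero]

theorem lamSeries_sum {ι : Type*} (s : Finset ι) (f : ι → K) :
    lamSeries (∑ i ∈ s, f i) = ∏ i ∈ s, lamSeries (f i) := by
  classical
  induction s using Finset.induction_on with
  | empty => simp
  | insert a s ha ih => rw [sum_insert ha, prod_insert ha, lamSeries_add, ih]

theorem lamSeries_multiset_sum (s : Multiset K) : lamSeries s.sum = (s.map lamSeries).prod := by
  induction s using Multiset.induction_on with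
  | empty => simp
  | cons a s ih => rw [Multiset.sum_cons, lamSeries_add, ih, Multiset.map_cons, Multiset.prod_cons]

theorem lamSeries_eq_lin {u : K} (hu : ∀ j : ℕ, 2 ≤ j → LambdaOps.lam j u = 0) :
    lamSeries u = lin u := by
  ext n
  rcases n with _ | _ | n
  · simp [LambdaOps.lam_zero]
  · simp [LambdaOps.lam_one, lin]
  · simp [hu (n + 2) (by omega), lin]

theorem lamSeries_sum_linear (s : Multiset K) (hs : ∀ u ∈ s, ∀ j : ℕ, 2 ≤ j → LambdaOps.lam j u = 0) :
    lamSeries s.sum = linProd s := by
  rw [lamSeries_multiset_sum, linProd, Multiset.map_congr rfl fun u hu => lamSeries_eq_lin (hs u hu)]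

theorem adamsOp_eq_psi (k : ℕ) (x : K) : adamsOp k x = psi (lamSeries x) k := by
  cases k <;> rfl

@[simp] theorem adamsOp_zero_left (x : K) : adamsOp 0 x = 0 := rfl

theorem adamsOp_add (k : ℕ) (x y : K) : adamsOp k (x + y) = adamsOp k x + adamsOp k y := by
  rw [adamsOp_eq_psi, adamsOp_eq_psi, adamsOp_eq_psi, lamSeries_add,
    psi_mul (constantCoeff_lamSeries x) (constantCoeff_lamSeries y)]

/-- `ψ^k` as an additive map. -/
noncomputable def adamsHom (k : ℕ) : K →+ K := AddMonoidHom.mk' (adamsOp k) (adamsOp_add k)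

theorem adamsOp_one_apply (x : K) : adamsOp 1 x = x := by
  rw [adamsOp_eq_psi, psi_one_eq (constantCoeff_lamSeries x), coeff_lamSeries, LambdaOps.lam_one]

theorem adamsOp_of_linear {u : K} (hu : ∀ j : ℕ, 2 ≤ j → LambdaOps.lam j u = 0) (k : ℕ) :
    adamsOp (k + 1) u = u ^ (k + 1) := by
  rw [adamsOp_eq_psi, lamSeries_eq_lin hu, psi_lin]

theorem lamSeries_map {K' : Type u} [CommRing K'] [LambdaOps K'] {f : K →+* K'} (hf : IsLambdaHom f)
    (x : K) : PowerSeries.map f (lamSeries x) = lamSeries (f x) := by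
  ext n; simp [hf n x]

theorem map_adamsOp {K' : Type u} [CommRing K'] [LambdaOps K'] {f : K →+* K'} (hf : IsLambdaHom f)
    (k : ℕ) (x : K) : f (adamsOp k x) = adamsOp k (f x) := by
  rw [adamsOp_eq_psi, adamsOp_eq_psi, psi_map f (constantCoeff_lamSeries x), lamSeries_map hf]

theorem lamSeries_eq_fromPsi [Algebra ℚ K] (x : K) : lamSeries x = fromPsi fun k => adamsOp k x := by
  have : (fun k => adamsOp k x) = psi (lamSeries x) := funext fun k => adamsOp_eq_psi k x
  rw [this, fromPsi_psi (constantCoeff_lamSeries x)]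

theorem lam_eq_fc [Algebra ℚ K] (n : ℕ) (x : K) :
    LambdaOps.lam n x = fc (fun k => adamsOp k x) n := by
  rw [← coeff_lamSeries, lamSeries_eq_fromPsi]
  simp [fromPsi]

end Groth.Agent.Lambda
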